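import Mathlib
import Cfsg.Prelude.Def_GeometricClasses
import Cfsg.Agent.Lib.Classical.HermForm

/-!
Subgroups of the unitary group in odd dimension: reducible case, orthogonality of eigenlines,
adjoint-closed commutants.
-/

set_option autoImplicit false

namespace Cfsg.Agent.Lib.UnitPrimeDim

open scoped MatrixGroups Matrix
open Cfsg.Geo

variable {F : Type*} [Field F] [Fintype F] {q n : ℕ}

local notation "f" => Cfsg.hermForm n F q

theorem herm_symm (hF : Fintype.card F = q ^ 2) (u v : Fin n → F) : (f u v) ^ q = f v u := by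
  rw [← Classical.conjHom_apply hF, Classical.hermForm_conj]

theorem herm_eq_zero_symm (hF : Fintype.card F = q ^ 2) {u v : Fin n → F} (h : f u v = 0) :
    f v u = 0 := by
  rw [← herm_symm hF, h, Classical.zero_pow_q hF]

theorem herm_add_left (x y v : Fin n → F) : f (x + y) v = f x v + f y v := by
  simp only [Cfsg.hermForm, Pi.add_apply, add_mul, Finset.sum_add_distrib]

theorem herm_smul_left (c : F) (x v : Fin n → F) : f (c • x) v = c * f x v := by
  simp only [Cfsg.hermForm, Pi.smul_apply, smul_eq_mul, Finset.mul_sum, mul_assoc]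

theorem herm_smul_right (c : F) (x v : Fin n → F) : f x (c • v) = c ^ q * f x v := by
  simp only [Cfsg.hermForm, Pi.smul_apply, smul_eq_mul, Finset.mul_sum, mul_pow]
  exact Finset.sum_congr rfl fun i _ => by ring

theorem herm_nondeg (hF : Fintype.card F = q ^ 2) {v : Fin n → F} (h : ∀ x, f x v = 0) : v = 0 := by
  refine (Classical.hermBilin_nondegenerate hF n).1 v fun y => ?_
  exact h y

/-- The functional `x ↦ f x v`, linear in `x`. -/
def hermLeft (n : ℕ) (F : Type*) [Field F] (q : ℕ) (v : Fin n → F) : (Fin n → F) →ₗ[F] F where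
  toFun x := Cfsg.hermForm n F q x v
  map_add' x y := by simp only [Cfsg.hermForm, Pi.add_apply, add_mul, Finset.sum_add_distrib]
  map_smul' c x := by
    simp only [Cfsg.hermForm, Pi.smul_apply, smul_eq_mul, Finset.mul_sum, mul_assoc,
      RingHom.id_apply]

/-- The map `v ↦ f x v`, additive. -/
noncomputable def hermRight (hF : Fintype.card F = q ^ 2) (x : Fin n → F) : (Fin n → F) →+ F where
  toFun v := f x v
  map_zero' := by simp [Cfsg.hermForm, Classical.zero_pow_q hF]
  map_add' a b := by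
    simp only [Cfsg.hermForm, Pi.add_apply, ← Classical.conjHom_apply hF, map_add, mul_add,
      Finset.sum_add_distrib]

/-- The orthogonal of `W`. -/
def hperp (n : ℕ) (F : Type*) [Field F] (q : ℕ) (W : Submodule F (Fin n → F)) :
    Submodule F (Fin n → F) :=
  ⨅ w : W, LinearMap.ker (hermLeft n F q (w : Fin n → F))

theorem mem_hperp {W : Submodule F (Fin n → F)} {x : Fin n → F} :
    x ∈ hperp n F q W ↔ ∀ w ∈ W, f x w = 0 := by
  simp only [hperp, Submodule.mem_iInf, LinearMap.mem_ker]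
  exact ⟨fun h w hw => h ⟨w, hw⟩, fun h w => h w w.2⟩

theorem mem_stab_iff {g : GL (Fin n) F} {W : Submodule F (Fin n → F)} :
    g ∈ subspaceStabilizer W ↔ ∀ v, v ∈ W ↔ (g : Matrix (Fin n) (Fin n) F) *ᵥ v ∈ W := Iff.rfl

/-- A subgroup mapping a subspace into itself stabilises it. -/
theorem le_stab {H : Subgroup (GL (Fin n) F)} {W : Submodule F (Fin n → F)}
    (hW : ∀ g ∈ H, ∀ v ∈ W, (g : Matrix (Fin n) (Fin n) F) *ᵥ v ∈ W) :
    H ≤ subspaceStabilizer W := by
  intro g hg
  refine mem_stab_iff.2 fun v => ⟨hW g hg v, fun h => ?_⟩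
  have h' := hW g⁻¹ (inv_mem hg) _ h
  rwa [Matrix.mulVec_mulVec, ← Units.val_mul, inv_mul_cancel, Units.val_one,
    Matrix.one_mulVec] at h'

theorem hperp_invariant {H : Subgroup (GL (Fin n) F)} (hH : H ≤ Cfsg.GU n F q)
    {W : Submodule F (Fin n → F)}
    (hW : ∀ g ∈ H, ∀ v ∈ W, (g : Matrix (Fin n) (Fin n) F) *ᵥ v ∈ W) :
    ∀ g ∈ H, ∀ v ∈ hperp n F q W, (g : Matrix (Fin n) (Fin n) F) *ᵥ v ∈ hperp n F q W := by
  intro g hg v hv
  rw [mem_hperp] at hv ⊢
  intro w hw
  have h1 := hv _ (hW g⁻¹ (inv_mem hg) w hw)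
  have h2 : f ((g : Matrix (Fin n) (Fin n) F) *ᵥ v)
      ((g : Matrix (Fin n) (Fin n) F) *ᵥ (((g⁻¹ : GL (Fin n) F) : Matrix (Fin n) (Fin n) F) *ᵥ w))
      = f v (((g⁻¹ : GL (Fin n) F) : Matrix (Fin n) (Fin n) F) *ᵥ w) := hH hg _ _
  rw [Matrix.mulVec_mulVec, ← Units.val_mul, mul_inv_cancel, Units.val_one, Matrix.one_mulVec,
    h1] at h2
  exact h2

theorem finrank_hperp_ge (hF : Fintype.card F = q ^ 2) (W : Submodule F (Fin n → F)) :
    n ≤ Module.finrank F W + Module.finrank F (hperp n F q W) := by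
  classical
  let b := Module.finBasis F W
  let L : (Fin n → F) →ₗ[F] (Fin (Module.finrank F W) → F) :=
    LinearMap.pi fun i => hermLeft n F q ((b i : W) : Fin n → F)
  have hker : LinearMap.ker L ≤ hperp n F q W := by
    intro x hx
    rw [mem_hperp]
    intro w hw
    have hL : ∀ i, f x ((b i : W) : Fin n → F) = 0 := fun i => congrFun hx i
    have hz : f x w = 0 := by
      have hsum := congrArg (fun z : W => (z : Fin n → F)) (b.sum_repr ⟨w, hw⟩)
      simp only [Submodule.coe_sum, Submodule.coe_smul] at hsum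
      have := map_sum (hermRight hF x) (fun i => b.repr ⟨w, hw⟩ i • ((b i : W) : Fin n → F))
        Finset.univ
      rw [hsum] at this
      refine this.trans (Finset.sum_eq_zero fun i _ => ?_)
      show f x (b.repr ⟨w, hw⟩ i • ((b i : W) : Fin n → F)) = 0
      rw [herm_smul_right, hL i, mul_zero]
    exact hz
  have h1 := LinearMap.finrank_range_add_finrank_ker L
  have h2 := Submodule.finrank_le (LinearMap.range L)
  have h3 := Submodule.finrank_mono hker
  simp only [Module.finrank_fin_fun] at h1 h2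
  omega

/-- The reducible case: `H` is the stabiliser of a totally singular subspace, or of a non-degenerate
subspace of dimension less than `n / 2`. -/
theorem reducible (hF : Fintype.card F = q ^ 2) (hn : Odd n) {M H : Subgroup (GL (Fin n) F)}
    (hMU : M ≤ Cfsg.GU n F q) (hH : IsMaximalIn M H)
    (hirr : ∀ W : Submodule F (Fin n → F), M ≤ subspaceStabilizer W → W = ⊥ ∨ W = ⊤)
    {W : Submodule F (Fin n → F)} (hW0 : W ≠ ⊥) (hW1 : W ≠ ⊤)
    (hW : ∀ g ∈ H, ∀ v ∈ W, (g : Matrix (Fin n) (Fin n) F) *ᵥ v ∈ W) :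
    (∃ W : Submodule F (Fin n → F), W ≠ ⊥ ∧ IsTotallySingularFor f W ∧
      H = subspaceStabilizer W ⊓ M) ∨
    (∃ W : Submodule F (Fin n → F), W ≠ ⊥ ∧ IsNondegenerateOn f W ∧
      2 * Module.finrank F W < n ∧ H = subspaceStabilizer W ⊓ M) := by
  have hHU : H ≤ Cfsg.GU n F q := hH.1.le.trans hMU
  have eq_of : ∀ U : Submodule F (Fin n → F), U ≠ ⊥ → U ≠ ⊤ →
      (∀ g ∈ H, ∀ v ∈ U, (g : Matrix (Fin n) (Fin n) F) *ᵥ v ∈ U) →
      H = subspaceStabilizer U ⊓ M := by
    intro U hU0 hU1 hU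
    rcases hH.2 (subspaceStabilizer U ⊓ M) (le_inf (le_stab hU) hH.1.le) inf_le_right with h | h
    · exact h.symm
    · rcases hirr U (by rw [← h]; exact inf_le_left) with h' | h'
      · exact absurd h' hU0
      · exact absurd h' hU1
  by_cases hU : W ⊓ hperp n F q W = ⊥
  · right
    have hperp' : ∀ x ∈ W, ∀ y ∈ hperp n F q W, f x y = 0 :=
      fun x hx y hy => herm_eq_zero_symm hF (mem_hperp.1 hy x hx)
    have hge := finrank_hperp_ge hF W
    have hsum := Submodule.finrank_sup_add_finrank_inf_eq W (hperp n F q W)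
    rw [hU, finrank_bot, add_zero] at hsum
    have hle := Submodule.finrank_le (W ⊔ hperp n F q W)
    rw [Module.finrank_fin_fun] at hle
    have htop : W ⊔ hperp n F q W = ⊤ :=
      Submodule.eq_top_of_finrank_eq (by rw [Module.finrank_fin_fun]; omega)
    have hdec : ∀ x, ∃ a ∈ W, ∃ b ∈ hperp n F q W, a + b = x := fun x =>
      Submodule.mem_sup.1 (htop ▸ Submodule.mem_top : x ∈ W ⊔ hperp n F q W)
    have hnd : ∀ U U' : Submodule F (Fin n → F), (∀ x ∈ U', ∀ w ∈ U, f x w = 0) →
        (∀ x, ∃ a ∈ U, ∃ b ∈ U', a + b = x) → IsNondegenerateOn f U := by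
      intro U U' hUU hd w hw hw0
      have : ∃ x ∈ U, f x w ≠ 0 := by
        by_contra hcon
        push_neg at hcon
        refine hw0 (herm_nondeg hF fun x => ?_)
        obtain ⟨a, ha, b, hb, rfl⟩ := hd x
        rw [herm_add_left, hcon a ha, hUU b hb w hw, add_zero]
      obtain ⟨x, hx, hx0⟩ := this
      exact ⟨⟨x, hx, hx0⟩, ⟨x, hx, fun h => hx0 (herm_eq_zero_symm hF h)⟩⟩
    have hW'1 : hperp n F q W ≠ ⊤ := by
      intro h
      apply hW0
      rwa [h, inf_top_eq] at hU
    have hW'0 : hperp n F q W ≠ ⊥ := by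
      intro h
      apply hW1
      rwa [h, sup_bot_eq] at htop
    have hWd : Module.finrank F W + Module.finrank F (hperp n F q W) = n := by omega
    obtain ⟨k, hk⟩ := hn
    rcases Nat.lt_or_ge (2 * Module.finrank F W) n with hlt | hge'
    · exact ⟨W, hW0, hnd W _ (fun x hx w hw => mem_hperp.1 hx w hw) hdec, hlt,
        eq_of W hW0 hW1 hW⟩
    · refine ⟨hperp n F q W, hW'0, hnd _ W hperp' (fun x => ?_), by omega,
        eq_of _ hW'0 hW'1 (hperp_invariant hHU hW)⟩
      obtain ⟨a, ha, b, hb, h⟩ := hdec x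
      exact ⟨b, hb, a, ha, by rw [add_comm]; exact h⟩
  · left
    refine ⟨W ⊓ hperp n F q W, hU, fun u hu v hv => mem_hperp.1 hu.2 v hv.1, ?_⟩
    refine eq_of _ hU (fun h => hW1 (eq_top_iff.2 (h ▸ inf_le_left))) fun g hg v hv => ?_
    exact ⟨hW g hg v hv.1, hperp_invariant hHU hW g hg v hv.2⟩

/-- Eigenlines of an abelian normal subgroup of isometries are pairwise orthogonal and
non-degenerate, when `H` is irreducible and `n` is odd. -/
theorem lines_orthogonal (hF : Fintype.card F = q ^ 2) (hn : Odd n)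
    {H N : Subgroup (GL (Fin n) F)} (hHU : H ≤ Cfsg.GU n F q) (hNH : N ≤ H)
    (hirr : ∀ W : Submodule F (Fin n → F),
      (∀ g ∈ H, ∀ v ∈ W, (g : Matrix (Fin n) (Fin n) F) *ᵥ v ∈ W) → W = ⊥ ∨ W = ⊤)
    {t : ℕ} (D : Fin t → Submodule F (Fin n → F)) (hD : IsMDecomposition 1 D)
    (ht : t = n) (hHD : H ≤ decompositionStabilizer D)
    (χ : Fin t → GL (Fin n) F → F)
    (hχ : ∀ i, ∀ g ∈ N, ∀ v ∈ D i, (g : Matrix (Fin n) (Fin n) F) *ᵥ v = χ i g • v)
    (hinj : ∀ i j, (∀ g ∈ N, χ i g = χ j g) → i = j) :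
    IsNondegenerateMDecomposition f 1 D := by
  classical
  have hd : ∀ i, ∃ d : Fin n → F, d ≠ 0 ∧ D i = Submodule.span F {d} := by
    intro i
    obtain ⟨d, hd, hd0⟩ := Submodule.exists_mem_ne_zero_of_ne_bot (p := D i) (by
      intro h; have := hD.finrank_eq i; rw [h, finrank_bot] at this; omega)
    refine ⟨d, hd0, (Submodule.eq_of_le_of_finrank_le ?_ ?_).symm⟩
    · exact (Submodule.span_singleton_le_iff_mem _ _).2 hd
    · rw [finrank_span_singleton hd0, hD.finrank_eq]
  choose d hd0 hspan using hd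
  have hmem : ∀ i, d i ∈ D i := fun i => hspan i ▸ Submodule.mem_span_singleton_self _
  have hprod : ∀ i j, f (d i) (d j) ≠ 0 → ∀ g ∈ N, χ i g * χ j g ^ q = 1 := by
    intro i j hij g hg
    have h : f ((g : Matrix (Fin n) (Fin n) F) *ᵥ d i) ((g : Matrix (Fin n) (Fin n) F) *ᵥ d j)
        = f (d i) (d j) := hHU (hNH hg) _ _
    rw [hχ i g hg _ (hmem i), hχ j g hg _ (hmem j), herm_smul_left, herm_smul_right] at h
    have : (χ i g * χ j g ^ q - 1) * f (d i) (d j) = 0 := by linear_combination h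
    exact sub_eq_zero.1 ((mul_eq_zero.1 this).resolve_right hij)
  have huniq : ∀ i j k, f (d i) (d j) ≠ 0 → f (d k) (d j) ≠ 0 → i = k := by
    intro i j k h1 h2
    refine hinj i k fun g hg => ?_
    have e1 := hprod i j h1 g hg
    have e2 := hprod k j h2 g hg
    calc χ i g = χ i g * (χ k g * χ j g ^ q) := by rw [e2, mul_one]
      _ = χ k g * (χ i g * χ j g ^ q) := by ring
      _ = χ k g := by rw [e1, mul_one]
  have hex : ∀ j, ∃ i, f (d i) (d j) ≠ 0 := by
    intro j
    by_contra hcon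
    push_neg at hcon
    refine hd0 j (herm_nondeg hF fun x => ?_)
    have hle : (⊤ : Submodule F (Fin n → F)) ≤ LinearMap.ker (hermLeft n F q (d j)) := by
      rw [← hD.iSup_eq_top]
      refine iSup_le fun i => ?_
      rw [hspan i, Submodule.span_singleton_le_iff_mem]
      exact hcon i
    exact hle (Submodule.mem_top (x := x))
  choose π hπ using hex
  have hπ_eq : ∀ i j, f (d i) (d j) ≠ 0 → π j = i := fun i j h => huniq _ j _ (hπ j) h
  have hinv : ∀ j, π (π j) = j := fun j =>
    hπ_eq j (π j) fun h => hπ j (herm_eq_zero_symm hF h)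
  have hfix : ∃ i, π i = i := by
    by_contra hcon
    push_neg at hcon
    let e : Equiv.Perm (Fin t) := ⟨π, π, hinv, hinv⟩
    have he : e ^ 2 = 1 := Equiv.ext fun j => hinv j
    have hcard := Equiv.Perm.card_compl_support_modEq (p := 2) (n := 1) (σ := e) (by simpa using he)
    have hsupp : e.support = Finset.univ := Finset.eq_univ_iff_forall.2 fun j =>
      Equiv.Perm.mem_support.2 (hcon j)
    rw [hsupp, Finset.compl_univ, Finset.card_empty, Fintype.card_fin, ht] at hcard
    obtain ⟨k, hk⟩ := hn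
    have := hcard.symm
    simp only [Nat.ModEq] at this
    omega
  have hall : ∀ i, π i = i := by
    let S : Submodule F (Fin n → F) := ⨆ (i) (_ : π i = i), D i
    have hS : ∀ g ∈ H, ∀ v ∈ S, (g : Matrix (Fin n) (Fin n) F) *ᵥ v ∈ S := by
      intro g hg
      obtain ⟨σ, hσ⟩ := hHD hg
      have hle : S ≤ S.comap (Matrix.toLin' (g : Matrix (Fin n) (Fin n) F)) := by
        refine iSup₂_le fun i hi => Submodule.map_le_iff_le_comap.1 ?_
        rw [hσ i]
        refine le_iSup₂_of_le (σ i) ?_ le_rfl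
        have hgd : (g : Matrix (Fin n) (Fin n) F) *ᵥ d i ∈ D (σ i) := by
          rw [← hσ i]
          exact ⟨d i, hmem i, Matrix.toLin'_apply _ _⟩
        rw [hspan, Submodule.mem_span_singleton] at hgd
        obtain ⟨c, hc⟩ := hgd
        refine hπ_eq _ _ fun h0 => hπ i ?_
        rw [hi]
        have h : f ((g : Matrix (Fin n) (Fin n) F) *ᵥ d i) ((g : Matrix (Fin n) (Fin n) F) *ᵥ d i)
            = f (d i) (d i) := hHU hg _ _
        rw [← h, ← hc, herm_smul_left, herm_smul_right, h0, mul_zero, mul_zero]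
      intro v hv
      simpa [Matrix.toLin'_apply] using hle hv
    intro i
    rcases hirr S hS with h | h
    · obtain ⟨j, hj⟩ := hfix
      exfalso
      have hjS : D j ≤ S := le_iSup₂_of_le j hj le_rfl
      rw [h] at hjS
      exact hd0 j ((Submodule.mem_bot F).1 (hjS (hmem j)))
    · by_contra hi
      have hdis : Disjoint (D i) S := by
        refine (hD.indep i).mono_right (iSup₂_le fun k hk => ?_)
        exact le_iSup₂_of_le k (fun hki => hi (hki ▸ hk)) le_rfl
      rw [h, disjoint_top] at hdis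
      exact hd0 i ((Submodule.mem_bot F).1 (hdis ▸ hmem i))
  refine ⟨hD, fun i w hw hw0 => ?_, fun i j hij u hu v hv => ?_⟩
  · rw [hspan i, Submodule.mem_span_singleton] at hw
    obtain ⟨c, rfl⟩ := hw
    have hc : c ≠ 0 := fun h => hw0 (by rw [h, zero_smul])
    have hii : f (d i) (d i) ≠ 0 := by have := hπ i; rwa [hall i] at this
    refine ⟨⟨d i, hmem i, ?_⟩, ⟨d i, hmem i, ?_⟩⟩
    · rw [herm_smul_right]; exact mul_ne_zero (pow_ne_zero _ hc) hii
    · rw [herm_smul_left]; exact mul_ne_zero hc hii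
  · rw [hspan i, Submodule.mem_span_singleton] at hu
    rw [hspan j, Submodule.mem_span_singleton] at hv
    obtain ⟨a, rfl⟩ := hu
    obtain ⟨b, rfl⟩ := hv
    have : f (d i) (d j) = 0 := by
      by_contra h
      exact hij ((hπ_eq i j h).symm.trans (hall j))
    rw [herm_smul_left, herm_smul_right, this, mul_zero, mul_zero]

/-- A commutant of a group of isometries is adjoint closed. -/
theorem adjointClosed_of_commutant (hF : Fintype.card F = q ^ 2)
    {H : Subgroup (GL (Fin n) F)} (hHU : H ≤ Cfsg.GU n F q)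
    (K : Subalgebra F (Matrix (Fin n) (Fin n) F))
    (hK : ∀ x, x ∈ K ↔ ∀ g ∈ H, (g : Matrix (Fin n) (Fin n) F) * x = x * (g : Matrix (Fin n) (Fin n) F)) :
    IsAdjointClosedFor f K := by
  intro k hk
  let σ := Classical.conjHom hF
  refine ⟨(k.map σ)ᵀ, (hK _).2 fun g hg => ?_, fun u v => ?_⟩
  · have h1 : (g : Matrix (Fin n) (Fin n) F)ᵀ * (g : Matrix (Fin n) (Fin n) F).map σ = 1 :=
      (Classical.mem_GU_iff hF g).1 (hHU hg)
    have h2 := (hK k).1 hk g⁻¹ (inv_mem hg)
    have h3 : (((g⁻¹ : GL (Fin n) F) : Matrix (Fin n) (Fin n) F).map σ)ᵀ =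
        (g : Matrix (Fin n) (Fin n) F) := by
      have hA : ((g⁻¹ : GL (Fin n) F) : Matrix (Fin n) (Fin n) F)ᵀ *
          (((g⁻¹ : GL (Fin n) F) : Matrix (Fin n) (Fin n) F).map σ) = 1 :=
        (Classical.mem_GU_iff hF g⁻¹).1 (hHU (inv_mem hg))
      have hB := congrArg Matrix.transpose hA
      rw [Matrix.transpose_mul, Matrix.transpose_transpose, Matrix.transpose_one] at hB
      calc (((g⁻¹ : GL (Fin n) F) : Matrix (Fin n) (Fin n) F).map σ)ᵀ
          = (((g⁻¹ : GL (Fin n) F) : Matrix (Fin n) (Fin n) F).map σ)ᵀ *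
              (((g⁻¹ : GL (Fin n) F) : Matrix (Fin n) (Fin n) F) * (g : Matrix (Fin n) (Fin n) F)) := by
            rw [← Units.val_mul, inv_mul_cancel, Units.val_one, Matrix.mul_one]
        _ = (g : Matrix (Fin n) (Fin n) F) := by rw [← Matrix.mul_assoc, hB, Matrix.one_mul]
    have h4 := congrArg (fun X : Matrix (Fin n) (Fin n) F => (X.map σ)ᵀ) h2
    simp only [Matrix.map_mul, Matrix.transpose_mul, h3] at h4
    exact h4.symm
  · show ∑ i, (k *ᵥ u) i * v i ^ q = ∑ i, u i * ((k.map σ)ᵀ *ᵥ v) i ^ q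
    simp only [Matrix.mulVec, dotProduct, ← Classical.conjHom_apply hF, map_sum, map_mul,
      Matrix.transpose_apply, Matrix.map_apply, σ, Classical.conjHom_conjHom, Finset.sum_mul,
      Finset.mul_sum]
    rw [Finset.sum_comm]
    exact Finset.sum_congr rfl fun i _ => Finset.sum_congr rfl fun j _ => by ring

end Cfsg.Agent.Lib.UnitPrimeDim
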