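import Cfsg.Agent.Lib.SUTwoGen.Basic
import Cfsg.Agent.Lib.Classical.OrthMinus
import Cfsg.Prelude.Def_GeometricClasses

/-!
`SU_n(q)` in `GL_n` is contained in no member of the geometric classes.
-/

set_option autoImplicit false
set_option linter.unusedSectionVars false

namespace Cfsg.Agent.Lib.UnitPrimeDim

open scoped MatrixGroups Matrix commutatorElement
open Cfsg.Agent.Lib.Classical (hermBilin hermBilin_apply hermBilin_nondegenerate hermBilin_single conjHom
  conjHom_apply conjHom_conjHom conjHom_ne_id exists_SU_of_isometry exists_partner mulVec_eq_smul two_le_q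
  isoPts_pretransitive ipt ipt_eq_iff smul_ipt card_norm_eq commutator_SU_eq_top herm_symm)

variable {F : Type*} [Field F] [Fintype F] {n q : ℕ}

/-- `SU_n(q)` as a subgroup of `GL_n`. -/
abbrev omegaU (n : ℕ) (F : Type*) [Field F] (q : ℕ) : Subgroup (GL (Fin n) F) :=
  Cfsg.GU n F q ⊓ Cfsg.Geo.specialLinear (Fin n) F

/-- The inclusion of `SU_n(q)` into `GL_n`. -/
def toGU (n : ℕ) (F : Type*) [Field F] (q : ℕ) : ↥(Cfsg.SU n F q) →* GL (Fin n) F :=
  Matrix.SpecialLinearGroup.toGL.comp (Cfsg.SU n F q).subtype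

theorem toGU_mem (A : Cfsg.SU n F q) : toGU n F q A ∈ omegaU n F q :=
  ⟨A.2, Units.ext A.1.2⟩

theorem exists_toGU {g : GL (Fin n) F} (hg : g ∈ omegaU n F q) : ∃ A : Cfsg.SU n F q, toGU n F q A = g := by
  refine ⟨⟨⟨g.1, congrArg Units.val (hg.2 : Matrix.GeneralLinearGroup.det g = 1)⟩, fun u v => hg.1 u v⟩, ?_⟩
  exact Units.ext rfl

theorem range_toGU : (toGU n F q).range = omegaU n F q :=
  le_antisymm (by rintro _ ⟨A, rfl⟩; exact toGU_mem A) fun g hg => exists_toGU hg

theorem toGU_mulVec (A : Cfsg.SU n F q) (x : Fin n → F) : (toGU n F q A).1 *ᵥ x = A • x := rfl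

/-- `SU_n(q)` is perfect. -/
theorem omegaU_perfect (hF : Fintype.card F = q ^ 2) (hn : 4 ≤ n) : ⁅omegaU n F q, omegaU n F q⁆ = omegaU n F q := by
  rw [← range_toGU, MonoidHom.range_eq_map, ← Subgroup.map_commutator, ← commutator_def,
    commutator_SU_eq_top hF hn]

theorem exists_norm_one_ne (hF : Fintype.card F = q ^ 2) : ∃ l : F, l * l ^ q = 1 ∧ l ≠ 1 ∧ l * l ≠ 1 := by
  classical
  have h2 := two_le_q hF
  have hdiv : q + 1 ∣ Fintype.card F - 1 := by
    rw [hF]; exact ⟨q - 1, by zify [h2, Nat.one_le_pow 2 q (by omega)]; rw [Nat.cast_sub (by omega)]; ring⟩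
  obtain ⟨g, hg⟩ := IsCyclic.exists_generator (α := Fˣ)
  have hord : orderOf g = Fintype.card F - 1 := by
    rw [orderOf_eq_card_of_forall_mem_zpowers hg, Nat.card_eq_fintype_card, Fintype.card_units]
  have hord' : orderOf (g ^ ((Fintype.card F - 1) / (q + 1))) = q + 1 := by
    rw [orderOf_pow_of_dvd, hord, Nat.div_div_self hdiv] <;>
      first
        | (rw [hord]; exact Nat.div_dvd_of_dvd hdiv)
        | (have := Fintype.one_lt_card (α := F); omega)
        | (have := Fintype.one_lt_card (α := F)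
           exact Nat.ne_of_gt (Nat.div_pos (Nat.le_of_dvd (by omega) hdiv) (by omega)))
  set l := g ^ ((Fintype.card F - 1) / (q + 1))
  refine ⟨(l : F), ?_, ?_, ?_⟩
  · rw [← pow_succ', ← Units.val_pow_eq_pow_val, ← hord', pow_orderOf_eq_one, Units.val_one]
  · intro h
    rw [Units.val_eq_one] at h
    rw [h, orderOf_one] at hord'; omega
  · intro h
    rw [← pow_two, ← Units.val_pow_eq_pow_val, Units.val_eq_one] at h
    have := Nat.le_of_dvd (by omega) (hord' ▸ orderOf_dvd_of_pow_eq_one h)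
    omega

variable (hF : Fintype.card F = q ^ 2)

set_option quotPrecheck false in
local notation "B" => hermBilin hF n
set_option quotPrecheck false in
local notation "σ" => conjHom hF

/-- A nonzero vector `e_i + c e_j` on which the form vanishes. -/
theorem exists_iso_pair : ∃ c c' : F, c ≠ c' ∧ ∀ (i j : Fin n), i ≠ j →
    B (Pi.single i 1 + c • Pi.single j 1) (Pi.single i 1 + c • Pi.single j 1) = 0 ∧
    B (Pi.single i 1 + c' • Pi.single j 1) (Pi.single i 1 + c' • Pi.single j 1) = 0 := by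
  classical
  obtain ⟨c, hc⟩ := Geometry.exists_mul_conj_eq (conjHom_ne_id hF) (conjHom_conjHom hF)
    (s := (-1 : F)) (by rw [map_neg, map_one])
  obtain ⟨l, hl, hl1, -⟩ := exists_norm_one_ne hF
  have hl' : l * σ l = 1 := by rw [conjHom_apply]; exact hl
  have hc0 : c ≠ 0 := by rintro rfl; simp at hc
  have hcl : c * l * (σ c * σ l) = -1 := by linear_combination (c * σ c) * hl' + hc
  refine ⟨c, c * l, fun h => hl1 (mul_left_cancel₀ hc0 (by rw [← h, mul_one])), fun i j hij => ⟨?_, ?_⟩⟩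
  · simp only [map_add, map_smul, map_smulₛₗ, LinearMap.add_apply, LinearMap.smul_apply, hermBilin_single]
    simp [hij, hij.symm]
    linear_combination hc
  · simp only [map_add, map_smul, map_smulₛₗ, LinearMap.add_apply, LinearMap.smul_apply, hermBilin_single]
    simp [hij, hij.symm]
    linear_combination hcl

/-- The isotropic vectors span. -/
theorem span_iso (hn : 2 ≤ n) {W : Submodule F (Fin n → F)} (h : ∀ u, B u u = 0 → u ∈ W) : W = ⊤ := by
  classical
  obtain ⟨c, c', hcc, hc⟩ := exists_iso_pair (n := n) hF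
  have hb : ∀ j : Fin n, Pi.single j (1 : F) ∈ W := by
    intro j
    obtain ⟨i, hij⟩ : ∃ i : Fin n, i ≠ j := by
      have : Nontrivial (Fin n) := Fin.nontrivial_iff_two_le.2 hn
      exact exists_ne j
    have h2 := W.sub_mem (h _ (hc i j hij).1) (h _ (hc i j hij).2)
    rw [add_sub_add_left_eq_sub, ← sub_smul] at h2
    have h3 := W.smul_mem (c - c')⁻¹ h2
    rwa [smul_smul, inv_mul_cancel₀ (sub_ne_zero.2 hcc), one_smul] at h3
  refine Submodule.eq_top_iff'.2 fun x => ?_
  rw [pi_eq_sum_univ' x]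
  exact W.sum_mem fun i _ => W.smul_mem _ (by convert hb i)

/-- Unitary transvections. -/
theorem exists_tv (u : Fin n → F) (hu : B u u = 0) (c : F) (hc : σ c + c = 0) :
    ∃ A : Cfsg.SU n F q, ∀ y, A • y = y + (c * B u y) • u := by
  obtain ⟨A, hA⟩ := SUTwoGen.exists_eU hF (u := u) (x := 0) (c := c)
    ⟨hu, map_zero _, by rw [map_zero, add_zero]; exact hc⟩
  refine ⟨A, fun y => ?_⟩
  rw [hA y, SUTwoGen.eLin_apply, smul_zero, add_zero]
  simp

theorem exists_skew_ne : ∃ c : F, σ c + c = 0 ∧ c ≠ 0 := by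
  obtain ⟨a, ha⟩ : ∃ a : F, σ a ≠ a := by
    by_contra h
    exact conjHom_ne_id hF (RingHom.ext fun a => not_not.1 fun ha => h ⟨a, ha⟩)
  exact ⟨σ a - a, by rw [map_sub, conjHom_conjHom]; ring, sub_ne_zero.2 ha⟩

/-- Transitivity on isotropic points. -/
theorem exists_move {u v : Fin n → F} (hu0 : u ≠ 0) (hu : B u u = 0) (hv0 : v ≠ 0) (hv : B v v = 0) :
    ∃ (A : Cfsg.SU n F q) (b : F), A • u = b • v := by
  haveI := isoPts_pretransitive (n := n) hF
  obtain ⟨A, hA⟩ := MulAction.exists_smul_eq (Cfsg.SU n F q) (ipt hF u hu0 hu) (ipt hF v hv0 hv)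
  have h : Projectivization.mk F (A • u) ((smul_ne_zero_iff_ne A).mpr hu0) = Projectivization.mk F v hv0 :=
    congrArg Subtype.val hA
  rw [Projectivization.mk_eq_mk_iff'] at h
  obtain ⟨b, hb⟩ := h
  exact ⟨A, b, hb.symm⟩

include hF in
/-- `SU_n(q)` is irreducible. -/
theorem irreducible (hn : 2 ≤ n) (W : Submodule F (Fin n → F))
    (hW : ∀ A : Cfsg.SU n F q, ∀ x ∈ W, A • x ∈ W) : W = ⊥ ∨ W = ⊤ := by
  rw [or_iff_not_imp_left]
  intro hne
  obtain ⟨w, hw, hw0⟩ := Submodule.exists_mem_ne_zero_of_ne_bot hne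
  obtain ⟨u, hu, huw⟩ : ∃ u, B u u = 0 ∧ B u w ≠ 0 := by
    by_contra h
    simp only [not_exists, not_and, not_not] at h
    have hker : LinearMap.ker (B w) = ⊤ := span_iso hF hn fun u hu => by
      rw [LinearMap.mem_ker, ← herm_symm hF, h u hu, map_zero]
    exact hw0 ((hermBilin_nondegenerate hF n).1 w fun z => LinearMap.mem_ker.1 (hker ▸ Submodule.mem_top))
  have hu0 : u ≠ 0 := by rintro rfl; simp at huw
  obtain ⟨c, hc, hc0⟩ := exists_skew_ne hF
  obtain ⟨T, hT⟩ := exists_tv hF u hu c hc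
  have huW : u ∈ W := by
    have h2 := W.sub_mem (hW T w hw) hw
    rw [hT, add_sub_cancel_left] at h2
    have h3 := W.smul_mem (c * B u w)⁻¹ h2
    rwa [smul_smul, inv_mul_cancel₀ (mul_ne_zero hc0 huw), one_smul] at h3
  refine span_iso hF hn fun v hv => ?_
  rcases eq_or_ne v 0 with rfl | hv0
  · exact W.zero_mem
  obtain ⟨A, b, hAb⟩ := exists_move hF hu0 hu hv0 hv
  have h2 := hW A u huW
  rw [hAb] at h2
  have hb0 : b ≠ 0 := by
    rintro rfl
    rw [zero_smul] at hAb
    exact hu0 ((smul_eq_zero_iff_eq A).1 hAb)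
  have h3 := W.smul_mem b⁻¹ h2
  rwa [smul_smul, inv_mul_cancel₀ hb0, one_smul] at h3

include hF in
/-- `SU_n(q)` lies in no subspace stabiliser. -/
theorem not_le_subspaceStabilizer (hn : 2 ≤ n) (W : Submodule F (Fin n → F)) (h0 : W ≠ ⊥) (h1 : W ≠ ⊤) :
    ¬ omegaU n F q ≤ Cfsg.Geo.subspaceStabilizer W := fun h =>
  (irreducible hF hn W fun A x hx => (h (toGU_mem A) x).1 hx).elim h0 h1

include hF in
/-- Matrices commuting with `SU_n(q)` are scalars. -/
theorem commutant_scalar (hn : 2 ≤ n) (M : Matrix (Fin n) (Fin n) F)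
    (hM : ∀ g ∈ omegaU n F q, M * g.1 = g.1 * M) : ∃ a : F, M = a • 1 := by
  classical
  have hM' : ∀ (A : Cfsg.SU n F q) (x : Fin n → F), M *ᵥ (A • x) = A • (M *ᵥ x) := by
    intro A x
    rw [← toGU_mulVec, ← toGU_mulVec, Matrix.mulVec_mulVec, Matrix.mulVec_mulVec, hM _ (toGU_mem A)]
  obtain ⟨c, hc, hc0⟩ := exists_skew_ne hF
  have heig : ∀ u, u ≠ 0 → B u u = 0 → ∃ a : F, M *ᵥ u = a • u := by
    intro u hu0 hu
    obtain ⟨y, hy, -⟩ := exists_partner hF hu0 hu
    obtain ⟨T, hT⟩ := exists_tv hF u hu c hc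
    have h2 := hM' T y
    rw [hT, hT, Matrix.mulVec_add, Matrix.mulVec_smul, hy, mul_one, add_right_inj] at h2
    refine ⟨B u (M *ᵥ y), ?_⟩
    have h3 := congrArg (fun z => c⁻¹ • z) h2
    simp only [smul_smul, inv_mul_cancel₀ hc0, one_smul, ← mul_assoc, one_mul] at h3
    exact h3
  obtain ⟨u, hu0, hu⟩ := Classical.exists_isotropic hF hn
  obtain ⟨a, ha⟩ := heig u hu0 hu
  refine ⟨a, Matrix.ext_iff_mulVec.2 fun x => ?_⟩
  have hW : LinearMap.ker (Matrix.toLin' M - a • LinearMap.id) = ⊤ := span_iso hF hn fun v hv => by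
    rw [LinearMap.mem_ker]
    rcases eq_or_ne v 0 with rfl | hv0
    · simp
    obtain ⟨A, b, hAb⟩ := exists_move hF hu0 hu hv0 hv
    have h2 := hM' A u
    rw [hAb, ha, smul_comm A a u, hAb, Matrix.mulVec_smul, smul_comm a b] at h2
    have hb0 : b ≠ 0 := by
      rintro rfl
      rw [zero_smul] at hAb
      exact hu0 ((smul_eq_zero_iff_eq A).1 hAb)
    simp [smul_right_injective (Fin n → F) hb0 h2]
  have h2 := LinearMap.mem_ker.1 (hW ▸ Submodule.mem_top : x ∈ LinearMap.ker (Matrix.toLin' M - a • LinearMap.id))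
  rw [Matrix.smul_mulVec, Matrix.one_mulVec]
  simpa [sub_eq_zero] using h2

include hF in
/-- `SU_n(q)` normalises no field of matrices of degree bigger than one. -/
theorem not_le_subalgebraNormalizer (hn : 4 ≤ n) {r : ℕ} (hr : 2 ≤ r)
    (K : Subalgebra F (Matrix (Fin n) (Fin n) F)) (hK : Cfsg.Geo.IsFieldSubalgebra r K) :
    ¬ omegaU n F q ≤ Cfsg.Geo.subalgebraNormalizer K := by
  classical
  intro hle
  letI : CommRing K := { (inferInstance : Ring K) with mul_comm := fun a b => Subtype.ext (hK.comm a a.2 b b.2) }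
  haveI : NeZero n := ⟨by omega⟩
  haveI : NoZeroDivisors K := ⟨fun {a b} hab => by
    by_contra h
    rw [not_or] at h
    obtain ⟨a', ha', haa⟩ := hK.inv a a.2 (fun e => h.1 (Subtype.ext e))
    refine h.2 (Subtype.ext ?_)
    have h2 : (a' : Matrix (Fin n) (Fin n) F) * (a.1 * b.1) = 0 := by
      rw [show a.1 * b.1 = ((a * b : K) : Matrix (Fin n) (Fin n) F) from rfl, hab]; simp
    rw [← mul_assoc, hK.comm a' ha' a a.2, haa, one_mul] at h2
    exact h2⟩
  haveI : Nontrivial K := ⟨⟨0, 1, fun e => zero_ne_one (α := Matrix (Fin n) (Fin n) F) (congrArg Subtype.val e)⟩⟩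
  haveI : IsDomain K := NoZeroDivisors.to_isDomain _
  obtain ⟨z, hz⟩ := IsCyclic.exists_generator (α := Kˣ)
  have hzinv : IsUnit ((z : K) : Matrix (Fin n) (Fin n) F) := z.isUnit.map K.val
  obtain ⟨Z, hZ⟩ := hzinv
  have hpow : ∀ g ∈ omegaU n F q, ∃ i : ℕ, g * Z * g⁻¹ = Z ^ i := by
    intro g hg
    have hmem := ((hle hg) ((z : K) : Matrix (Fin n) (Fin n) F)).1 (z : K).2
    rw [← hZ, ← Units.val_mul, ← Units.val_mul] at hmem
    obtain ⟨y, hy, hzy⟩ := hK.inv _ hmem (g * Z * g⁻¹).ne_zero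
    obtain ⟨i, hi⟩ := mem_powers_iff_mem_zpowers.2
      (hz (IsUnit.of_mul_eq_one (a := (⟨_, hmem⟩ : K)) ⟨y, hy⟩ (Subtype.ext hzy)).unit)
    refine ⟨i, Units.ext ?_⟩
    have h2 := congrArg (fun w : Kˣ => ((w : K) : Matrix (Fin n) (Fin n) F)) hi
    simpa [hZ] using h2.symm
  have hcomm : ∀ a ∈ omegaU n F q, ∀ b ∈ omegaU n F q, ⁅a, b⁆ ∈ Subgroup.centralizer ({Z} : Set (GL (Fin n) F)) := by
    intro a ha b hb
    obtain ⟨i, hi⟩ := hpow a⁻¹ (inv_mem ha)
    obtain ⟨j, hj⟩ := hpow b⁻¹ (inv_mem hb)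
    have key : (b * a)⁻¹ * Z * (b * a) = (a * b)⁻¹ * Z * (a * b) := by
      calc _ = a⁻¹ * (b⁻¹ * Z * b⁻¹⁻¹) * a⁻¹⁻¹ := by group
        _ = b⁻¹ * (a⁻¹ * Z * a⁻¹⁻¹) * b⁻¹⁻¹ := by
          rw [hj, ← conj_pow, hi, ← conj_pow, hj, ← pow_mul, ← pow_mul, mul_comm]
        _ = _ := by group
    rw [Subgroup.mem_centralizer_singleton_iff]
    calc ⁅a, b⁆ * Z = a * b * ((b * a)⁻¹ * Z * (b * a)) * (b * a)⁻¹ := by rw [commutatorElement_def]; group
      _ = Z * ⁅a, b⁆ := by rw [key, commutatorElement_def]; group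
  have hall : ∀ g ∈ omegaU n F q, g * Z = Z * g := fun g hg => by
    have h2 := (Subgroup.commutator_le.2 hcomm) ((omegaU_perfect hF hn).symm ▸ hg)
    exact Subgroup.mem_centralizer_singleton_iff.1 h2
  obtain ⟨a, ha⟩ := commutant_scalar hF (by omega) ((z : K) : Matrix (Fin n) (Fin n) F) fun g hg => by
    have h2 := congrArg Units.val (hall g hg)
    rw [Units.val_mul, Units.val_mul, hZ] at h2
    exact h2.symm
  have hsc : ∀ x : K, ∃ t : F, x = t • (1 : K) := by
    intro x
    rcases eq_or_ne x 0 with rfl | hx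
    · exact ⟨0, (zero_smul _ _).symm⟩
    obtain ⟨y, hy, hxy⟩ := hK.inv x x.2 fun e => hx (Subtype.ext e)
    obtain ⟨i, hi⟩ := mem_powers_iff_mem_zpowers.2
      (hz (IsUnit.of_mul_eq_one (a := x) ⟨y, hy⟩ (Subtype.ext hxy)).unit)
    have h2 := congrArg (fun w : Kˣ => ((w : K) : Matrix (Fin n) (Fin n) F)) hi
    simp only [Units.val_pow_eq_pow_val, SubmonoidClass.coe_pow, IsUnit.unit_spec, ha, smul_pow, one_pow] at h2
    exact ⟨a ^ i, Subtype.ext h2.symm⟩
  have hle1 : Module.finrank F K ≤ 1 := finrank_le_one (1 : K) fun x => by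
    obtain ⟨t, ht⟩ := hsc x; exact ⟨t, ht.symm⟩
  have := hK.finrank_eq
  omega

/-- Membership in a subfield group. -/
theorem mem_subfieldSubgroup_commutator {F₀ : Subfield F} {P g h : GL (Fin n) F}
    (hg : g ∈ Cfsg.Geo.subfieldSubgroup F₀ P) (hh : h ∈ Cfsg.Geo.subfieldSubgroup F₀ P) :
    ⁅g, h⁆ ∈ ((Matrix.GeneralLinearGroup.map (F₀.subtype : F₀ →+* F)).range).map (MulAut.conj P).toMonoidHom := by
  obtain ⟨x, hx, rfl⟩ := hg
  obtain ⟨y, hy, rfl⟩ := hh
  rw [SetLike.mem_coe, Subgroup.mem_sup_of_normal_right] at hx hy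
  obtain ⟨r, hr, z, hz, rfl⟩ := hx
  obtain ⟨r', hr', z', hz', rfl⟩ := hy
  rw [← map_commutatorElement]
  refine Subgroup.mem_map_of_mem _ ?_
  have hc : ∀ w ∈ Cfsg.Geo.scalars (Fin n) F, ∀ m : GL (Fin n) F, Commute w m := by
    intro w hw m
    obtain ⟨c, hc⟩ := (Cfsg.Geo.mem_scalars_iff w).1 hw
    exact Units.ext (by simp [hc])
  have e : ⁅r * z, r' * z'⁆ = ⁅r, r'⁆ := by
    rw [commutatorElement_def, commutatorElement_def, mul_inv_rev, mul_inv_rev,
      show r * z * (r' * z') * (z⁻¹ * r⁻¹) * (z'⁻¹ * r'⁻¹) = r * (z * (r' * z')) * (z⁻¹ * r⁻¹) * (z'⁻¹ * r'⁻¹) from by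
        group, (hc z hz (r' * z')).eq,
      show r * (r' * z' * z) * (z⁻¹ * r⁻¹) * (z'⁻¹ * r'⁻¹) = r * r' * (z' * r⁻¹) * (z'⁻¹ * r'⁻¹) from by group,
      (hc z' hz' r⁻¹).eq]
    group
  rw [e, commutatorElement_def]
  exact mul_mem (mul_mem (mul_mem hr hr') (inv_mem hr)) (inv_mem hr')

include hF in
/-- `SU_n(q)` lies in no subfield group. -/
theorem not_le_subfieldSubgroup (hn : 4 ≤ n) (F₀ : Subfield F) (h0 : F₀ ≠ ⊤) (P : GL (Fin n) F) :
    ¬ omegaU n F q ≤ Cfsg.Geo.subfieldSubgroup F₀ P := by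
  classical
  intro hle
  have htr : ∀ A : Cfsg.SU n F q, (toGU n F q A).1.trace ∈ F₀ := by
    intro A
    have h2 : toGU n F q A ∈
        ((Matrix.GeneralLinearGroup.map (F₀.subtype : F₀ →+* F)).range).map (MulAut.conj P).toMonoidHom := by
      refine Subgroup.commutator_le.2 (fun g hg h hh => mem_subfieldSubgroup_commutator (hle hg) (hle hh)) ?_
      rw [omegaU_perfect hF hn]; exact toGU_mem A
    obtain ⟨_, ⟨M, rfl⟩, hM⟩ := h2
    rw [← hM]
    simp only [MulEquiv.coe_toMonoidHom, MulAut.conj_apply, Units.val_mul]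
    rw [Matrix.trace_mul_cycle, Units.inv_mul, Matrix.one_mul]
    exact F₀.sum_mem fun i _ => SetLike.coe_mem _
  obtain ⟨u, hu0, hu⟩ := Classical.exists_isotropic hF (n := n) (by omega)
  obtain ⟨v, huv, hv⟩ := exists_partner hF hu0 hu
  have hvu : B v u = 1 := by rw [← herm_symm hF, huv, map_one]
  have hprod : ∀ c d : F, σ c + c = 0 → σ d + d = 0 → c * d ∈ F₀ := by
    intro c d hc hd
    obtain ⟨T, hT⟩ := exists_tv hF u hu c hc
    obtain ⟨U, hU⟩ := exists_tv hF v hv d hd
    have key : ∀ (A : Cfsg.SU n F q) (L : (Fin n → F) →ₗ[F] (Fin n → F)), (∀ y, A • y = L y) →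
        (toGU n F q A).1.trace = LinearMap.trace F _ L := by
      intro A L hL
      rw [← Matrix.trace_toLin'_eq]
      congr 1
      exact LinearMap.ext fun y => by rw [Matrix.toLin'_apply]; exact hL y
    let Lu : (Fin n → F) →ₗ[F] (Fin n → F) := (c • B u).smulRight u
    let Lv : (Fin n → F) →ₗ[F] (Fin n → F) := (d • B v).smulRight v
    have e1 : (toGU n F q (T * U)).1.trace =
        LinearMap.trace F _ (LinearMap.id + Lu + Lv + (d • B v).smulRight ((c * B u v) • u)) := key _ _ fun y => by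
      rw [mul_smul, hU, hT]
      simp only [Lu, Lv, LinearMap.add_apply, LinearMap.id_apply, LinearMap.smulRight_apply, LinearMap.smul_apply,
        map_add, map_smul, smul_eq_mul]
      module
    have h2 := htr (T * U)
    rw [e1] at h2
    simp only [map_add, Lu, Lv, LinearMap.trace_smulRight, LinearMap.trace_id, LinearMap.smul_apply, map_smul,
      smul_eq_mul, hu, hv, huv, hvu, mul_zero, mul_one, add_zero, Module.finrank_fin_fun] at h2
    have := F₀.sub_mem h2 (natCast_mem F₀ n)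
    simpa [mul_comm] using this
  obtain ⟨c₀, hc₀, hc₀0⟩ := exists_skew_ne hF
  have hsq : c₀ * c₀ ∈ F₀ := hprod c₀ c₀ hc₀ hc₀
  have hfix : ∀ a : F, σ a = a → a ∈ F₀ := by
    intro a ha
    have h2 := hprod (a * c₀) c₀ (by rw [map_mul, ha, ← mul_add, hc₀, mul_zero]) hc₀
    have h3 := F₀.mul_mem h2 (F₀.inv_mem hsq)
    rwa [mul_assoc a, mul_assoc a, mul_inv_cancel₀ (mul_ne_zero hc₀0 hc₀0), mul_one] at h3
  -- a diagonal element with trace outside the fixed field
  obtain ⟨l, hl, hl1, hl2⟩ := exists_norm_one_ne hF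
  have hl' : l * σ l = 1 := by rw [conjHom_apply]; exact hl
  have hl0 : l ≠ 0 := by rintro rfl; simp at hl'
  let e : Fin 3 → Fin n := Fin.castLE (by omega)
  have he : Function.Injective e := Fin.castLE_injective _
  set w : Fin n → F := Function.update (Function.update (Function.update (fun _ => 1) (e 0) l) (e 1) l) (e 2) (l * l)⁻¹
    with hw
  have hwn : ∀ i, w i * (w i) ^ q = 1 := by
    intro i
    rw [← conjHom_apply hF]
    simp only [hw, Function.update_apply]
    split_ifs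
    · rw [map_inv₀, map_mul, ← mul_inv, show l * l * (σ l * σ l) = 1 by linear_combination (l * σ l + 1) * hl']
      exact inv_one
    · exact hl'
    · exact hl'
    · simp
  have hsplit : (Finset.univ : Finset (Fin n)) = insert (e 0) (insert (e 1) (insert (e 2)
      (Finset.univ \ {e 0, e 1, e 2}))) := by
    ext i; simp; tauto
  have n01 : e 0 ≠ e 1 := he.ne (by decide)
  have n02 : e 0 ≠ e 2 := he.ne (by decide)
  have n12 : e 1 ≠ e 2 := he.ne (by decide)
  have hw0 : w (e 0) = l ∧ w (e 1) = l ∧ w (e 2) = (l * l)⁻¹ := by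
    simp [hw, Function.update_apply, n01, n02, n12, n01.symm, n02.symm, n12.symm]
  have hrest : ∀ i ∈ (Finset.univ : Finset (Fin n)) \ {e 0, e 1, e 2}, w i = 1 := by
    intro i hi
    simp only [Finset.mem_sdiff, Finset.mem_univ, true_and, Finset.mem_insert, Finset.mem_singleton, not_or] at hi
    simp [hw, Function.update_apply, hi.1, hi.2.1, hi.2.2]
  have hdet : (Matrix.diagonal w).det = 1 := by
    rw [Matrix.det_diagonal, hsplit, Finset.prod_insert (by simp [n01, n02]), Finset.prod_insert (by simp [n12]),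
      Finset.prod_insert (by simp), Finset.prod_eq_one hrest, hw0.1, hw0.2.1, hw0.2.2, mul_one, ← mul_assoc,
      mul_inv_cancel₀ (mul_ne_zero hl0 hl0)]
  let D : Cfsg.SU n F q := ⟨⟨Matrix.diagonal w, hdet⟩, fun x y => by
    show Cfsg.hermForm n F q (Matrix.diagonal w *ᵥ x) (Matrix.diagonal w *ᵥ y) = _
    refine Finset.sum_congr rfl fun i _ => ?_
    rw [Matrix.mulVec_diagonal, Matrix.mulVec_diagonal, mul_pow, mul_mul_mul_comm, hwn, one_mul]⟩
  have htD : l + (l + ((l * l)⁻¹ + ((n - 3 : ℕ) : F))) ∈ F₀ := by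
    have h2 := htr D
    have hcard : ((Finset.univ : Finset (Fin n)) \ {e 0, e 1, e 2}).card = n - 3 := by
      rw [Finset.card_sdiff_of_subset (Finset.subset_univ _), Finset.card_univ, Fintype.card_fin,
        Finset.card_eq_three.2 ⟨_, _, _, n01, n02, n12, rfl⟩]
    have hD : (toGU n F q D).1 = Matrix.diagonal w := rfl
    rw [hD, Matrix.trace_diagonal, hsplit, Finset.sum_insert (by simp [n01, n02]), Finset.sum_insert (by simp [n12]),
      Finset.sum_insert (by simp), Finset.sum_congr rfl hrest, Finset.sum_const, hcard, nsmul_eq_mul, mul_one,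
      hw0.1, hw0.2.1, hw0.2.2] at h2
    exact h2
  obtain ⟨t, ht, htσ⟩ : ∃ t ∈ F₀, σ t ≠ t := by
    refine ⟨_, htD, fun h => ?_⟩
    simp only [map_add, map_natCast, map_inv₀, map_mul] at h
    have hσl : σ l = l⁻¹ := eq_inv_of_mul_eq_one_right hl'
    rw [hσl] at h
    field_simp at h
    have h4 : (l - 1) * (l - 1) * (l * l - 1) = 0 := by
      first | linear_combination h | linear_combination -h
    rcases mul_eq_zero.1 h4 with h5 | h5
    · exact hl1 (sub_eq_zero.1 (mul_self_eq_zero.1 h5))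
    · exact hl2 (sub_eq_zero.1 h5)
  refine h0 (eq_top_iff.2 fun x _ => ?_)
  have hd : t - σ t ≠ 0 := sub_ne_zero.2 (Ne.symm htσ)
  have hd' : σ t - t ≠ 0 := sub_ne_zero.2 htσ
  have hα : σ ((σ x * t - x * σ t) / (t - σ t)) = (σ x * t - x * σ t) / (t - σ t) := by
    rw [map_div₀, map_sub, map_sub, map_mul, map_mul, conjHom_conjHom, conjHom_conjHom, div_eq_div_iff hd' hd]
    ring
  have hβ : σ ((x - σ x) / (t - σ t)) = (x - σ x) / (t - σ t) := by
    rw [map_div₀, map_sub, map_sub, conjHom_conjHom, conjHom_conjHom, div_eq_div_iff hd' hd]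
    ring
  have hx : x = (σ x * t - x * σ t) / (t - σ t) + (x - σ x) / (t - σ t) * t := by
    field_simp
    ring
  rw [hx]
  exact F₀.add_mem (hfix _ hα) (F₀.mul_mem (hfix _ hβ) ht)

include hF in
/-- A lower bound for the order of `SU_n(q)`. -/
theorem card_omegaU_ge (hn : 1 ≤ n) : 2 ^ (n * (n - 1)) ≤ Nat.card (omegaU n F q) := by
  have hq := two_le_q hF
  have hcard : Nat.card (omegaU n F q) = Nat.card (Cfsg.SU n F q) := by
    rw [← range_toGU]
    exact (Nat.card_congr (MonoidHom.ofInjective (f := toGU n F q)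
      (Matrix.SpecialLinearGroup.toGL_injective.comp Subtype.val_injective)).toEquiv).symm
  have h := Classical.card_SU hF hn
  rw [Classical.card_GU hF] at h
  obtain ⟨m, rfl⟩ := Nat.exists_eq_add_of_le hn
  rw [show 1 + m = m + 1 from add_comm 1 m, Finset.prod_range_succ'] at h
  simp only [show Even 0 from ⟨0, rfl⟩, if_true, Nat.zero_add, pow_one] at h
  have h2 : ∏ i ∈ Finset.range m, q ^ (i + 1) ≤
      ∏ i ∈ Finset.range m, (if Even (i + 1) then q ^ (i + 1 + 1) + 1 else q ^ (i + 1 + 1) - 1) := by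
    refine Finset.prod_le_prod' fun i _ => ?_
    have h3 : q ^ (i + 1) * 2 ≤ q ^ (i + 1 + 1) := by rw [pow_succ q (i + 1)]; exact Nat.mul_le_mul_left _ hq
    have h4 : 0 < q ^ (i + 1) := pow_pos (by omega) _
    split_ifs <;> omega
  rw [Finset.prod_pow_eq_pow_sum] at h2
  have hsum : ∑ i ∈ Finset.range m, (i + 1) = (m + 1) * m / 2 := by
    have h5 := Finset.sum_range_id (m + 1)
    rw [Finset.sum_range_succ'] at h5
    simpa using h5
  rw [hsum] at h2
  rw [add_comm 1 m, Nat.add_sub_cancel, hcard] at *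
  have heven : 2 ∣ (m + 1) * m := by rw [mul_comm]; exact (Nat.even_mul_succ_self m).two_dvd
  calc 2 ^ ((m + 1) * m) ≤ q ^ ((m + 1) * m) := Nat.pow_le_pow_left hq _
    _ = q ^ ((m + 1) * m / 2) * q ^ ((m + 1) * m / 2) := by
      rw [← pow_add, ← two_mul, Nat.mul_div_cancel' heven]
    _ ≤ _ := by
      refine le_of_mul_le_mul_left ?_ (show 0 < q + 1 by omega)
      rw [h]
      calc (q + 1) * (q ^ ((m + 1) * m / 2) * q ^ ((m + 1) * m / 2))
          = q ^ ((m + 1) * m / 2) * (q ^ ((m + 1) * m / 2) * (q + 1)) := by ring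
        _ ≤ _ := Nat.mul_le_mul_left _ (Nat.mul_le_mul_right _ h2)

include hF in
/-- `SU_n(q)` normalises no absolutely irreducible group of order `n³`. -/
theorem not_le_subgroupNormalizer (hn : n = 5 ∨ n = 7 ∨ n = 11) (R : Subgroup (GL (Fin n) F))
    (hR : Cfsg.Geo.ActsAbsolutelyIrreducibly (Cfsg.Geo.matrixSet R)) (hcard : Nat.card R = n ^ 3) :
    ¬ omegaU n F q ≤ Cfsg.Geo.subgroupNormalizer R := by
  classical
  intro hle
  haveI hp : Fact n.Prime := ⟨by rcases hn with rfl | rfl | rfl <;> norm_num⟩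
  obtain ⟨x, hx, y, hy, hxy⟩ : ∃ x ∈ R, ∃ y ∈ R, x * y ≠ y * x := by
    by_contra h
    simp only [not_exists, not_and, not_not] at h
    have hall : ∀ x ∈ R, ∃ a : F, x.1 = a • (1 : Matrix (Fin n) (Fin n) F) := fun x hx => hR.2 x.1 (by
      rintro _ ⟨y, hy, rfl⟩
      exact congrArg Units.val (h x hx y hy))
    let i₀ : Fin n := ⟨0, hp.out.pos⟩
    let i₁ : Fin n := ⟨1, hp.out.one_lt⟩
    have h01 : i₀ ≠ i₁ := by simp [i₀, i₁, Fin.ext_iff]
    rcases hR.1 (Submodule.span F {Pi.single i₀ 1}) (by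
      rintro _ ⟨g, hg, rfl⟩
      obtain ⟨a, ha⟩ := hall g hg
      rw [Submodule.map_le_iff_le_comap, Submodule.span_le, Set.singleton_subset_iff, SetLike.mem_coe,
        Submodule.mem_comap, Matrix.toLin'_apply]
      show g.1 *ᵥ _ ∈ _
      rw [ha, Matrix.smul_mulVec, Matrix.one_mulVec]
      exact Submodule.smul_mem _ _ (Submodule.mem_span_singleton_self _)) with h2 | h2
    · simp [Submodule.span_singleton_eq_bot] at h2
    · obtain ⟨t, ht⟩ := Submodule.mem_span_singleton.1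
        (h2 ▸ Submodule.mem_top : (Pi.single i₁ 1 : Fin n → F) ∈ Submodule.span F {Pi.single i₀ 1})
      simpa [h01.symm] using congrFun ht i₁
  have hgen : Subgroup.closure {x, y} = R := by
    refine Subgroup.eq_of_le_of_card_ge ((Subgroup.closure_le R).2 (by simp [Set.insert_subset_iff, hx, hy])) ?_
    obtain ⟨k, hk3, hk⟩ := (Nat.dvd_prime_pow hp.out).1 (hcard ▸ Subgroup.card_dvd_of_le
      ((Subgroup.closure_le R).2 (by simp [Set.insert_subset_iff, hx, hy]) : Subgroup.closure {x, y} ≤ R))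
    rw [hcard, hk]
    refine Nat.pow_le_pow_right hp.out.pos (not_lt.1 fun hlt => hxy ?_)
    have hm1 : x ∈ Subgroup.closure {x, y} := Subgroup.subset_closure (by simp)
    have hm2 : y ∈ Subgroup.closure {x, y} := Subgroup.subset_closure (by simp)
    suffices ∀ a b : ↥(Subgroup.closure {x, y}), a * b = b * a from congrArg Subtype.val (this ⟨x, hm1⟩ ⟨y, hm2⟩)
    interval_cases k
    · intro a b
      haveI : Subsingleton ↥(Subgroup.closure {x, y}) := (Nat.card_eq_one_iff_unique.1 (by rw [hk, pow_zero])).1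
      exact Subsingleton.elim _ _
    · intro a b
      haveI := isCyclic_of_prime_card (α := ↥(Subgroup.closure {x, y})) (p := n) (by rw [hk, pow_one])
      letI := IsCyclic.commGroup (α := ↥(Subgroup.closure {x, y}))
      exact mul_comm a b
    · exact IsPGroup.commutative_of_card_eq_prime_sq hk
  let f : ↥(omegaU n F q) → R × R := fun g =>
    (⟨g.1 * x * g.1⁻¹, ((Subgroup.mem_normalizer_iff.1 (hle g.2)) x).1 hx⟩,
     ⟨g.1 * y * g.1⁻¹, ((Subgroup.mem_normalizer_iff.1 (hle g.2)) y).1 hy⟩)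
  have hfib : ∀ g g' : ↥(omegaU n F q), f g = f g' → ∃ a : F, a ^ n = 1 ∧ g'.1.1 = a • g.1.1 := by
    intro g g' he
    simp only [f, Prod.mk.injEq, Subtype.mk.injEq] at he
    have hcx : ∀ z, g.1 * z * g.1⁻¹ = g'.1 * z * g'.1⁻¹ → (g.1⁻¹ * g'.1) * z = z * (g.1⁻¹ * g'.1) := by
      intro z hz
      calc g.1⁻¹ * g'.1 * z = g.1⁻¹ * (g'.1 * z * g'.1⁻¹) * g'.1 := by group
        _ = _ := by rw [← hz]; group
    have hcl : R ≤ Subgroup.centralizer {g.1⁻¹ * g'.1} := by
      rw [← hgen, Subgroup.closure_le]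
      simp only [Set.insert_subset_iff, Set.singleton_subset_iff, SetLike.mem_coe, Subgroup.mem_centralizer_singleton_iff]
      exact ⟨(hcx x he.1).symm, (hcx y he.2).symm⟩
    obtain ⟨a, ha⟩ := hR.2 (g.1⁻¹ * g'.1).1 (by
      rintro _ ⟨z, hz, rfl⟩
      exact congrArg Units.val (Subgroup.mem_centralizer_singleton_iff.1 (hcl hz)).symm)
    refine ⟨a, ?_, ?_⟩
    · have hd : (g.1⁻¹ * g'.1) ∈ omegaU n F q := mul_mem (inv_mem g.2) g'.2
      have h2 : (g.1⁻¹ * g'.1).1.det = 1 := congrArg Units.val (hd.2 : Matrix.GeneralLinearGroup.det _ = 1)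
      rwa [ha, Matrix.det_smul, Matrix.det_one, mul_one, Fintype.card_fin] at h2
    · calc g'.1.1 = g.1.1 * (g.1⁻¹ * g'.1).1 := by rw [← Units.val_mul, mul_inv_cancel_left]
        _ = a • g.1.1 := by rw [ha, Matrix.mul_smul, Matrix.mul_one]
  haveI : Fintype ↥(omegaU n F q) := Fintype.ofFinite _
  haveI : Fintype R := Fintype.ofFinite _
  have hbound : Fintype.card ↥(omegaU n F q) ≤ n * Fintype.card (R × R) := by
    refine Finset.card_le_mul_card_image_of_maps_to (s := Finset.univ) (t := Finset.univ) (f := f)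
      (fun _ _ => Finset.mem_univ _) n fun b _ => ?_
    rcases (Finset.univ.filter fun g => f g = b).eq_empty_or_nonempty with he | ⟨g, hg⟩
    · rw [he]; simp
    rw [Finset.mem_filter] at hg
    refine le_trans (Finset.card_le_card_of_injOn (t := (Polynomial.nthRoots n (1 : F)).toFinset)
      (fun g' => if h : f g = f g' then (hfib g g' h).choose else 0) ?_ ?_) ?_
    · intro g' hg'
      have h : f g = f g' := hg.2.trans (Finset.mem_filter.1 hg').2.symm
      simp only [dif_pos h, Finset.mem_coe, Multiset.mem_toFinset, Polynomial.mem_nthRoots hp.out.pos]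
      exact (hfib g g' h).choose_spec.1
    · intro g₁ hg₁ g₂ hg₂ he
      have h1 : f g = f g₁ := hg.2.trans (Finset.mem_filter.1 hg₁).2.symm
      have h2 : f g = f g₂ := hg.2.trans (Finset.mem_filter.1 hg₂).2.symm
      simp only [dif_pos h1, dif_pos h2] at he
      exact Subtype.ext (Units.ext (by rw [(hfib g g₁ h1).choose_spec.2, (hfib g g₂ h2).choose_spec.2, he]))
    · exact le_trans (Multiset.toFinset_card_le _) (Polynomial.card_nthRoots n 1)
  rw [Fintype.card_prod, ← Nat.card_eq_fintype_card, ← Nat.card_eq_fintype_card, hcard] at hbound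
  have hge := card_omegaU_ge hF (n := n) hp.out.one_lt.le
  rcases hn with rfl | rfl | rfl <;> norm_num at hbound hge <;> omega

include hF in
/-- `SU_n(q)` fixes no decomposition into lines. -/
theorem not_le_decompositionStabilizer (hn : 5 ≤ n) (D : Fin n → Submodule F (Fin n → F))
    (hD : Cfsg.Geo.IsMDecomposition 1 D) : ¬ omegaU n F q ≤ Cfsg.Geo.decompositionStabilizer D := by
  classical
  intro hle
  have hd : ∀ i, ∃ d, d ∈ D i ∧ d ≠ 0 ∧ ∀ x ∈ D i, ∃ t : F, t • d = x := by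
    intro i
    obtain ⟨⟨d, hd⟩, hd0, hsp⟩ := finrank_eq_one_iff'.1 (hD.finrank_eq i)
    refine ⟨d, hd, fun e => hd0 (Subtype.ext e), fun x hx => ?_⟩
    obtain ⟨t, ht⟩ := hsp ⟨x, hx⟩
    exact ⟨t, congrArg Subtype.val ht⟩
  choose d hdm hd0 hds using hd
  have hli : LinearIndependent F d := hD.indep.linearIndependent _ hdm hd0
  let b := basisOfLinearIndependentOfCardEqFinrank' d hli (by simp)
  have hb : ∀ i, b i = d i := fun i => by simp [b]
  obtain ⟨c, hc, hc0⟩ := exists_skew_ne hF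
  -- every isotropic vector involves at most two of the lines
  have hsupp : ∀ u, B u u = 0 → ∃ i j : Fin n, ∀ k, k ≠ i → k ≠ j → b.repr u k = 0 := by
    intro u hu
    rcases eq_or_ne u 0 with rfl | hu0
    · exact ⟨⟨0, by omega⟩, ⟨0, by omega⟩, fun k _ _ => by simp⟩
    obtain ⟨T, hT⟩ := exists_tv hF u hu c hc
    obtain ⟨π, hπ⟩ := hle (toGU_mem T)
    obtain ⟨i, hi⟩ : ∃ i, B u (d i) ≠ 0 := by
      by_contra h
      simp only [not_exists, not_not] at h
      have : B u = 0 := b.ext fun i => by rw [hb, h i, LinearMap.zero_apply]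
      exact hu0 ((hermBilin_nondegenerate hF n).1 u fun z => by rw [this, LinearMap.zero_apply])
    refine ⟨i, π i, fun k hki hkj => ?_⟩
    have h2 : T • d i ∈ D (π i) := by
      rw [← hπ i]; exact ⟨d i, hdm i, rfl⟩
    obtain ⟨t, ht⟩ := hds _ _ h2
    rw [hT] at ht
    have h3 : (c * B u (d i)) • u = t • d (π i) - d i := by rw [ht, add_sub_cancel_left]
    have h4 := congrArg (fun x => b.repr x k) h3
    simp only [map_sub, map_smul, ← hb, Module.Basis.repr_self, Finsupp.smul_apply, Finsupp.sub_apply,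
      Finsupp.single_apply, if_neg (Ne.symm hki), if_neg (Ne.symm hkj), smul_eq_mul, mul_zero, sub_zero] at h4
    exact (mul_eq_zero.1 h4).resolve_left (mul_ne_zero hc0 (hb i ▸ hi))
  -- two independent orthogonal isotropic vectors span the sum of two lines
  have hplane : ∀ u w, B u u = 0 → B w w = 0 → B u w = 0 → ∀ i j k, i ≠ j → i ≠ k → j ≠ k →
      b.repr u i ≠ 0 → b.repr u j ≠ 0 → b.repr w k = 0 := by
    intro u w hu hw huw i j k hij hik hjk hi hj
    by_contra hk
    have hwu : B w u = 0 := by rw [← herm_symm hF, huw, map_zero]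
    obtain ⟨t, ht⟩ : ∃ t : F, t ∉ ({-(b.repr u i) / b.repr w i, -(b.repr u j) / b.repr w j, 0} : Finset F) := by
      by_contra h
      simp only [not_exists, not_not] at h
      have h1 : Fintype.card F ≤ _ := Finset.card_le_card (s := (Finset.univ : Finset F)) fun x _ => h x
      have h3 := (Finset.card_le_three : ({-(b.repr u i) / b.repr w i, -(b.repr u j) / b.repr w j, 0} : Finset F).card ≤ 3)
      have := two_le_q hF
      have : 2 ^ 2 ≤ q ^ 2 := Nat.pow_le_pow_left this 2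
      omega
    simp only [Finset.mem_insert, Finset.mem_singleton, not_or] at ht
    obtain ⟨a₁, a₂, hz⟩ := hsupp (u + t • w) (by
      simp [map_add, map_smul, map_smulₛₗ, hu, hw, huw, hwu])
    have key : ∀ l, l = i ∨ l = j → b.repr (u + t • w) l ≠ 0 := by
      intro l hl e
      simp only [map_add, map_smul, Finsupp.add_apply, Finsupp.smul_apply, smul_eq_mul] at e
      by_cases hwl : b.repr w l = 0
      · rw [hwl, mul_zero, add_zero] at e
        rcases hl with rfl | rfl <;> contradiction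
      · have : t = -(b.repr u l) / b.repr w l := by
          field_simp
          linear_combination e
        rcases hl with rfl | rfl
        exacts [ht.1 this, ht.2.1 this]
    have hku : b.repr u k = 0 := by
      obtain ⟨p₁, p₂, hp⟩ := hsupp u hu
      refine hp k ?_ ?_ <;> intro e <;> subst e
      · rcases eq_or_ne i p₂ with rfl | h
        · exact hj (hp j hjk.symm.symm hij.symm)
        · exact hi (hp i hik h)
      · rcases eq_or_ne i p₁ with rfl | h
        · exact hj (hp j hij.symm hjk.symm.symm)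
        · exact hi (hp i h hik)
    have hk' : b.repr (u + t • w) k ≠ 0 := by
      simp [map_add, map_smul, hku, ht.2.2, hk]
    have m1 : i = a₁ ∨ i = a₂ := by
      by_contra h; simp only [not_or] at h; exact key i (Or.inl rfl) (hz i h.1 h.2)
    have m2 : j = a₁ ∨ j = a₂ := by
      by_contra h; simp only [not_or] at h; exact key j (Or.inr rfl) (hz j h.1 h.2)
    have m3 : k = a₁ ∨ k = a₂ := by
      by_contra h; simp only [not_or] at h; exact hk' (hz k h.1 h.2)
    rcases m1 with rfl | rfl <;> rcases m2 with rfl | rfl <;> rcases m3 with rfl | rfl <;> contradiction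
  -- three independent vectors orthogonal to a given one
  obtain ⟨a, a', -, ha⟩ := exists_iso_pair (n := n) hF
  let e : Fin 5 → Fin n := Fin.castLE hn
  have he : Function.Injective e := Fin.castLE_injective hn
  set u₀ : Fin n → F := Pi.single (e 0) 1 + a • Pi.single (e 1) 1
  set w₁ : Fin n → F := Pi.single (e 2) 1 + a • Pi.single (e 3) 1
  set w₂ : Fin n → F := Pi.single (e 3) 1 + a • Pi.single (e 4) 1
  have hu₀ : B u₀ u₀ = 0 := (ha _ _ (he.ne (by decide))).1
  have hw₁ : B w₁ w₁ = 0 := (ha _ _ (he.ne (by decide))).1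
  have hw₂ : B w₂ w₂ = 0 := (ha _ _ (he.ne (by decide))).1
  have ho₁ : B u₀ w₁ = 0 := by
    simp [u₀, w₁, map_add, map_smul, map_smulₛₗ, hermBilin_single, he.eq_iff]
  have ho₂ : B u₀ w₂ = 0 := by
    simp [u₀, w₂, map_add, map_smul, map_smulₛₗ, hermBilin_single, he.eq_iff]
  have hind : LinearIndependent F ![u₀, w₁, w₂] := by
    rw [Fintype.linearIndependent_iff]
    intro g hg
    simp only [Fin.sum_univ_three, Matrix.cons_val_zero, Matrix.cons_val_one, Matrix.cons_val_two,
      Matrix.tail_cons, Matrix.head_cons] at hg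
    have h0 := congrFun hg (e 0)
    have h2 := congrFun hg (e 2)
    have h3 := congrFun hg (e 3)
    simp [u₀, w₁, w₂, he.eq_iff] at h0 h2 h3
    rw [h2, zero_mul, zero_add] at h3
    intro i
    fin_cases i <;> assumption
  -- a vector on two lines
  obtain ⟨v, hv, i, j, hij, hvi, hvj⟩ : ∃ v, B v v = 0 ∧ ∃ i j, i ≠ j ∧ b.repr v i ≠ 0 ∧ b.repr v j ≠ 0 := by
    by_contra h
    simp only [not_exists, not_and, not_not] at h
    have hu0 : u₀ ≠ 0 := hind.ne_zero 0
    have hw10 : w₁ ≠ 0 := hind.ne_zero 1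
    obtain ⟨i, hi⟩ : ∃ i, b.repr u₀ i ≠ 0 := by
      by_contra h'; simp only [not_exists, not_not] at h'
      exact hu0 (b.repr.map_eq_zero_iff.1 (Finsupp.ext h'))
    obtain ⟨j, hj⟩ : ∃ j, b.repr w₁ j ≠ 0 := by
      by_contra h'; simp only [not_exists, not_not] at h'
      exact hw10 (b.repr.map_eq_zero_iff.1 (Finsupp.ext h'))
    have hu1 : ∀ k, k ≠ i → b.repr u₀ k = 0 := fun k hk => h u₀ hu₀ i k (Ne.symm hk) hi
    have hw1 : ∀ k, k ≠ j → b.repr w₁ k = 0 := fun k hk => h w₁ hw₁ j k (Ne.symm hk) hj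
    by_cases hij : i = j
    · subst hij
      have h0 : b.repr w₁ i • u₀ + (-b.repr u₀ i) • w₁ + (0 : F) • w₂ = 0 := by
        apply b.repr.injective
        ext k
        rcases eq_or_ne k i with rfl | hk
        · simp; ring
        · simp [hu1 k hk, hw1 k hk]
      have := Fintype.linearIndependent_iff.1 hind ![b.repr w₁ i, -b.repr u₀ i, 0] (by
        simpa [Fin.sum_univ_three] using h0) 0
      exact hj (by simpa using this)
    · have hwu : B w₁ u₀ = 0 := by rw [← herm_symm hF, ho₁, map_zero]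
      refine absurd (h (u₀ + w₁) (by simp [map_add, hu₀, hw₁, ho₁, hwu]) i j hij ?_) ?_
      · simp [hw1 i hij, hi]
      · simp [hu1 j (Ne.symm hij), hj]
  have hu0 : u₀ ≠ 0 := hind.ne_zero 0
  have hv0 : v ≠ 0 := fun e => hvi (by simp [e])
  obtain ⟨A, t, hA⟩ := exists_move hF hu0 hu₀ hv0 hv
  have ht : t ≠ 0 := by
    rintro rfl
    rw [zero_smul] at hA
    exact hu0 ((smul_eq_zero_iff_eq A).1 hA)
  have himg : ∀ w, B w w = 0 → B u₀ w = 0 → ∀ k, k ≠ i → k ≠ j → b.repr (A • w) k = 0 := by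
    intro w hw huw k hki hkj
    refine hplane v (A • w) hv (by rw [SUTwoGen.smul_herm]; exact hw) ?_ i j k hij hki.symm hkj.symm hvi hvj
    have h2 : B (A • u₀) (A • w) = 0 := by rw [SUTwoGen.smul_herm]; exact huw
    simp only [hA, map_smulₛₗ, LinearMap.smul_apply, smul_eq_mul, mul_eq_zero] at h2
    exact h2.resolve_left ((map_ne_zero_iff _ (RingHom.injective _)).2 ht)
  have hle2 : Submodule.span F (Set.range ![A • u₀, A • w₁, A • w₂]) ≤ Submodule.span F {d i, d j} := by
    rw [Submodule.span_le]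
    rintro x ⟨m, rfl⟩
    have hx : ∀ x, (∀ k, k ≠ i → k ≠ j → b.repr x k = 0) → x ∈ Submodule.span F {d i, d j} := by
      intro x hx
      rw [Submodule.mem_span_pair]
      refine ⟨b.repr x i, b.repr x j, b.repr.injective ?_⟩
      ext k
      rw [← hb, ← hb]
      rcases eq_or_ne k i with rfl | hki
      · simp [hij, hij.symm]
      rcases eq_or_ne k j with rfl | hkj
      · simp [hij, hij.symm]
      simp [hx k hki hkj, hki, hkj, hki.symm, hkj.symm]
    fin_cases m
    · exact hx _ (himg u₀ hu₀ hu₀)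
    · exact hx _ (himg w₁ hw₁ ho₁)
    · exact hx _ (himg w₂ hw₂ ho₂)
  have hind' : LinearIndependent F ![A • u₀, A • w₁, A • w₂] := by
    refine Fintype.linearIndependent_iff.2 fun g hg => Fintype.linearIndependent_iff.1 hind g (MulAction.injective A ?_)
    simpa [Fin.sum_univ_three, smul_add, smul_comm A] using hg
  have h3 := finrank_span_eq_card hind'
  have h4 := Submodule.finrank_mono hle2
  have h5 : Module.finrank F (Submodule.span F ({d i, d j} : Set (Fin n → F))) ≤ 2 := by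
    refine le_trans (finrank_span_le_card _) ?_
    rw [Set.toFinset_insert, Set.toFinset_singleton]
    exact Finset.card_le_two
  rw [h3, Fintype.card_fin] at h4
  omega

include hF in
/-- A maximal subgroup of `SU_n(q)` contains the scalars. -/
theorem scalars_le_of_maximal (hn : 4 ≤ n) {H : Subgroup (GL (Fin n) F)}
    (hH : Cfsg.Geo.IsMaximalIn (omegaU n F q) H) : Cfsg.Geo.scalars (Fin n) F ⊓ omegaU n F q ≤ H := by
  set M := H ⊔ (Cfsg.Geo.scalars (Fin n) F ⊓ omegaU n F q)
  rcases hH.2 M le_sup_left (sup_le hH.1.le inf_le_right) with h | h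
  · exact le_sup_right.trans h.le
  exfalso
  have hc : ∀ w ∈ Cfsg.Geo.scalars (Fin n) F, ∀ m : GL (Fin n) F, m * w = w * m := by
    intro w hw m
    obtain ⟨c, hc⟩ := (Cfsg.Geo.mem_scalars_iff w).1 hw
    exact Units.ext (by simp [hc])
  have hle : (H ⊔ (Cfsg.Geo.scalars (Fin n) F ⊓ omegaU n F q) : Subgroup (GL (Fin n) F)) ≤
      { carrier := {x | ∃ a ∈ H, ∃ z ∈ Cfsg.Geo.scalars (Fin n) F, x = a * z}
        one_mem' := ⟨1, one_mem _, 1, one_mem _, (one_mul 1).symm⟩
        mul_mem' := by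
          rintro _ _ ⟨a, ha, z, hz, rfl⟩ ⟨b, hb, w, hw, rfl⟩
          refine ⟨a * b, mul_mem ha hb, z * w, mul_mem hz hw, ?_⟩
          rw [mul_assoc a z, ← mul_assoc z b, ← hc z hz b]
          group
        inv_mem' := by
          rintro _ ⟨a, ha, z, hz, rfl⟩
          exact ⟨a⁻¹, inv_mem ha, z⁻¹, inv_mem hz, by rw [mul_inv_rev, hc z⁻¹ (inv_mem hz) a⁻¹]⟩ } :=
    sup_le (fun a ha => ⟨a, ha, 1, one_mem _, (mul_one a).symm⟩) fun z hz => ⟨1, one_mem _, z, hz.1, (one_mul z).symm⟩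
  refine hH.1.not_ge ?_
  rw [← omegaU_perfect hF hn, Subgroup.commutator_le]
  intro x hx y hy
  obtain ⟨a, ha, z, hz, rfl⟩ := hle (h.symm ▸ hx : x ∈ M)
  obtain ⟨b, hb, w, hw, rfl⟩ := hle (h.symm ▸ hy : y ∈ M)
  have e : ⁅a * z, b * w⁆ = ⁅a, b⁆ := by
    rw [commutatorElement_def, commutatorElement_def, mul_inv_rev, mul_inv_rev,
      show a * z * (b * w) * (z⁻¹ * a⁻¹) * (w⁻¹ * b⁻¹) = a * (z * (b * w) * z⁻¹) * a⁻¹ * (w⁻¹ * b⁻¹) from by group,
      ← hc z hz (b * w), show a * (b * w * z * z⁻¹) * a⁻¹ * (w⁻¹ * b⁻¹) = a * b * (w * a⁻¹) * w⁻¹ * b⁻¹ from by group,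
      ← hc w hw a⁻¹]
    group
  rw [e, commutatorElement_def]
  exact mul_mem (mul_mem (mul_mem ha hb) (inv_mem ha)) (inv_mem hb)

end Cfsg.Agent.Lib.UnitPrimeDim
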