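import Mathlib

/-!
A finite model over the field with four elements: an element of order 11, its normaliser in the
five-dimensional unitary group, and a set of 55 lines stabilised by a larger group.
-/

set_option autoImplicit false

namespace Cfsg.Agent.Lib.UnitPrimeDim.FiveTwo

abbrev E := Fin 4
abbrev Vec := Fin 5 → E
abbrev Mat := Fin 5 → Fin 5 → E

def add (a b : E) : E := ![![0, 1, 2, 3], ![1, 0, 3, 2], ![2, 3, 0, 1], ![3, 2, 1, 0]] a b
def mul (a b : E) : E := ![![0, 0, 0, 0], ![0, 1, 2, 3], ![0, 2, 3, 1], ![0, 3, 1, 2]] a b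
def cj (a : E) : E := ![0, 1, 3, 2] a

def s5 (f : Fin 5 → E) : E := add (add (add (add (f 0) (f 1)) (f 2)) (f 3)) (f 4)

def mv (A : Mat) (v : Vec) : Vec := fun i => s5 fun k => mul (A i k) (v k)
def mm (A B : Mat) : Mat := fun i j => s5 fun k => mul (A i k) (B k j)
def idM : Mat := fun i j => if i = j then 1 else 0
def hf (G : Mat) (x y : Vec) : E :=
  s5 fun i => s5 fun j => mul (mul (x i) (cj (y j))) (G i j)

def unit (j : Fin 5) : Vec := fun i => if i = j then 1 else 0

def C : Mat := ![![0,0,0,0,1], ![1,0,0,0,2], ![0,1,0,0,1], ![0,0,1,0,1], ![0,0,0,1,3]]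
def N : Mat := ![![0,3,1,2,2], ![2,1,3,3,0], ![0,0,2,0,3], ![2,0,0,2,2], ![2,2,3,3,1]]
def T : Mat := ![![1,0,1,1,1], ![3,3,2,1,3], ![1,3,1,1,2], ![0,0,0,1,0], ![1,3,0,1,3]]
def A : Mat := ![![1,3,3,2,2], ![0,2,3,2,2], ![0,1,0,3,3], ![0,1,1,2,3], ![0,2,2,1,0]]

def d3 (c0 c1 c2 : E) : E :=
  add (add (add (add (cj c2) (mul 3 (cj c1))) c0) c1) (mul 2 c2)

def d4 (c0 c1 c2 : E) : E :=
  add (add (add (add (cj c1) (mul 3 c0)) c1) c2) (mul 2 (d3 c0 c1 c2))

/-- The Gram matrix of `v, g v, …, g ^ 4 v`. -/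
def gram (c0 c1 c2 : E) : Mat :=
  ![![c0, c1, c2, d3 c0 c1 c2, d4 c0 c1 c2],
    ![cj c1, c0, c1, c2, d3 c0 c1 c2],
    ![cj c2, cj c1, c0, c1, c2],
    ![cj (d3 c0 c1 c2), cj c2, cj c1, c0, c1],
    ![cj (d4 c0 c1 c2), cj (d3 c0 c1 c2), cj c2, cj c1, c0]]

def G0 : Mat := gram 1 0 0

def dec (n : ℕ) : Vec := fun i => ⟨n / 4 ^ (i : ℕ) % 4, Nat.mod_lt _ (by norm_num)⟩
def code (v : Vec) : ℕ :=
  (v 0 : ℕ) + 4 * ((v 1 : ℕ) + 4 * ((v 2 : ℕ) + 4 * ((v 3 : ℕ) + 4 * (v 4 : ℕ))))
def smulV (a : E) (v : Vec) : Vec := fun i => mul a (v i)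

theorem dec_code (v : Vec) : dec (code v) = v := by
  funext i
  have h0 := (v 0).isLt
  have h1 := (v 1).isLt
  have h2 := (v 2).isLt
  have h3 := (v 3).isLt
  have h4 := (v 4).isLt
  fin_cases i <;> apply Fin.ext <;> simp [dec, code] <;> omega

/-- A vector normalising the Gram matrix, indexed by `4 * c1 + c2`. -/
def xs : Fin 16 → ℕ :=
  ![256, 260, 932, 836, 580, 708, 340, 596, 772, 320, 784, 852, 436, 964, 848, 324]

def xvec (c1 c2 : E) : Vec := dec (xs ⟨4 * (c1 : ℕ) + (c2 : ℕ), by omega⟩)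

theorem normalise : ∀ c1 c2 : E,
    hf (gram 1 c1 c2) (xvec c1 c2) (xvec c1 c2) = 1 ∧
    hf (gram 1 c1 c2) (xvec c1 c2) (mv C (xvec c1 c2)) = 0 ∧
    hf (gram 1 c1 c2) (xvec c1 c2) (mv C (mv C (xvec c1 c2))) = 0 := by
  decide +kernel

def vecBool (p : Vec → Bool) : Bool := (List.range 1024).all fun n => p (dec n)

theorem vecBool_spec {p : Vec → Bool} (h : vecBool p = true) (v : Vec) : p v = true := by
  have hlt : code v < 1024 := by
    have h0 := (v 0).isLt
    have h1 := (v 1).isLt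
    have h2 := (v 2).isLt
    have h3 := (v 3).isLt
    have h4 := (v 4).isLt
    unfold code
    omega
  have := List.all_eq_true.1 h (code v) (List.mem_range.2 hlt)
  rwa [dec_code] at this

theorem nondeg_check :
    vecBool (fun a => decide ((∀ j, hf G0 a (unit j) = 0) → ∀ i, a i = 0)) = true := by
  decide +kernel

theorem nondeg (a : Vec) (h : ∀ j, hf G0 a (unit j) = 0) (i : Fin 5) : a i = 0 :=
  of_decide_eq_true (vecBool_spec nondeg_check a) h i

theorem gram_unit (m : Mat) : ∀ i j, mv m (unit j) i = m i j := by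
  intro i j
  have key : ∀ a : E, mul a 0 = 0 ∧ mul a 1 = a ∧ add a 0 = a ∧ add 0 a = a := by decide
  fin_cases j <;> simp [mv, unit, s5, key]

def S : List ℕ :=
  [576, 832, 144, 208, 708, 340, 468, 36, 356, 52, 564, 577, 385, 785, 721, 977, 673, 561, 817,
    369, 177, 753, 325, 837, 533, 85, 405, 469, 981, 293, 933, 741, 821, 117, 693, 501, 1013, 9,
    521, 713, 89, 345, 361, 1001, 13, 269, 589, 141, 973, 349, 669, 557, 877, 573, 765]

def okStab (m : Mat) : Bool :=
  S.all fun s => [1, 2, 3].any fun a => S.contains (code (smulV a (mv m (dec s))))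

theorem okStab_C : okStab C = true := by decide +kernel
theorem okStab_N : okStab N = true := by decide +kernel
theorem okStab_T : okStab T = true := by decide +kernel

theorem moved : ∀ a : E, S.contains (code (smulV a (mv A (dec 576)))) = false := by decide +kernel

theorem mem_576 : 576 ∈ S := by decide

def isu (m : Mat) : Prop := ∀ i j, hf G0 (fun k => m k i) (fun k => m k j) = G0 i j

theorem isu_C : isu C := by unfold isu; decide +kernel
theorem isu_N : isu N := by unfold isu; decide +kernel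
theorem isu_T : isu T := by unfold isu; decide +kernel
theorem isu_A : isu A := by unfold isu; decide +kernel

theorem T_sq : ∀ i j, mm T T i j = idM i j := by decide +kernel
theorem A_sq : ∀ i j, mm A A i j = idM i j := by decide +kernel
theorem N_inv : ∀ i j, mm N (mm N (mm N (mm N N))) i j = idM i j := by decide +kernel
theorem N_inv' : ∀ i j, mm (mm N (mm N (mm N N))) N i j = idM i j := by decide +kernel
theorem N_C : ∀ i j, mm N C i j = mm (mm C (mm C (mm C C))) N i j := by decide +kernel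
theorem T_not_normal : ¬ ∀ i j, mm (mm (mm T C) T) C i j = mm C (mm (mm T C) T) i j := by
  decide +kernel

end Cfsg.Agent.Lib.UnitPrimeDim.FiveTwo
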