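import Mathlib
import Cfsg.Prelude.Def_GeometricClasses
import Cfsg.Agent.Lib.Classical.HermForm
import Cfsg.Agent.Lib.UnitPrimeDim.Reduce
import Cfsg.Agent.Lib.UnitPrimeDim.Proper
import Cfsg.Agent.Lib.UnitPrimeDim.FiveTwoModel
import Cfsg.Agent.Lib.KnownA.PrimeDim.Clifford

/-!
In the five-dimensional unitary group over the field with four elements, the normaliser of a
degree five field subalgebra is not maximal.
-/

set_option autoImplicit false
set_option maxHeartbeats 1000000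
set_option linter.unusedSimpArgs false
set_option linter.unusedSectionVars false

namespace Cfsg.Agent.Lib.UnitPrimeDim.FiveTwo

open scoped Matrix
open Cfsg.Geo

variable {F : Type*} [Field F]

/-- The data identifying the field with the model. -/
structure IsFour (w : F) : Prop where
  hw : w * w = w + 1
  two : (2 : F) = 0
  surj : ∀ x : F, x = 0 ∨ x = 1 ∨ x = w ∨ x = w + 1

def phi (w : F) (a : E) : F := ![0, 1, w, w + 1] a

theorem exists_isFour [Fintype F] (hF : Fintype.card F = 4) : ∃ w : F, IsFour w := by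
  classical
  have two : (2 : F) = 0 := by
    have h : ((Fintype.card F : ℕ) : F) = 0 := FiniteField.cast_card_eq_zero F
    rw [hF] at h
    push_cast at h
    have : (2 : F) * 2 = 0 := by linear_combination h
    exact mul_self_eq_zero.1 this
  obtain ⟨w, hw0, hw1⟩ : ∃ w : F, w ≠ 0 ∧ w ≠ 1 := by
    by_contra! hcon
    have : (Finset.univ : Finset F) ⊆ {0, 1} := fun x _ => by
      by_cases hx : x = 0
      · simp [hx]
      · simp [hcon x hx]
    have := Finset.card_le_card this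
    rw [Finset.card_univ, hF] at this
    exact absurd (this.trans Finset.card_le_two) (by norm_num)
  have hw : w * w = w + 1 := by
    have h4 : w ^ 4 = w := by rw [← hF]; exact FiniteField.pow_card w
    have : (w * w + w + 1) * ((w - 1) * w) = 0 := by linear_combination h4
    rcases mul_eq_zero.1 this with h | h
    · linear_combination h - (w + 1) * two
    · rcases mul_eq_zero.1 h with h | h
      · exact absurd (sub_eq_zero.1 h) hw1
      · exact absurd h hw0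
  refine ⟨w, hw, two, fun x => ?_⟩
  have hw2 : w + 1 ≠ 0 := fun h => by rw [h] at hw; exact hw0 (mul_self_eq_zero.1 hw)
  have hcard : ({0, 1, w, w + 1} : Finset F).card = 4 := by
    rw [Finset.card_insert_of_notMem, Finset.card_insert_of_notMem, Finset.card_pair]
    · intro h; exact one_ne_zero (α := F) (by linear_combination -h)
    · simp [Ne.symm hw1, hw0]
    · simp [Ne.symm hw0, Ne.symm hw2]
  have := (Finset.card_eq_iff_eq_univ _).1 (hcard.trans hF.symm)
  have hx : x ∈ ({0, 1, w, w + 1} : Finset F) := this ▸ Finset.mem_univ x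
  simpa using hx

namespace IsFour

variable {w : F} (hw : IsFour w)
include hw

theorem phi_add (a b : E) : phi w (add a b) = phi w a + phi w b := by
  obtain ⟨h1, h2, -⟩ := hw
  fin_cases a <;> fin_cases b <;> simp [phi, add] <;> grind

theorem phi_mul (a b : E) : phi w (mul a b) = phi w a * phi w b := by
  obtain ⟨h1, h2, -⟩ := hw
  fin_cases a <;> fin_cases b <;> simp [phi, mul] <;> grind

theorem phi_cj (a : E) : phi w (cj a) = phi w a ^ 2 := by
  obtain ⟨h1, h2, -⟩ := hw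
  fin_cases a <;> simp [phi, cj] <;> grind

theorem phi_s5 (f : Fin 5 → E) : phi w (s5 f) = ∑ i, phi w (f i) := by
  simp only [s5, hw.phi_add, Fin.sum_univ_five]

theorem phi_zero : phi w 0 = 0 := by simp [phi]
theorem phi_one : phi w 1 = 1 := by simp [phi]
theorem phi_two : phi w 2 = w := by simp [phi]
theorem phi_three : phi w 3 = w + 1 := by simp [phi]

theorem phi_eq_zero (a : E) (h : phi w a = 0) : a = 0 := by
  obtain ⟨h1, h2, -⟩ := hw
  fin_cases a <;> simp [phi] at h ⊢ <;> grind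

theorem phi_inj : Function.Injective (phi w) := by
  intro a b h
  have key : ∀ a b : E, add a b = 0 → a = b := by decide
  refine key a b (hw.phi_eq_zero _ ?_)
  rw [hw.phi_add, h]
  linear_combination (phi w b) * hw.two

theorem phi_surj (x : F) : ∃ a, phi w a = x := by
  rcases hw.surj x with h | h | h | h
  · exact ⟨0, by rw [h, hw.phi_zero]⟩
  · exact ⟨1, by rw [h, hw.phi_one]⟩
  · exact ⟨2, by rw [h, hw.phi_two]⟩
  · exact ⟨3, by rw [h, hw.phi_three]⟩

theorem pow_four (x : F) : x ^ 4 = x := by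
  obtain ⟨h1, h2, h3⟩ := hw
  rcases h3 x with rfl | rfl | rfl | rfl <;> grind

end IsFour

theorem sum_cycle_poly {R : Type*} [CommRing R] (w g : R) (hw : w * w = w + 1) (h2 : (2 : R) = 0)
    (h0 : g ^ 5 + (w + 1) * g ^ 4 + g ^ 3 + g ^ 2 + w * g + 1 ≠ 0)
    (h1 : g ^ 5 + w * g ^ 4 + g ^ 3 + g ^ 2 + (w + 1) * g + 1 ≠ 0)
    (hg : g ^ 11 = 1) (hg1 : g ≠ 1) [IsDomain R] : False := by
  have : (g - 1) * ((g ^ 5 + (w + 1) * g ^ 4 + g ^ 3 + g ^ 2 + w * g + 1) *
      (g ^ 5 + w * g ^ 4 + g ^ 3 + g ^ 2 + (w + 1) * g + 1)) = 0 := by grind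
  rcases mul_eq_zero.1 this with h | h
  · exact hg1 (sub_eq_zero.1 h)
  · rcases mul_eq_zero.1 h with h | h
    · exact h0 h
    · exact h1 h

section main

variable [Fintype F] {w : F}

local notation "f" => Cfsg.hermForm 5 F 2
local notation "MM" => Matrix (Fin 5) (Fin 5) F
local notation "GLn" => Matrix.GeneralLinearGroup (Fin 5) F
local notation "VV" => (Fin 5 → F)

theorem herm_add_right' (hF : Fintype.card F = 2 ^ 2) (x a b : VV) : f x (a + b) = f x a + f x b :=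
  map_add (hermRight hF x) a b

theorem herm_zero_right (hF : Fintype.card F = 2 ^ 2) (x : VV) : f x 0 = 0 :=
  map_zero (hermRight hF x)

/-- Coordinates to vectors, along a family. -/
def lin (e : Fin 5 → VV) (a : Fin 5 → F) : VV :=
  a 0 • e 0 + a 1 • e 1 + a 2 • e 2 + a 3 • e 3 + a 4 • e 4

theorem herm_lin (hF : Fintype.card F = 2 ^ 2) (hw : IsFour w) (e : Fin 5 → VV) (G : Mat)
    (h : ∀ i j, f (e i) (e j) = phi w (G i j)) (a b : Vec) :
    f (lin e (phi w ∘ a)) (lin e (phi w ∘ b)) = phi w (hf G a b) := by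
  simp only [hf, hw.phi_s5, hw.phi_mul, hw.phi_cj, lin, Function.comp_apply, herm_add_left,
    herm_add_right' hF, herm_smul_left, herm_smul_right, h, Fin.sum_univ_five]
  ring

theorem pow_eleven_mod {M : Type*} [Monoid M] {g : M} (hg : g ^ 11 = 1) (m : ℕ) :
    g ^ m = g ^ (m % 11) := by
  conv_lhs => rw [← Nat.div_add_mod m 11, pow_add, pow_mul, hg, one_pow, one_mul]

theorem eq_one_of_forall_herm (hF : Fintype.card F = 2 ^ 2) {X : MM}
    (h : ∀ u v, f u (X *ᵥ v) = f u v) : X = 1 := by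
  refine Cfsg.Agent.Lib.KnownA.PrimeDim.eq_of_mulVec fun v => ?_
  rw [Matrix.one_mulVec]
  refine sub_eq_zero.1 (herm_nondeg hF fun u => ?_)
  show hermRight hF u (X *ᵥ v - v) = 0
  rw [map_sub]
  exact sub_eq_zero.2 (h u v)

/-- Realisation of a model matrix on a basis matrix `P`. -/
noncomputable def real (w : F) (P : GLn) (m : Mat) : MM :=
  (P : MM) * Matrix.of (fun i j => phi w (m i j)) * ((P⁻¹ : GLn) : MM)

theorem real_mul (hw : IsFour w) (P : GLn) (a b : Mat) :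
    real w P (mm a b) = real w P a * real w P b := by
  have : (Matrix.of fun i j => phi w (mm a b i j) : MM) =
      Matrix.of (fun i j => phi w (a i j)) * Matrix.of (fun i j => phi w (b i j)) := by
    ext i j
    simp only [Matrix.of_apply, Matrix.mul_apply, mm, hw.phi_s5, hw.phi_mul]
  simp only [real, this, Matrix.mul_assoc, ← Matrix.mul_assoc ((P⁻¹ : GLn) : MM), ← Units.val_mul,
    inv_mul_cancel, Units.val_one, Matrix.one_mul]

theorem real_congr (P : GLn) {a b : Mat} (h : ∀ i j, a i j = b i j) : real w P a = real w P b := by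
  rw [show a = b from funext fun i => funext (h i)]

theorem real_id (hw : IsFour w) (P : GLn) : real w P idM = 1 := by
  have : (Matrix.of fun i j => phi w (idM i j) : MM) = 1 := by
    ext i j
    by_cases h : i = j
    · subst h; simp [idM, hw.phi_one]
    · simp [idM, h, hw.phi_zero]
  simp [real, this, ← Units.val_mul]

theorem real_inj (hw : IsFour w) (P : GLn) {a b : Mat} (h : real w P a = real w P b) (i j : Fin 5) :
    a i j = b i j := by
  have h' := congrArg (fun X : MM => ((P⁻¹ : GLn) : MM) * X * (P : MM)) h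
  simp only [real, Matrix.mul_assoc, ← Units.val_mul, inv_mul_cancel, Units.val_one,
    Matrix.mul_one] at h'
  simp only [← Matrix.mul_assoc, ← Units.val_mul, inv_mul_cancel, Units.val_one,
    Matrix.one_mul] at h'
  exact hw.phi_inj (congrFun (congrFun h' i) j)

theorem eq_two_of_card (hq : Fintype.card F = 2 ^ 2) : Fintype.card F = 4 := by simpa using hq

theorem gram_upper (c0 c1 c2 : E) : ∀ i j : Fin 5, (i : ℕ) ≤ j →
    gram c0 c1 c2 i j =
      (![c0, c1, c2, d3 c0 c1 c2, d4 c0 c1 c2] : Fin 5 → E) ⟨(j : ℕ) - i, by omega⟩ := by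
  intro i j h
  fin_cases i <;> fin_cases j <;> first | rfl | exact absurd h (by decide)

theorem gram_lower (c0 c1 c2 : E) : ∀ i j : Fin 5, (j : ℕ) < i →
    gram c0 c1 c2 i j = cj (gram c0 c1 c2 j i) := by
  intro i j h
  fin_cases i <;> fin_cases j <;> first | rfl | exact absurd h (by decide)

/-- The Gram matrix of the orbit of `v` under `g` is determined by three entries. -/
theorem gram_spec (hF : Fintype.card F = 2 ^ 2) (hw : IsFour w) (Gm : MM)
    (hGUp : ∀ (m : ℕ) (u v : VV), f ((Gm ^ m) *ᵥ u) ((Gm ^ m) *ᵥ v) = f u v)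
    (hrec : ∀ u : VV, (Gm ^ 5) *ᵥ u = u + w • (Gm *ᵥ u) + (Gm ^ 2) *ᵥ u + (Gm ^ 3) *ᵥ u +
      (w + 1) • ((Gm ^ 4) *ᵥ u))
    (v : VV) (c0 c1 c2 : E) (h0 : f v v = phi w c0) (h1 : f v (Gm *ᵥ v) = phi w c1)
    (h2 : f v ((Gm ^ 2) *ᵥ v) = phi w c2) (i j : Fin 5) :
    f ((Gm ^ (i : ℕ)) *ᵥ v) ((Gm ^ (j : ℕ)) *ᵥ v) = phi w (gram c0 c1 c2 i j) := by
  have hsh : ∀ a b : ℕ, f ((Gm ^ a) *ᵥ v) ((Gm ^ (a + b)) *ᵥ v) = f v ((Gm ^ b) *ᵥ v) := by
    intro a b
    rw [pow_add, ← Matrix.mulVec_mulVec, hGUp]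
  have hcj : ∀ x y : VV, f y x = f x y ^ 2 := fun x y => (herm_symm hF x y).symm
  have hwc : w ^ 2 = w + 1 := by rw [pow_two]; exact hw.hw
  have t0 : f (Gm *ᵥ v) (Gm *ᵥ v) = phi w c0 := by simpa [h0] using hsh 1 0
  have t1 : f ((Gm ^ 2) *ᵥ v) ((Gm ^ 2) *ᵥ v) = phi w c0 := by simpa [h0] using hsh 2 0
  have u1 : f (Gm *ᵥ v) ((Gm ^ 2) *ᵥ v) = phi w c1 := by simpa [h1] using hsh 1 1
  have u2 : f ((Gm ^ 2) *ᵥ v) ((Gm ^ 3) *ᵥ v) = phi w c1 := by simpa [h1] using hsh 2 1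
  have s1 : f (Gm *ᵥ v) ((Gm ^ 3) *ᵥ v) = phi w c2 := by simpa [h2] using hsh 1 2
  have s2 : f ((Gm ^ 2) *ᵥ v) ((Gm ^ 4) *ᵥ v) = phi w c2 := by simpa [h2] using hsh 2 2
  have g03 : f v ((Gm ^ 3) *ᵥ v) = phi w (d3 c0 c1 c2) := by
    have h := hsh 2 3
    rw [show (2 + 3 : ℕ) = 5 from rfl] at h
    rw [hrec, herm_add_right' hF, herm_add_right' hF, herm_add_right' hF, herm_add_right' hF,
      herm_smul_right, herm_smul_right, t1, u2, s2, hcj v ((Gm ^ 2) *ᵥ v),
      hcj (Gm *ᵥ v) ((Gm ^ 2) *ᵥ v), h2, u1] at h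
    simp only [d3, hw.phi_add, hw.phi_mul, hw.phi_cj, hw.phi_two, hw.phi_three]
    linear_combination -h + (phi w c1 ^ 2 + phi w c2) * hwc + (phi w c2 * (w + 1)) * hw.two
  have g04 : f v ((Gm ^ 4) *ᵥ v) = phi w (d4 c0 c1 c2) := by
    have h := hsh 1 4
    have s3 : f (Gm *ᵥ v) ((Gm ^ 4) *ᵥ v) = phi w (d3 c0 c1 c2) := by
      simpa [g03] using hsh 1 3
    rw [show (1 + 4 : ℕ) = 5 from rfl, pow_one] at h
    rw [hrec, herm_add_right' hF, herm_add_right' hF, herm_add_right' hF, herm_add_right' hF,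
      herm_smul_right, herm_smul_right, hcj v (Gm *ᵥ v), h1, t0, u1, s1, s3] at h
    simp only [d4, hw.phi_add, hw.phi_mul, hw.phi_cj, hw.phi_two, hw.phi_three]
    linear_combination -h + (phi w c0 + phi w (d3 c0 c1 c2)) * hwc +
      (phi w (d3 c0 c1 c2) * (w + 1)) * hw.two
  have hd : ∀ d : Fin 5, f v ((Gm ^ (d : ℕ)) *ᵥ v) =
      phi w ((![c0, c1, c2, d3 c0 c1 c2, d4 c0 c1 c2] : Fin 5 → E) d) := by
    intro d
    fin_cases d
    · simpa using h0
    · simpa using h1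
    · simpa using h2
    · simpa using g03
    · simpa using g04
  have up : ∀ i j : Fin 5, (i : ℕ) ≤ j →
      f ((Gm ^ (i : ℕ)) *ᵥ v) ((Gm ^ (j : ℕ)) *ᵥ v) = phi w (gram c0 c1 c2 i j) := by
    intro i j hij
    rw [gram_upper _ _ _ i j hij, ← hd, ← hsh (i : ℕ) ((j : ℕ) - i), Nat.add_sub_of_le hij]
  rcases Nat.lt_or_ge (j : ℕ) i with h | h
  · rw [gram_lower _ _ _ i j h, hw.phi_cj, hcj, up j i h.le]
  · exact up i j h

/-- The two quintic factors of the cyclotomic polynomial. -/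
def poly0 {R : Type*} [CommRing R] (W y : R) : R :=
  y ^ 5 + (W + 1) * y ^ 4 + y ^ 3 + y ^ 2 + W * y + 1

def poly1 {R : Type*} [CommRing R] (W y : R) : R :=
  y ^ 5 + W * y ^ 4 + y ^ 3 + y ^ 2 + (W + 1) * y + 1

theorem sq_poly {R : Type*} [CommRing R] {W : R} (hW : W * W = W + 1) (two : (2 : R) = 0)
    (y : R) : poly1 W (y ^ 2) = poly0 W y ^ 2 ∧ poly0 W (y ^ 2) = poly1 W y ^ 2 := by
  simp only [poly0, poly1]
  constructor <;> grind

theorem no_common_root {K : Type*} [Field K] {W : K} (hW : W * W = W + 1) (two : (2 : K) = 0)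
    {y : K} (hy11 : y ^ 11 = 1) (hne : y ≠ 1) : ¬ (poly0 W y = 0 ∧ poly1 W y = 0) := by
  intro ⟨ha, hb⟩
  have hy0 : y ≠ 0 := fun h => by rw [h, zero_pow (by norm_num)] at hy11; exact zero_ne_one hy11
  have h' : y * (y - 1) * (y ^ 2 + y + 1) = 0 := by
    simp only [poly0, poly1] at ha hb; grind
  rcases mul_eq_zero.1 h' with h | h
  · rcases mul_eq_zero.1 h with h | h
    · exact hy0 h
    · exact hne (sub_eq_zero.1 h)
  · have h3 : y ^ 3 = 1 := by linear_combination (y - 1) * h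
    exact hne (by
      calc y = y ^ 11 * y := by rw [hy11, one_mul]
        _ = (y ^ 3) ^ 4 := by ring
        _ = 1 := by rw [h3, one_pow])

theorem exists_root {K : Type*} [Field K] [Finite K] (hcard : Nat.card K = 1024) {W : K}
    (hW : W * W = W + 1) (two : (2 : K) = 0) : ∃ g : K, g ^ 11 = 1 ∧ g ≠ 1 ∧ poly0 W g = 0 := by
  obtain ⟨gu, hgu⟩ : ∃ g : Kˣ, orderOf g = 11 := by
    have : Fact (Nat.Prime 11) := ⟨by norm_num⟩
    apply exists_prime_orderOf_dvd_card'
    rw [Nat.card_units, hcard]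
    norm_num
  have h11 : (gu : K) ^ 11 = 1 := by
    rw [← Units.val_pow_eq_pow_val, ← hgu, pow_orderOf_eq_one, Units.val_one]
  have h1 : (gu : K) ≠ 1 := fun h => by
    rw [Units.val_eq_one] at h
    simp [h] at hgu
  by_cases h0 : poly0 W (gu : K) = 0
  · exact ⟨gu, h11, h1, h0⟩
  · have h : poly1 W (gu : K) = 0 := by
      by_contra h
      exact sum_cycle_poly W (gu : K) hW two h0 h h11 h1
    refine ⟨(gu : K) ^ 2, by rw [← pow_mul, mul_comm, pow_mul, h11, one_pow], fun h2 => h1 ?_,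
      by rw [(sq_poly hW two _).2, h]; ring⟩
    calc (gu : K) = (gu : K) ^ 11 * gu := by rw [h11, one_mul]
      _ = ((gu : K) ^ 2) ^ 6 := by ring
      _ = 1 := by rw [h2, one_pow]

theorem roots {K : Type*} [Field K] {W g : K} (hW : W * W = W + 1) (two : (2 : K) = 0)
    (hg11 : g ^ 11 = 1) (hg1 : g ≠ 1) (hgf0 : poly0 W g = 0) {y : K} (hy : y ^ 11 = 1)
    (hy1 : y ≠ 1) (hy0 : poly0 W y = 0) : ∃ j : ℕ, y = g ^ (4 ^ j) := by
  have : Fact (Nat.Prime 11) := ⟨by norm_num⟩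
  have hprim : IsPrimitiveRoot g 11 := orderOf_eq_prime hg11 hg1 ▸ IsPrimitiveRoot.orderOf g
  have hpm : ∀ m, g ^ m = g ^ (m % 11) := pow_eleven_mod hg11
  have s0 : ∀ {y : K}, poly0 W y = 0 → poly1 W (y ^ 2) = 0 := fun h => by
    rw [(sq_poly hW two _).1, h]; ring
  have s1 : ∀ {y : K}, poly1 W y = 0 → poly0 W (y ^ 2) = 0 := fun h => by
    rw [(sq_poly hW two _).2, h]; ring
  have r2 := s0 hgf0
  have r4 := s1 r2
  have r8 := s0 r4
  have r5 := s1 r8
  have r10 := s0 r5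
  have r9 := s1 r10
  have r7 := s0 r9
  have r3 := s1 r7
  have r6 := s0 r3
  simp only [← pow_mul] at r4 r8 r5 r10 r9 r7 r3 r6
  rw [hpm] at r4 r8 r5 r10 r9 r7 r3 r6
  simp only [Nat.reduceMul, Nat.reduceMod] at r4 r8 r5 r10 r9 r7 r3 r6
  obtain ⟨i, hi, rfl⟩ := hprim.eq_pow_of_pow_eq_one hy
  have no := fun h => no_common_root hW two hy hy1 ⟨hy0, h⟩
  interval_cases i
  · exact absurd (pow_zero g) hy1
  · exact ⟨0, by simp⟩
  · exact absurd r2 no
  · exact ⟨4, (hpm (4 ^ 4)).symm⟩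
  · exact ⟨1, by simp⟩
  · exact ⟨2, (hpm (4 ^ 2)).symm⟩
  · exact absurd r6 no
  · exact absurd r7 no
  · exact absurd r8 no
  · exact ⟨3, (hpm (4 ^ 3)).symm⟩
  · exact absurd r10 no

theorem pow_thirtytwo {K : Type*} [Field K] [Algebra F K] (hw : IsFour w) (two : (2 : K) = 0)
    {g : K} (hg11 : g ^ 11 = 1) (a : Fin 5 → F) :
    (∑ i : Fin 5, a i • g ^ (i : ℕ)) ^ 32 = ∑ i : Fin 5, a i ^ 2 • g ^ (10 * (i : ℕ)) := by
  have : Fact (Nat.Prime 2) := ⟨Nat.prime_two⟩
  have : CharP K 2 := CharTwo.of_one_ne_zero_of_two_eq_zero one_ne_zero two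
  show (∑ i : Fin 5, a i • g ^ (i : ℕ)) ^ (2 ^ 5) = _
  rw [sum_pow_char_pow]
  refine Finset.sum_congr rfl fun i _ => ?_
  have ha : a i ^ (2 ^ 5) = a i ^ 2 := by
    calc a i ^ (2 ^ 5) = ((a i ^ 4) ^ 4) ^ 2 := by ring
      _ = a i ^ 2 := by rw [hw.pow_four, hw.pow_four]
  have hg : (g ^ (i : ℕ)) ^ (2 ^ 5) = g ^ (10 * (i : ℕ)) := by
    rw [← pow_mul, pow_eleven_mod hg11, pow_eleven_mod hg11 (10 * (i : ℕ))]
    exact congrArg (g ^ ·) (by omega)
  rw [smul_pow, ha, hg]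

theorem cube_roots {K : Type*} [Field K] [Algebra F K] (hw : IsFour w) (two : (2 : K) = 0)
    {k : K} (hk33 : k ^ 33 = 1) : ∃ c : F, c ≠ 0 ∧ (algebraMap F K c * k) ^ 11 = 1 := by
  have hW : algebraMap F K w * algebraMap F K w = algebraMap F K w + 1 := by
    simpa only [map_mul, map_add, map_one] using congrArg (algebraMap F K) hw.hw
  have h' : (k ^ 11 - 1) * ((k ^ 11 - algebraMap F K w) * (k ^ 11 - (algebraMap F K w + 1))) = 0 := by
    grind
  have hw0 : w ≠ 0 := fun h => by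
    have := hw.hw; rw [h] at this; simp at this
  have hw1 : w + 1 ≠ 0 := fun h => by
    have := hw.hw; rw [h] at this; exact hw0 (mul_self_eq_zero.1 this)
  obtain ⟨c, hc0, hc⟩ : ∃ c : F, c ≠ 0 ∧ algebraMap F K c = k ^ 11 := by
    rcases mul_eq_zero.1 h' with h | h
    · exact ⟨1, one_ne_zero, by rw [map_one, sub_eq_zero.1 h]⟩
    · rcases mul_eq_zero.1 h with h | h
      · exact ⟨w, hw0, (sub_eq_zero.1 h).symm⟩
      · exact ⟨w + 1, hw1, by rw [map_add, map_one]; exact (sub_eq_zero.1 h).symm⟩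
  have hc3 : c ^ 3 = 1 := mul_left_cancel₀ hc0 (by rw [← pow_succ', hw.pow_four, mul_one])
  refine ⟨c, hc0, ?_⟩
  rw [mul_pow, ← hc, ← pow_succ, ← map_pow, show (11 + 1) = 3 * 4 from rfl, pow_mul, hc3,
    one_pow, map_one]

/-- Lists of model vectors as vectors of the space. -/
abbrev J (w : F) (P : GLn) (a : Vec) : VV := (P : MM) *ᵥ (phi w ∘ a)

theorem shift (hw : IsFour w) (Gm : MM)
    (hrec : ∀ u : VV, (Gm ^ 5) *ᵥ u = u + w • (Gm *ᵥ u) + (Gm ^ 2) *ᵥ u + (Gm ^ 3) *ᵥ u +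
      (w + 1) • ((Gm ^ 4) *ᵥ u)) (u : VV) (a : Vec) :
    Gm *ᵥ lin (fun i => (Gm ^ (i : ℕ)) *ᵥ u) (phi w ∘ a) =
      lin (fun i => (Gm ^ (i : ℕ)) *ᵥ u) (phi w ∘ mv C a) := by
  have hr := hrec u
  have e0 : mv C a 0 = a 4 := by
    have key : ∀ x0 x1 x2 x3 x4 : E, mv C ![x0, x1, x2, x3, x4] 0 = x4 := by decide +kernel
    have := key (a 0) (a 1) (a 2) (a 3) (a 4)
    rwa [show (![a 0, a 1, a 2, a 3, a 4] : Vec) = a from funext fun i => by fin_cases i <;> rfl] at this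
  have e1 : mv C a 1 = add (a 0) (mul 2 (a 4)) ∧ mv C a 2 = add (a 1) (a 4) ∧
      mv C a 3 = add (a 2) (a 4) ∧ mv C a 4 = add (a 3) (mul 3 (a 4)) := by
    have key : ∀ x0 x1 x2 x3 x4 : E, mv C ![x0, x1, x2, x3, x4] 1 = add x0 (mul 2 x4) ∧
        mv C ![x0, x1, x2, x3, x4] 2 = add x1 x4 ∧ mv C ![x0, x1, x2, x3, x4] 3 = add x2 x4 ∧
        mv C ![x0, x1, x2, x3, x4] 4 = add x3 (mul 3 x4) := by decide +kernel
    have := key (a 0) (a 1) (a 2) (a 3) (a 4)
    rwa [show (![a 0, a 1, a 2, a 3, a 4] : Vec) = a from funext fun i => by fin_cases i <;> rfl] at this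
  simp only [lin, Function.comp_apply, e0, e1.1, e1.2.1, e1.2.2.1, e1.2.2.2, hw.phi_add, hw.phi_mul,
    hw.phi_two, hw.phi_three, Fin.val_zero, Fin.val_one, Fin.val_two,
    show ((3 : Fin 5) : ℕ) = 3 from rfl, show ((4 : Fin 5) : ℕ) = 4 from rfl,
    Matrix.mulVec_add, Matrix.mulVec_smul, Matrix.mulVec_mulVec, ← pow_succ', Nat.reduceAdd]
  simp only [pow_zero, pow_one, Matrix.one_mulVec, hr]
  module

/-- A basis in which `Gm` acts as the companion matrix and the form has the standard matrix. -/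
theorem exists_frame (hF : Fintype.card F = 2 ^ 2) (hw : IsFour w) (Gm : MM)
    (hGUp : ∀ (m : ℕ) (u v : VV), f ((Gm ^ m) *ᵥ u) ((Gm ^ m) *ᵥ v) = f u v)
    (hrec : ∀ u : VV, (Gm ^ 5) *ᵥ u = u + w • (Gm *ᵥ u) + (Gm ^ 2) *ᵥ u + (Gm ^ 3) *ᵥ u +
      (w + 1) • ((Gm ^ 4) *ᵥ u)) :
    ∃ (P : GLn) (v : VV), (∀ a b : Vec, f (J w P a) (J w P b) = phi w (hf G0 a b)) ∧
      (∀ a, Gm *ᵥ J w P a = J w P (mv C a)) ∧
      ∀ a : Fin 5 → F, (P : MM) *ᵥ a = lin (fun i => (Gm ^ (i : ℕ)) *ᵥ v) a := by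
  let v0 : VV := Pi.single 0 1
  have hv00 : f v0 v0 = phi w 1 := by
    simp [v0, Cfsg.hermForm, hw.phi_one, Fin.sum_univ_five]
  obtain ⟨c1, hc1⟩ := hw.phi_surj (f v0 (Gm *ᵥ v0))
  obtain ⟨c2, hc2⟩ := hw.phi_surj (f v0 ((Gm ^ 2) *ᵥ v0))
  have hgr := gram_spec hF hw Gm hGUp hrec v0 1 c1 c2 hv00 hc1.symm hc2.symm
  let e0 : Fin 5 → VV := fun i => (Gm ^ (i : ℕ)) *ᵥ v0
  let v : VV := lin e0 (phi w ∘ xvec c1 c2)
  obtain ⟨nv0, nv1, nv2⟩ := normalise c1 c2
  have hv0 : f v v = phi w 1 := by rw [herm_lin hF hw e0 _ hgr, nv0]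
  have hv1 : f v (Gm *ᵥ v) = phi w 0 := by
    rw [shift hw Gm hrec, herm_lin hF hw e0 _ hgr, nv1]
  have hv2 : f v ((Gm ^ 2) *ᵥ v) = phi w 0 := by
    rw [pow_two, ← Matrix.mulVec_mulVec, shift hw Gm hrec, shift hw Gm hrec,
      herm_lin hF hw e0 _ hgr, nv2]
  let e : Fin 5 → VV := fun i => (Gm ^ (i : ℕ)) *ᵥ v
  have hG : ∀ i j, f (e i) (e j) = phi w (G0 i j) :=
    gram_spec hF hw Gm hGUp hrec v 1 0 0 hv0 hv1 hv2
  let Pm : MM := Matrix.of fun i j => e j i
  have hPlin : ∀ a, Pm *ᵥ a = lin e a := fun a => by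
    ext i
    simp [Pm, Matrix.mulVec, dotProduct, lin, Fin.sum_univ_five, mul_comm]
  have hinj : Function.Injective Pm.mulVec := by
    intro a b hab
    have h0 : lin e (a - b) = 0 := by
      rw [← hPlin, Matrix.mulVec_sub]; exact sub_eq_zero.2 hab
    have : ∀ i, ∃ x, phi w x = (a - b) i := fun i => hw.phi_surj _
    choose x hx using this
    have hx' : phi w ∘ x = a - b := funext hx
    have hz := nondeg x fun j => hw.phi_eq_zero _ (by
      rw [← herm_lin hF hw e G0 hG x (unit j), hx', h0]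
      simp [Cfsg.hermForm])
    refine sub_eq_zero.1 (funext fun i => ?_)
    rw [← hx i, hz i, hw.phi_zero]; rfl
  obtain ⟨P, hP⟩ := Matrix.mulVec_injective_iff_isUnit.1 hinj
  refine ⟨P, v, fun a b => ?_, fun a => ?_, fun a => by rw [hP, hPlin]⟩
  · rw [J, J, hP, hPlin, hPlin, herm_lin hF hw e G0 hG]
  · rw [J, J, hP, hPlin, hPlin]
    exact shift hw Gm hrec v a

theorem real_act (hw : IsFour w) (P : GLn) (m : Mat) (a : Vec) :
    real w P m *ᵥ J w P a = J w P (mv m a) := by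
  rw [J, J, real, Matrix.mulVec_mulVec, Matrix.mul_assoc, ← Units.val_mul,
    inv_mul_cancel, Units.val_one, Matrix.mul_one, ← Matrix.mulVec_mulVec]
  congr 1
  funext i
  simp [Matrix.mulVec, dotProduct, mv, hw.phi_s5, hw.phi_mul]

theorem J_surj (hw : IsFour w) (P : GLn) (u : VV) : ∃ a : Vec, J w P a = u := by
  have : ∀ i, ∃ x, phi w x = (((P⁻¹ : GLn) : MM) *ᵥ u) i := fun i => hw.phi_surj _
  choose x hx using this
  exact ⟨x, by rw [J, show phi w ∘ x = ((P⁻¹ : GLn) : MM) *ᵥ u from funext hx,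
    Cfsg.Agent.Lib.KnownA.PrimeDim.mul_inv_cancel_vec]⟩

theorem real_isometry (hF : Fintype.card F = 2 ^ 2) (hw : IsFour w) (P : GLn)
    (hJf : ∀ a b : Vec, f (J w P a) (J w P b) = phi w (hf G0 a b)) (m : Mat) (hm : isu m)
    (x y : VV) : f (real w P m *ᵥ x) (real w P m *ᵥ y) = f x y := by
  let e : Fin 5 → VV := fun j => J w P (unit j)
  have hl : ∀ a : Vec, J w P a = lin e (phi w ∘ a) := fun a => by
    show _ = lin (fun j => J w P (unit j)) _
    simp only [lin, J, ← Matrix.mulVec_smul, ← Matrix.mulVec_add]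
    congr 1
    funext i
    fin_cases i <;> simp [unit, hw.phi_one, hw.phi_zero]
  have hu : ∀ i, mv m (unit i) = fun k => m k i := fun i => funext fun k => gram_unit m k i
  obtain ⟨a, rfl⟩ := J_surj hw P x
  obtain ⟨b, rfl⟩ := J_surj hw P y
  rw [hJf]
  have hr : ∀ a : Vec, real w P m *ᵥ J w P a = lin (fun j => real w P m *ᵥ e j) (phi w ∘ a) :=
    fun a => by rw [hl a]; simp only [lin, Matrix.mulVec_add, Matrix.mulVec_smul]
  rw [hr, hr, herm_lin hF hw _ G0 (fun i j => ?_)]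
  rw [real_act hw, real_act hw, hJf, hu, hu, hm i j]

/-- The set of lines. -/
def lines (w : F) (P : GLn) : Set VV := {x | ∃ s ∈ S, ∃ a : F, a ≠ 0 ∧ x = a • J w P (dec s)}

theorem J_smul (hw : IsFour w) (P : GLn) (a : E) (z : Vec) :
    J w P (smulV a z) = phi w a • J w P z := by
  rw [J, J, ← Matrix.mulVec_smul]
  congr 1
  funext i
  simp [smulV, hw.phi_mul]

theorem mapsTo_of_okStab (hw : IsFour w) (P : GLn) (m : Mat) (hm : okStab m = true) :
    ∀ x ∈ lines w P, real w P m *ᵥ x ∈ lines w P := by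
  rintro _ ⟨s, hs, a, ha, rfl⟩
  have := List.all_eq_true.1 hm s hs
  obtain ⟨b, hb, hbs⟩ := List.any_eq_true.1 this
  have hb0 : phi w b ≠ 0 := by
    intro h0
    have := hw.phi_eq_zero b h0
    subst this
    simp at hb
  refine ⟨_, List.contains_iff_mem.1 hbs, a / phi w b, div_ne_zero ha hb0, ?_⟩
  rw [dec_code, J_smul hw, smul_smul, div_mul_cancel₀ a hb0, Matrix.mulVec_smul, real_act hw]

theorem not_mem_lines (hw : IsFour w) (P : GLn) :
    real w P A *ᵥ J w P (dec 576) ∉ lines w P := by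
  rintro ⟨s, hs, a, ha, hEq⟩
  obtain ⟨b, hb⟩ := hw.phi_surj a⁻¹
  rw [real_act hw] at hEq
  have h2 : J w P (smulV b (mv A (dec 576))) = J w P (dec s) := by
    rw [J_smul hw, hEq, hb, smul_smul, inv_mul_cancel₀ ha, one_smul]
  have h2' := congrArg (fun z => ((P⁻¹ : GLn) : MM) *ᵥ z) h2
  simp only [J, Cfsg.Agent.Lib.KnownA.PrimeDim.inv_mul_cancel_vec] at h2'
  have h3 : smulV b (mv A (dec 576)) = dec s := funext fun i => hw.phi_inj (congrFun h2' i)
  have key : ∀ s ∈ S, code (dec s) = s := by decide +kernel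
  have hm := moved b
  rw [h3, key s hs, List.contains_iff_mem.2 hs] at hm
  exact Bool.noConfusion hm

set_option maxHeartbeats 2000000 in
set_option linter.style.haveILetI false in
/-- **The exception**: for `q = 2` the normaliser of a degree five field is not maximal. -/
theorem not_maximal_subalgebraNormalizer (hF : Fintype.card F = 2 ^ 2)
    {K : Subalgebra F MM} (hK : IsFieldSubalgebra 5 K) (hA : IsAdjointClosedFor f K)
    (H : Subgroup GLn) (hHeq : H = subalgebraNormalizer K ⊓ omegaU 5 F 2) :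
    ¬ IsMaximalIn (omegaU 5 F 2) H := by
  classical
  intro hmax
  obtain ⟨w, hw⟩ := exists_isFour (eq_two_of_card hF)
  have hKf : IsField K := ⟨exists_pair_ne K, fun x y => Subtype.ext (hK.comm x x.2 y y.2),
    fun {a} ha => by
      obtain ⟨b, hb, hab⟩ := hK.inv a a.2 (fun h => ha (Subtype.ext h))
      exact ⟨⟨b, hb⟩, Subtype.ext hab⟩⟩
  letI : Field K := hKf.toField
  haveI : Finite K := Module.finite_of_finite F
  have two : (2 : K) = 0 := Subtype.ext (by
    show (2 : MM) = 0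
    rw [← map_ofNat (algebraMap F MM) 2, hw.two, map_zero])
  have hcard : Nat.card K = 1024 := by
    rw [Module.natCard_eq_pow_finrank (K := F), hK.finrank_eq, Nat.card_eq_fintype_card,
      eq_two_of_card hF]
    norm_num
  let W : K := algebraMap F K w
  have hW : W * W = W + 1 := by
    simpa only [map_mul, map_add, map_one] using congrArg (algebraMap F K) hw.hw
  have coe0 : ∀ y : K, ((poly0 W y : K) : MM) = (y : MM) ^ 5 + (w + 1) • (y : MM) ^ 4 +
      (y : MM) ^ 3 + (y : MM) ^ 2 + w • (y : MM) + 1 := fun y => by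
    simp only [poly0]
    push_cast [W, Subalgebra.coe_algebraMap]
    simp only [Algebra.algebraMap_eq_smul_one, add_mul, smul_mul_assoc, one_mul, add_smul, one_smul]
  have coe1 : ∀ y : K, ((poly1 W y : K) : MM) = (y : MM) ^ 5 + w • (y : MM) ^ 4 +
      (y : MM) ^ 3 + (y : MM) ^ 2 + (w + 1) • (y : MM) + 1 := fun y => by
    simp only [poly1]
    push_cast [W, Subalgebra.coe_algebraMap]
    simp only [Algebra.algebraMap_eq_smul_one, add_mul, smul_mul_assoc, one_mul, add_smul, one_smul]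
  obtain ⟨g, hg11, hg1, hgf0⟩ := exists_root hcard hW two
  obtain ⟨Gm, hGm⟩ : ∃ X : MM, X = (g : MM) := ⟨_, rfl⟩
  have hGmK : Gm ∈ K := hGm ▸ g.2
  have hGm11 : Gm ^ 11 = 1 := by
    have := congrArg (fun z : K => (z : MM)) hg11
    simpa [hGm] using this
  have hf0m : Gm ^ 5 + (w + 1) • Gm ^ 4 + Gm ^ 3 + Gm ^ 2 + w • Gm + 1 = 0 := by
    rw [hGm, ← coe0, hgf0]; rfl
  have : Fact (Nat.Prime 11) := ⟨by norm_num⟩
  have hprim : IsPrimitiveRoot g 11 := orderOf_eq_prime hg11 hg1 ▸ IsPrimitiveRoot.orderOf g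
  -- the adjoint of `g`
  obtain ⟨g', hg'K, hadj⟩ := hA Gm hGmK
  have uniq : ∀ X Y : MM, (∀ u v, f u (X *ᵥ v) = f u (Y *ᵥ v)) → X = Y := by
    intro X Y h
    refine Cfsg.Agent.Lib.KnownA.PrimeDim.eq_of_mulVec fun v => ?_
    refine sub_eq_zero.1 (herm_nondeg hF fun u => ?_)
    show hermRight hF u (X *ᵥ v - Y *ᵥ v) = 0
    rw [map_sub]
    exact sub_eq_zero.2 (h u v)
  have hadjp : ∀ (i : ℕ) (u v : VV), f ((Gm ^ i) *ᵥ u) v = f u ((g' ^ i) *ᵥ v) := by
    intro i
    induction i with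
    | zero => intro u v; simp
    | succ i ih =>
      intro u v
      rw [pow_succ' Gm, ← Matrix.mulVec_mulVec, hadj, ih, Matrix.mulVec_mulVec, ← pow_succ]
  have hg'11 : g' ^ 11 = 1 := uniq _ _ fun u v => by
    rw [← hadjp, hGm11, Matrix.one_mulVec, Matrix.one_mulVec]
  obtain ⟨i, hi, hig⟩ := hprim.eq_pow_of_pow_eq_one
    (ξ := (⟨g', hg'K⟩ : K)) (Subtype.ext (by simpa using hg'11))
  have hg' : g' = Gm ^ i := by
    have := congrArg (fun z : K => (z : MM)) hig
    simpa [hGm] using this.symm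
  have hii : g ^ (i * i) = g := by
    refine Subtype.ext (uniq _ _ fun u v => ?_)
    push_cast
    rw [← hGm, pow_mul, ← hg', ← hadjp, ← hg']
    rw [← herm_symm hF (Gm *ᵥ v) u, hadj, herm_symm hF]
  have hi10 : i = 10 := by
    have hmod := pow_eleven_mod hg11 (i * i)
    rw [hii] at hmod
    have h1 : 1 = i * i % 11 := hprim.pow_inj (by norm_num) (Nat.mod_lt _ (by norm_num))
      (by rw [pow_one]; exact hmod)
    have hne1 : i ≠ 1 := by
      rintro rfl
      rw [pow_one] at hg'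
      refine no_common_root hW two hg11 hg1 ⟨hgf0, Subtype.ext (uniq _ _ fun u v => ?_)⟩
      rw [coe1, ← hGm, ZeroMemClass.coe_zero, Matrix.zero_mulVec, herm_zero_right hF]
      have e : ∀ k, f u ((Gm ^ k) *ᵥ v) = f ((Gm ^ k) *ᵥ u) v := fun k => by
        rw [hadjp, hg']
      have e1 : f u (Gm *ᵥ v) = f (Gm *ᵥ u) v := by rw [hadj, hg']
      have hw2 : w ^ 2 = w + 1 := by rw [pow_two]; exact hw.hw
      have h0 := congrArg (fun X : MM => f (X *ᵥ u) v) hf0m
      have hz : f (0 : VV) v = 0 := by simp [Cfsg.hermForm]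
      simp only [Matrix.add_mulVec, Matrix.smul_mulVec, Matrix.one_mulVec, Matrix.zero_mulVec,
        herm_add_left, herm_smul_left, hz] at h0
      simp only [Matrix.add_mulVec, Matrix.smul_mulVec, Matrix.one_mulVec, herm_add_right' hF,
        herm_smul_right]
      rw [e, e, e, e, e1]
      linear_combination h0 + (f ((Gm ^ 4) *ᵥ u) v + f (Gm *ᵥ u) v) * hw2 +
        (w + 1) * f (Gm *ᵥ u) v * hw.two
    interval_cases i <;> omega
  rw [hi10] at hg'
  have hGU : ∀ u v, f (Gm *ᵥ u) (Gm *ᵥ v) = f u v := fun u v => by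
    rw [hadj, hg', Matrix.mulVec_mulVec, ← pow_succ, hGm11, Matrix.one_mulVec]
  have hGUp : ∀ (m : ℕ) (u v : VV), f ((Gm ^ m) *ᵥ u) ((Gm ^ m) *ᵥ v) = f u v := by
    intro m
    induction m with
    | zero => intro u v; simp
    | succ m ih =>
      intro u v
      rw [pow_succ, ← Matrix.mulVec_mulVec, ← Matrix.mulVec_mulVec, ih, hGU]
  have hadjg : ∀ (m : ℕ) (u v : VV), f ((Gm ^ m) *ᵥ u) v = f u ((Gm ^ (10 * m)) *ᵥ v) := by
    intro m u v
    rw [hadjp, hg', ← pow_mul]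
  have hrec : ∀ u : VV, (Gm ^ 5) *ᵥ u = u + w • (Gm *ᵥ u) + (Gm ^ 2) *ᵥ u + (Gm ^ 3) *ᵥ u +
      (w + 1) • ((Gm ^ 4) *ᵥ u) := by
    intro u
    have h := congrArg (fun X : MM => X *ᵥ u) hf0m
    simp only [Matrix.add_mulVec, Matrix.smul_mulVec, Matrix.one_mulVec, Matrix.zero_mulVec] at h
    funext t
    have ht := congrFun h t
    simp only [Pi.add_apply, Pi.smul_apply, smul_eq_mul, Pi.zero_apply] at ht ⊢
    linear_combination ht - (u t + w * (Gm *ᵥ u) t + ((Gm ^ 2) *ᵥ u) t + ((Gm ^ 3) *ᵥ u) t +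
      (w + 1) * ((Gm ^ 4) *ᵥ u) t) * hw.two
  obtain ⟨P, v, hJf, hJC, hPlin⟩ := exists_frame hF hw Gm hGUp hrec
  have hC : real w P C = Gm := Cfsg.Agent.Lib.KnownA.PrimeDim.eq_of_mulVec fun u => by
    obtain ⟨a, rfl⟩ := J_surj hw P u
    rw [real_act hw, hJC]
  have mkI : ∀ m m' : Mat, (∀ i j, mm m m' i j = idM i j) → real w P m * real w P m' = 1 :=
    fun m m' h => by rw [← real_mul hw, real_congr P h, real_id hw]
  let Tg : GLn := ⟨real w P T, real w P T, mkI _ _ T_sq, mkI _ _ T_sq⟩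
  let Ag : GLn := ⟨real w P A, real w P A, mkI _ _ A_sq, mkI _ _ A_sq⟩
  let Ng : GLn := ⟨real w P N, real w P (mm N (mm N (mm N N))), mkI _ _ N_inv, mkI _ _ N_inv'⟩
  have detone : ∀ x : GLn, (x : MM) * (x : MM) = 1 → Matrix.GeneralLinearGroup.det x = 1 := by
    intro x hx
    refine Units.ext ?_
    have h := congrArg Matrix.det hx
    rw [Matrix.det_mul, Matrix.det_one] at h
    have : ((x : MM).det - 1) * ((x : MM).det - 1) = 0 := by
      linear_combination h + (1 - (x : MM).det) * hw.two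
    simpa using sub_eq_zero.1 (mul_self_eq_zero.1 this)
  have hTΩ : Tg ∈ omegaU 5 F 2 :=
    Subgroup.mem_inf.2 ⟨real_isometry hF hw P hJf T isu_T, detone Tg (mkI _ _ T_sq)⟩
  have hAΩ : Ag ∈ omegaU 5 F 2 :=
    Subgroup.mem_inf.2 ⟨real_isometry hF hw P hJf A isu_A, detone Ag (mkI _ _ A_sq)⟩
  let L : Set VV := lines w P
  let St : Subgroup GLn :=
    { carrier := {h | ∀ x, x ∈ L ↔ (h : MM) *ᵥ x ∈ L}
      one_mem' := fun x => by simp
      mul_mem' := fun {a b} ha hb x => by rw [hb x, ha, Matrix.mulVec_mulVec, Units.val_mul]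
      inv_mem' := fun {a} ha x => by
        rw [ha (((a⁻¹ : GLn) : MM) *ᵥ x), Matrix.mulVec_mulVec, ← Units.val_mul,
          mul_inv_cancel, Units.val_one, Matrix.one_mulVec] }
  have hmem : ∀ h : GLn, (∀ x ∈ L, (h : MM) *ᵥ x ∈ L) → h ∈ St := by
    intro h hh x
    refine ⟨hh x, fun hx => ?_⟩
    have hinj' := Cfsg.Agent.Lib.KnownA.PrimeDim.mulVec_injective h
    let r : L → L := fun y => ⟨(h : MM) *ᵥ (y : VV), hh y y.2⟩
    have hr : Function.Injective r := fun a b hab =>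
      Subtype.ext (hinj' (congrArg Subtype.val hab))
    obtain ⟨y, hy⟩ := Finite.injective_iff_surjective.1 hr ⟨_, hx⟩
    have := hinj' (congrArg Subtype.val hy)
    exact this ▸ y.2
  have hscal : ∀ h : GLn, (∃ c : F, c ≠ 0 ∧ (h : MM) = c • 1) → h ∈ St := by
    rintro h ⟨c, hc, hh⟩
    refine hmem h ?_
    rintro _ ⟨s, hs, a, ha, rfl⟩
    refine ⟨s, hs, c * a, mul_ne_zero hc ha, ?_⟩
    rw [hh, Matrix.smul_mulVec, Matrix.one_mulVec, smul_smul]
  let gg : GLn := ⟨Gm, Gm ^ 10, by rw [← pow_succ', hGm11], by rw [← pow_succ, hGm11]⟩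
  have hgSt : gg ∈ St := hmem gg (by
    show ∀ x ∈ L, Gm *ᵥ x ∈ L
    rw [← hC]; exact mapsTo_of_okStab hw P C okStab_C)
  have hNSt : Ng ∈ St := hmem Ng (mapsTo_of_okStab hw P N okStab_N)
  have hTSt : Tg ∈ St := hmem Tg (mapsTo_of_okStab hw P T okStab_T)
  have hNg : Ng * gg = gg ^ 4 * Ng := Units.ext (by
    push_cast
    show real w P N * Gm = Gm ^ 4 * real w P N
    rw [← hC, ← real_mul hw, real_congr P N_C, real_mul hw, real_mul hw, real_mul hw, real_mul hw]
    simp only [pow_succ, pow_zero, one_mul, mul_assoc])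
  -- isometries centralising `g`
  have hcent : ∀ x : GLn, x ∈ Cfsg.GU 5 F 2 → (x : MM) * Gm = Gm * (x : MM) → x ∈ St := by
    intro x hxU hxc
    obtain ⟨a0, ha0⟩ := J_surj hw P ((x : MM) *ᵥ v)
    set a : Fin 5 → F := phi w ∘ a0 with hadef
    have hav : lin (fun i => (Gm ^ (i : ℕ)) *ᵥ v) a = (x : MM) *ᵥ v := by rw [← hPlin]; exact ha0
    have ha : (x : MM) = ∑ i : Fin 5, a i • Gm ^ (i : ℕ) := by
      set Y : MM := ∑ i : Fin 5, a i • Gm ^ (i : ℕ) with hY
      have hYv : Y *ᵥ v = (x : MM) *ᵥ v := by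
        rw [← hav, hY]
        simp only [Fin.sum_univ_five, lin, Matrix.add_mulVec, Matrix.smul_mulVec]
      have hYc : ∀ j, Y * Gm ^ j = Gm ^ j * Y := fun j => by
        rw [hY, Finset.mul_sum, Finset.sum_mul]
        refine Finset.sum_congr rfl fun i _ => ?_
        rw [smul_mul_assoc, mul_smul_comm, ← pow_add, ← pow_add, add_comm]
      have hXc : ∀ j, (x : MM) * Gm ^ j = Gm ^ j * (x : MM) := fun j =>
        (Commute.pow_right hxc j).eq
      refine Cfsg.Agent.Lib.KnownA.PrimeDim.eq_of_mulVec fun u => ?_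
      obtain ⟨b, rfl⟩ := J_surj hw P u
      have he : ∀ i : Fin 5, (x : MM) *ᵥ (Gm ^ (i : ℕ) *ᵥ v) = Y *ᵥ (Gm ^ (i : ℕ) *ᵥ v) := fun i => by
        rw [Matrix.mulVec_mulVec, Matrix.mulVec_mulVec, hXc, hYc, ← Matrix.mulVec_mulVec,
          ← Matrix.mulVec_mulVec, hYv]
      rw [J, hPlin]
      simp only [lin, Matrix.mulVec_add, Matrix.mulVec_smul, he]
    let k : K := ∑ i : Fin 5, a i • g ^ (i : ℕ)
    have hk : (k : MM) = (x : MM) := by
      rw [ha]
      simp [k, hGm]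
    have hk33 : k ^ 33 = 1 := by
      refine Subtype.ext ?_
      push_cast
      refine eq_one_of_forall_herm hF fun u z => ?_
      have h32 : ((k : MM)) ^ 32 = ∑ i : Fin 5, a i ^ 2 • Gm ^ (10 * (i : ℕ)) := by
        have := congrArg (fun t : K => (t : MM)) (pow_thirtytwo hw two hg11 a)
        simpa [k, hGm] using this
      rw [show (33 : ℕ) = 32 + 1 from rfl, pow_succ, h32, hk, ← Matrix.mulVec_mulVec]
      have hU : f ((x : MM) *ᵥ u) ((x : MM) *ᵥ z) = f u z := hxU u z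
      rw [← hU]
      nth_rewrite 2 [ha]
      simp only [Fin.sum_univ_five, Matrix.add_mulVec, Matrix.smul_mulVec, herm_add_left,
        herm_add_right' hF, herm_smul_left, herm_smul_right, hadjg]
      have hp4 := hw.pow_four
      simp only [← pow_mul, show 2 * 2 = 4 from rfl, hp4]
    obtain ⟨c, hc0, hck⟩ := cube_roots hw two hk33
    obtain ⟨j, -, hj⟩ := hprim.eq_pow_of_pow_eq_one hck
    have hcu : IsUnit (c • (1 : MM)) := by
      rw [Matrix.isUnit_iff_isUnit_det, Matrix.det_smul, Matrix.det_one, mul_one]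
      exact (pow_ne_zero _ hc0).isUnit
    have hxj : hcu.unit * x = gg ^ j := Units.ext (by
      push_cast
      rw [IsUnit.unit_spec, ← hk]
      have := congrArg (fun t : K => (t : MM)) hj
      push_cast [Subalgebra.coe_algebraMap, Algebra.algebraMap_eq_smul_one] at this
      rw [← hGm] at this
      exact this.symm)
    have hcSt : hcu.unit ∈ St := hscal _ ⟨c, hc0, hcu.unit_spec⟩
    have := mul_mem (inv_mem hcSt) (pow_mem hgSt j)
    rwa [← hxj, inv_mul_cancel_left] at this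
  have hNU : Ng ∈ Cfsg.GU 5 F 2 := real_isometry hF hw P hJf N isu_N
  have hconjN : ∀ j : ℕ, Ng ^ j * gg * (Ng ^ j)⁻¹ = gg ^ (4 ^ j) := by
    intro j
    induction j with
    | zero => simp
    | succ j ih =>
      have h1 : Ng * gg * Ng⁻¹ = gg ^ 4 := by rw [hNg, mul_inv_cancel_right]
      calc Ng ^ (j + 1) * gg * (Ng ^ (j + 1))⁻¹
          = Ng ^ j * (Ng * gg * Ng⁻¹) * (Ng ^ j)⁻¹ := by rw [pow_succ]; group
        _ = (Ng ^ j * gg * (Ng ^ j)⁻¹) ^ 4 := by rw [h1, conj_pow]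
        _ = gg ^ (4 ^ (j + 1)) := by rw [ih, ← pow_mul, pow_succ]
  have hnorm : ∀ h : GLn, h ∈ subalgebraNormalizer K → h ∈ Cfsg.GU 5 F 2 → h ∈ St := by
    intro h hhK hhU
    have hy : (h : MM) * Gm * ((h⁻¹ : GLn) : MM) ∈ K := (hhK Gm).1 hGmK
    let y : K := ⟨_, hy⟩
    have hy11 : y ^ 11 = 1 := Subtype.ext (by
      push_cast
      show ((h : MM) * Gm * ((h⁻¹ : GLn) : MM)) ^ 11 = 1
      rw [Units.conj_pow, hGm11, mul_one, ← Units.val_mul, mul_inv_cancel, Units.val_one])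
    have hy1 : y ≠ 1 := by
      intro hh
      apply hg1
      refine Subtype.ext ?_
      have h' := congrArg (fun t : K => ((h⁻¹ : GLn) : MM) * (t : MM) * (h : MM)) hh
      simpa [y, hGm, mul_assoc, ← Units.val_mul] using h'
    have hy0 : poly0 W y = 0 := Subtype.ext (by
      rw [coe0]
      show ((h : MM) * Gm * ((h⁻¹ : GLn) : MM)) ^ 5 +
        (w + 1) • ((h : MM) * Gm * ((h⁻¹ : GLn) : MM)) ^ 4 + _ + _ + _ + 1 = 0
      have h' := congrArg (fun X : MM => (h : MM) * X * ((h⁻¹ : GLn) : MM)) hf0m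
      simp only [mul_add, add_mul, mul_smul_comm, smul_mul_assoc, mul_one, mul_zero, zero_mul,
        ← Units.val_mul h h⁻¹, mul_inv_cancel, Units.val_one] at h'
      simp only [y, Units.conj_pow]
      exact h')
    obtain ⟨j, hj⟩ := roots hW two hg11 hg1 hgf0 hy11 hy1 hy0
    have hconj : h * gg * h⁻¹ = gg ^ (4 ^ j) := Units.ext (by
      push_cast
      have := congrArg (fun t : K => (t : MM)) hj
      simpa [y, gg, hGm] using this)
    have hcomm : ((Ng ^ j)⁻¹ * h) * gg = gg * ((Ng ^ j)⁻¹ * h) := by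
      calc ((Ng ^ j)⁻¹ * h) * gg = (Ng ^ j)⁻¹ * (h * gg * h⁻¹) * h := by group
        _ = (Ng ^ j)⁻¹ * (Ng ^ j * gg * (Ng ^ j)⁻¹) * h := by rw [hconj, hconjN]
        _ = gg * ((Ng ^ j)⁻¹ * h) := by group
    have := mul_mem (pow_mem hNSt j)
      (hcent _ (mul_mem (inv_mem (pow_mem hNU j)) hhU) (congrArg Units.val hcomm))
    rwa [mul_inv_cancel_left] at this
  have hHM : H ≤ St ⊓ omegaU 5 F 2 := by
    intro h hh
    rw [hHeq] at hh
    exact ⟨hnorm h hh.1 hh.2.1, hh.2⟩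
  rcases hmax.2 _ hHM inf_le_right with h | h
  · have hT : Tg ∈ H := h ▸ ⟨hTSt, hTΩ⟩
    rw [hHeq] at hT
    have hTy : real w P T * Gm * real w P T ∈ K := (hT.1 Gm).1 hGmK
    refine T_not_normal fun i j => real_inj hw P ?_ i j
    simp only [real_mul hw, hC]
    exact hK.comm _ hTy _ hGmK
  · have hA' : Ag ∈ St ⊓ omegaU 5 F 2 := by rw [h]; exact hAΩ
    exact not_mem_lines hw P
      (((Subgroup.mem_inf.1 hA').1 _).1 ⟨576, mem_576, 1, one_ne_zero, (one_smul _ _).symm⟩)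

end main

end Cfsg.Agent.Lib.UnitPrimeDim.FiveTwo
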