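import Mathlib

/-!
The smallest field containing the `r`-th roots of unity of norm one.
-/

set_option autoImplicit false

namespace Cfsg.Agent.Lib.UnitPrimeDim

variable {F : Type*} [Field F] [Fintype F] {q : ℕ}

/-- If `ζ` of prime order `r` has `ζ^(q+1) = 1` and lies in no proper subfield of the field with
`q²` elements, then `q = p^e` where `p` has order `2e` modulo `r`. -/
theorem exists_char_order (hF : Fintype.card F = q ^ 2) {r : ℕ} (hr : r.Prime) {ζ : F}
    (hζ : orderOf ζ = r) (hno : ∀ F₀ : Subfield F, ζ ∈ F₀ → F₀ = ⊤) :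
    ∃ p e : ℕ, p.Prime ∧ CharP F p ∧ q = p ^ e ∧ 0 < e ∧
      orderOf ((p : ℕ) : ZMod r) = 2 * e ∧ 2 * e ∣ r - 1 := by
  classical
  haveI := Fact.mk hr
  obtain ⟨p, hp⟩ := CharP.exists F
  obtain ⟨m, hpp, hm⟩ := FiniteField.card F p
  haveI := Fact.mk hpp
  have hdvd : q ∣ p ^ (m : ℕ) := ⟨q, by rw [← hm, hF, sq]⟩
  obtain ⟨e, -, he⟩ := (Nat.dvd_prime_pow hpp).1 hdvd
  have hme : (m : ℕ) = e * 2 := by
    apply Nat.pow_right_injective hpp.two_le
    show p ^ (m : ℕ) = p ^ (e * 2)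
    rw [← hm, hF, he, pow_mul]
  have hcard : Fintype.card F = p ^ (2 * e) := by rw [hm, hme, mul_comm]
  have he0 : 0 < e := by have := m.pos; omega
  have hζ0 : ζ ≠ 0 := by
    intro h
    have h1 := pow_orderOf_eq_one ζ
    rw [hζ, h, zero_pow hr.ne_zero] at h1
    exact zero_ne_one h1
  have key : ∀ d : ℕ, ((p : ℕ) : ZMod r) ^ d = 1 ↔ ζ ^ (p ^ d) = ζ := by
    intro d
    rw [← Nat.cast_pow, ← Nat.cast_one, ZMod.natCast_eq_natCast_iff]
    have hu : orderOf (Units.mk0 ζ hζ0) = r := by rw [← orderOf_units, Units.val_mk0, hζ]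
    have h1 := pow_inj_mod (x := Units.mk0 ζ hζ0) (n := p ^ d) (m := 1)
    rw [hu, pow_one, Units.ext_iff, Units.val_pow_eq_pow_val, Units.val_mk0] at h1
    exact h1.symm
  have hfull : ((p : ℕ) : ZMod r) ^ (2 * e) = 1 := by
    rw [key, ← hcard, FiniteField.pow_card]
  have hpr : ((p : ℕ) : ZMod r) ≠ 0 := by
    intro h
    rw [h, zero_pow (by omega)] at hfull
    exact zero_ne_one hfull
  have hd0 : 0 < orderOf ((p : ℕ) : ZMod r) :=
    orderOf_pos_iff.2 (isOfFinOrder_iff_pow_eq_one.2 ⟨2 * e, by omega, hfull⟩)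
  have hord : orderOf ((p : ℕ) : ZMod r) = 2 * e := by
    by_contra hne
    have hdd : orderOf ((p : ℕ) : ZMod r) < 2 * e :=
      lt_of_le_of_ne (Nat.le_of_dvd (by omega) (orderOf_dvd_of_pow_eq_one hfull)) hne
    set d := orderOf ((p : ℕ) : ZMod r) with hd
    have hζd : ζ ^ (p ^ d) = ζ := (key d).1 (pow_orderOf_eq_one _)
    let F₀ : Subfield F := (iterateFrobenius F p d).eqLocusField (RingHom.id F)
    have hmem : ∀ x, x ∈ F₀ ↔ x ^ (p ^ d) = x := fun x => by
      change iterateFrobenius F p d x = RingHom.id F x ↔ _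
      rw [iterateFrobenius_def, RingHom.id_apply]
    have htop := hno F₀ ((hmem ζ).2 hζd)
    have hle : Fintype.card F ≤ p ^ d := by
      have hroots : ∀ x : F, x ∈ (Polynomial.X ^ (p ^ d) - Polynomial.X : Polynomial F).roots := by
        intro x
        rw [Polynomial.mem_roots (FiniteField.X_pow_card_pow_sub_X_ne_zero F hd0.ne' hpp.one_lt)]
        simp [(hmem x).1 (htop ▸ trivial)]
      calc Fintype.card F ≤ (Polynomial.X ^ (p ^ d) - Polynomial.X : Polynomial F).roots.toFinset.card := by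
            rw [← Finset.card_univ]
            exact Finset.card_le_card fun x _ => Multiset.mem_toFinset.2 (hroots x)
        _ ≤ _ := Multiset.toFinset_card_le _
        _ ≤ _ := Polynomial.card_roots' _
        _ = p ^ d := FiniteField.X_pow_card_pow_sub_X_natDegree_eq F hd0.ne' hpp.one_lt
    rw [hcard] at hle
    have := (Nat.pow_le_pow_iff_right hpp.one_lt).1 hle
    omega
  refine ⟨p, e, hpp, hp, he, he0, hord, ?_⟩
  rw [← hord]
  exact orderOf_dvd_of_pow_eq_one (ZMod.pow_card_sub_one_eq_one hpr)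

end Cfsg.Agent.Lib.UnitPrimeDim
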