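import Cfsg.Agent.Lib.KnownA.PrimeDim.Main
import Cfsg.Agent.Lib.PrimeDim.OrthCore
import Cfsg.Agent.Lib.PrimeDim.FormDescent
import Cfsg.Agent.Lib.PrimeDim.SympType
import Cfsg.Agent.Lib.UnitPrimeDim.Reduce
import Cfsg.Agent.Lib.UnitPrimeDim.Numeric
import Cfsg.Agent.Lib.UnitPrimeDim.Proper

/-!
Maximal subgroups of the special unitary group of odd prime degree.
-/

set_option autoImplicit false

namespace Cfsg.Agent.Lib.UnitPrimeDim

open Cfsg.Geo
open scoped MatrixGroups Matrix commutatorElement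
open Cfsg.Agent.Lib

variable {n : ℕ} {F : Type*} [Field F] [Fintype F] {q : ℕ}

/-- The possibilities for a maximal subgroup, before the restrictions on `q` in the field case and
in numerical form for class six. -/
def Cases (n : ℕ) (F : Type*) [Field F] [Fintype F] (q : ℕ) (H : Subgroup (GL (Fin n) F)) : Prop :=
  (∃ W : Submodule F (Fin n → F), W ≠ ⊥ ∧ IsTotallySingularFor (Cfsg.hermForm n F q) W ∧
    H = subspaceStabilizer W ⊓ omegaU n F q) ∨
  (∃ W : Submodule F (Fin n → F), W ≠ ⊥ ∧ IsNondegenerateOn (Cfsg.hermForm n F q) W ∧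
    2 * Module.finrank F W < n ∧ H = subspaceStabilizer W ⊓ omegaU n F q) ∨
  (∃ D : Fin n → Submodule F (Fin n → F), IsNondegenerateMDecomposition (Cfsg.hermForm n F q) 1 D ∧
    H = decompositionStabilizer D ⊓ omegaU n F q) ∨
  (∃ K : Subalgebra F (Matrix (Fin n) (Fin n) F), IsFieldSubalgebra n K ∧
    IsAdjointClosedFor (Cfsg.hermForm n F q) K ∧ H = subalgebraNormalizer K ⊓ omegaU n F q) ∨
  (∃ (F₀ : Subfield F) (r : ℕ) (P : GL (Fin n) F), r.Prime ∧ Odd r ∧
    Fintype.card F = Nat.card F₀ ^ r ∧ IsFormRationalStructure (Cfsg.hermForm n F q) F₀ 1 P ∧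
    H = subfieldSubgroup F₀ P ⊓ omegaU n F q) ∨
  (Odd q ∧ ∃ (F₀ : Subfield F) (P : GL (Fin n) F), Fintype.card F = Nat.card F₀ ^ 2 ∧
    IsFormRationalStructure (Cfsg.hermForm n F q) F₀ 1 P ∧ H = subfieldSubgroup F₀ P ⊓ omegaU n F q) ∨
  (∃ (p e : ℕ) (R : Subgroup (GL (Fin n) F)), p.Prime ∧ CharP F p ∧ q = p ^ e ∧ 0 < e ∧
    orderOf ((p : ℕ) : ZMod n) = 2 * e ∧ 2 * e ∣ n - 1 ∧
    IsSymplecticTypeGroup n R ∧ ActsAbsolutelyIrreducibly (matrixSet R) ∧ R ≤ Cfsg.GU n F q ∧
    Nat.card R = n ^ 3 ∧ Nat.card (Subgroup.center R) = n ∧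
    H = subgroupNormalizer R ⊓ omegaU n F q) ∨
  InUnitaryResidualClass H

theorem GU_le_similarity : Cfsg.GU n F q ≤ similarityGroup (Cfsg.hermForm n F q) := by
  intro g hg
  refine ⟨1, fun u v => ?_⟩
  rw [Units.val_one, one_mul]
  exact hg u v

theorem exists_isUnitaryForm (hF : Fintype.card F = q ^ 2) :
    ∃ σ : F ≃+* F, (∀ x, σ x = x ^ q) ∧ IsUnitaryForm σ (Cfsg.hermForm n F q) := by
  let σ : F ≃+* F :=
    { toFun := Classical.conjHom hF
      invFun := Classical.conjHom hF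
      left_inv := Classical.conjHom_conjHom hF
      right_inv := Classical.conjHom_conjHom hF
      map_mul' := map_mul _
      map_add' := map_add _ }
  have hσ : ∀ x, σ x = x ^ q := fun x => Classical.conjHom_apply hF x
  refine ⟨σ, hσ, ⟨fun h => ?_, fun a => Classical.conjHom_conjHom hF a, herm_add_left, herm_smul_left,
    fun v w => ?_, fun v hv => ⟨?_, ?_⟩⟩⟩
  · refine Classical.conjHom_ne_id hF (RingHom.ext fun x => ?_)
    exact congrArg (fun e : F ≃+* F => e x) h
  · rw [hσ, herm_symm hF]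
  · by_contra hcon
    exact hv (herm_nondeg hF fun x => not_not.1 fun hx => hcon ⟨x, hx⟩)
  · by_contra hcon
    exact hv (herm_nondeg hF fun x => herm_eq_zero_symm hF (not_not.1 fun hx => hcon ⟨x, hx⟩))

theorem eq_inf_omegaU {H M : Subgroup (GL (Fin n) F)} (hH : IsMaximalIn (omegaU n F q) H) (hle : H ≤ M)
    (hproper : ¬ omegaU n F q ≤ M) : H = M ⊓ omegaU n F q := by
  rcases hH.2 (M ⊓ omegaU n F q) (le_inf hle hH.1.le) inf_le_right with h | h
  · exact h.symm
  · exact absurd (h ▸ inf_le_left) hproper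

/-- A normalised absolutely irreducible subgroup realisable over a proper subfield. -/
theorem subfield_case (hF : Fintype.card F = q ^ 2) (hn : 4 ≤ n) (hodd : Odd n)
    {H P : Subgroup (GL (Fin n) F)} (hH : IsMaximalIn (omegaU n F q) H) (hPU : P ≤ Cfsg.GU n F q)
    (habs : ActsAbsolutelyIrreducibly (matrixSet P)) (hnorm : ∀ h ∈ H, ∀ x ∈ P, h * x * h⁻¹ ∈ P)
    {F₀ : Subfield F} (h0 : F₀ ≠ ⊤) (hreal : RealisableOver F₀ (matrixSet P)) : Cases n F q H := by
  haveI : Nonempty (Fin n) := ⟨⟨0, by omega⟩⟩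
  obtain ⟨σ, hσ, hform⟩ := exists_isUnitaryForm (n := n) hF
  obtain ⟨F₁, r, h1, hr, hc, hreal₁⟩ := PrimeDim.FormDescent.exists_prime_index_realisable h0 hreal
  rw [Nat.card_eq_fintype_card] at hc
  obtain ⟨B, hB, hBn, h2⟩ := PrimeDim.FormDescent.exists_unitary_structure
    (by rwa [Fintype.card_fin]) (by rw [Fintype.card_fin]; omega) hform habs
    (by rintro _ ⟨g, hg, rfl⟩ u v; exact hPU hg u v) hreal₁
  have hHeq := eq_inf_omegaU hH (fun h hh => hBn h fun x hx => hnorm h hh x hx)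
    (not_le_subfieldSubgroup hF hn F₁ h1 B)
  rcases hr.eq_two_or_odd' with rfl | hro
  · refine Or.inr (Or.inr (Or.inr (Or.inr (Or.inr (Or.inl ⟨?_, F₁, B, hc, hB, hHeq⟩)))))
    have hq : q = Nat.card F₁ := Nat.pow_left_injective two_ne_zero (show q ^ 2 = Nat.card F₁ ^ 2 by
      rw [← hF, hc])
    have h2F : (2 : F) ≠ 0 := h2 fun a ha => by
      rw [hσ, hq]; exact (PrimeDim.FormDescent.mem_iff_pow F₁ a).1 ha
    rcases Nat.even_or_odd q with ⟨k, hk⟩ | h
    · exfalso
      apply h2F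
      have h4 : ((Fintype.card F : ℕ) : F) = 0 := Nat.cast_card_eq_zero F
      rw [hF, hk, Nat.cast_pow, Nat.cast_add] at h4
      obtain ⟨p, hp⟩ := CharP.exists F
      obtain ⟨m, hpp, hm⟩ := FiniteField.card F p
      have hp2 : p = 2 := by
        have hd : 2 ∣ p ^ (m : ℕ) := by rw [← hm, hF, hk]; exact dvd_pow ⟨k, by ring⟩ two_ne_zero
        exact ((Nat.prime_dvd_prime_iff_eq Nat.prime_two hpp).1 (Nat.prime_two.dvd_of_dvd_pow hd)).symm
      subst hp2
      exact_mod_cast CharP.cast_eq_zero F 2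
    · exact h
  · exact Or.inr (Or.inr (Or.inr (Or.inr (Or.inl ⟨F₁, r, B, hr, hro, hc, hB, hHeq⟩))))

/-- **Maximal subgroups of the special unitary group in prime degree `n ∈ {5, 7, 11}`.** -/
theorem cases_of_maximal (hF : Fintype.card F = q ^ 2) (hn : n = 5 ∨ n = 7 ∨ n = 11)
    {H : Subgroup (GL (Fin n) F)} (hH : IsMaximalIn (omegaU n F q) H) : Cases n F q H := by
  classical
  have hp : n.Prime := by rcases hn with rfl | rfl | rfl <;> norm_num
  have hn5 : 5 ≤ n := by rcases hn with rfl | rfl | rfl <;> norm_num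
  have hodd : Odd n := hp.odd_of_ne_two (by omega)
  have hp' : Nat.Prime (Fintype.card (Fin n)) := by rwa [Fintype.card_fin]
  haveI : Nonempty (Fin n) := ⟨⟨0, by omega⟩⟩
  have hHU : H ≤ Cfsg.GU n F q := hH.1.le.trans inf_le_left
  have hHS : H ≤ specialLinear (Fin n) F := hH.1.le.trans inf_le_right
  by_cases hirr : ActsIrreducibly (matrixSet H)
  swap
  · rw [KnownA.PrimeDim.actsIrreducibly_iff] at hirr
    push Not at hirr
    obtain ⟨W, hW, h0, h1⟩ := hirr
    rcases reducible hF hodd (M := omegaU n F q) inf_le_left hH (fun U hU => by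
      by_contra hcon
      push Not at hcon
      exact not_le_subspaceStabilizer hF (by omega) U hcon.1 hcon.2 hU) h0 h1 hW with h | h
    · exact Or.inl h
    · exact Or.inr (Or.inl h)
  have hirr' : ∀ W : Submodule F (Fin n → F),
      (∀ g ∈ H, ∀ v ∈ W, (g : Matrix (Fin n) (Fin n) F) *ᵥ v ∈ W) → W = ⊥ ∨ W = ⊤ :=
    (KnownA.PrimeDim.actsIrreducibly_iff H).1 hirr
  have hHs : ¬ H ≤ scalars (Fin n) F := by
    intro hsub
    let e : Fin n → F := Pi.single (Classical.arbitrary (Fin n)) 1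
    rcases hirr' (F ∙ e) (fun g hg w hw => by
        obtain ⟨c, hc⟩ := (mem_scalars_iff g).mp (hsub hg)
        rw [hc, Matrix.smul_mulVec, Matrix.one_mulVec]
        exact Submodule.smul_mem _ _ hw) with h | h
    · simp [e] at h
    · have := congrArg (fun W : Submodule F (Fin n → F) => Module.finrank F W) h
      simp only [finrank_span_singleton (show e ≠ 0 by simp [e]), finrank_top, Module.finrank_fin_fun] at this
      omega
  obtain ⟨N, hNH, hNn, hNs, hZN, hmin⟩ := KnownA.PrimeDim.exists_minimal hHs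
  have hNU : N ≤ Cfsg.GU n F q := hNH.trans hHU
  rcases PrimeDim.OrthCore.trichotomy hp' hirr hNn with hsc | ⟨b, χ, hχ, hdist, hperm, -⟩ | hNirr
  · exact absurd (fun x hx => hsc x hx) hNs
  · have hD := KnownA.PrimeDim.isMDecomposition_basis (by omega : 3 ≤ n) b
    have hle : H ≤ decompositionStabilizer fun i => F ∙ b i := by
      intro g hg
      choose σ c hc using hperm g hg
      have hc0 : ∀ i, c i ≠ 0 := fun i h0 => b.ne_zero i (KnownA.PrimeDim.mulVec_injective g (by
        rw [hc i, h0, zero_smul, Matrix.mulVec_zero]))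
      have hinj : Function.Injective σ := by
        intro i j hij
        by_contra hne
        have h1 : (g : Matrix (Fin n) (Fin n) F) *ᵥ (c j • b i) =
            (g : Matrix (Fin n) (Fin n) F) *ᵥ (c i • b j) := by
          rw [Matrix.mulVec_smul, Matrix.mulVec_smul, hc, hc, hij, smul_comm]
        have h2 := congrArg (fun v => b.repr v i) (KnownA.PrimeDim.mulVec_injective g h1)
        simp [Finsupp.single_apply, Ne.symm hne] at h2
        exact hc0 j h2
      refine ⟨Equiv.ofBijective σ (Finite.injective_iff_bijective.1 hinj), fun i => ?_⟩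
      rw [Submodule.map_span, Set.image_singleton, Matrix.toLin'_apply, hc i,
        Submodule.span_singleton_smul_eq (Ne.isUnit (hc0 i))]
      rfl
    have hχ' : ∀ i, ∀ g ∈ N, ∀ v ∈ F ∙ b i,
        (g : Matrix (Fin n) (Fin n) F) *ᵥ v = χ i g • v := by
      intro i g hg v hv
      obtain ⟨a, rfl⟩ := Submodule.mem_span_singleton.1 hv
      rw [Matrix.mulVec_smul, hχ i g hg, smul_comm]
    refine Or.inr (Or.inr (Or.inl ⟨_, lines_orthogonal hF hodd hHU hNH hirr' _ hD rfl hle χ hχ' ?_,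
      eq_inf_omegaU hH hle (not_le_decompositionStabilizer hF hn5 _ hD)⟩))
    intro i j h
    by_contra hne
    obtain ⟨x, hx, hx'⟩ := hdist i j hne
    exact hx' (h x hx)
  rcases KnownA.PrimeDim.comm_field hp' hNirr with hNcomm | hK
  swap
  · have hK' : IsFieldSubalgebra n (KnownA.PrimeDim.comm N) := by rwa [Fintype.card_fin] at hK
    exact Or.inr (Or.inr (Or.inr (Or.inl ⟨_, hK',
      adjointClosed_of_commutant hF hNU _ (fun x => KnownA.PrimeDim.mem_comm),
      eq_inf_omegaU hH (fun g hg => KnownA.PrimeDim.comm_normalized hNn hg)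
        (not_le_subalgebraNormalizer hF (by omega) hp.two_le _ hK')⟩)))
  have hNabs : ActsAbsolutelyIrreducibly (matrixSet N) := ⟨hNirr, hNcomm⟩
  obtain ⟨σ, hσ, hform⟩ := exists_isUnitaryForm (n := n) hF
  rcases KnownA.PrimeDim.class_two_or_core hp' hNH hNn hmin hNabs with hcomm | hC
  swap
  · have hPU : (⁅N, N⁆ : Subgroup (GL (Fin n) F)) ≤ Cfsg.GU n F q := hC.le.trans hHU
    by_cases hreal : ∃ F₀ : Subfield F, F₀ ≠ ⊤ ∧ RealisableOver F₀ (matrixSet (⁅N, N⁆ : Subgroup (GL (Fin n) F)))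
    · obtain ⟨F₀, h0, hre⟩ := hreal
      exact subfield_case hF (by omega) hodd hH hPU hC.absIrred hC.normal h0 hre
    refine Or.inr (Or.inr (Or.inr (Or.inr (Or.inr (Or.inr (Or.inr
      ⟨_, hC.residual fun F₀ h0 hre => hreal ⟨F₀, h0, hre⟩, ?_, ?_⟩))))))
    · rintro ⟨Q, hQ, hfixQ⟩
      obtain ⟨F₀, h0, -, hre⟩ := PrimeDim.FormDescent.realisable_of_unitary_quad hform hQ hC.absIrred
        (by rintro _ ⟨g, hg, rfl⟩ u v; exact hPU hg u v) hfixQ
      exact hreal ⟨F₀, h0, hre⟩
    · rintro ⟨f, hf, -⟩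
      exact KnownA.PrimeDim.no_symplectic_odd hodd hf
  -- class six
  have hna : ∃ a ∈ N, ∃ b ∈ N, a * b ≠ b * a := by
    by_contra hall
    push Not at hall
    refine hNs fun x hx => ?_
    obtain ⟨c, hc⟩ := hNabs.2 (x : Matrix (Fin n) (Fin n) F) (by
      rintro _ ⟨y, hy, rfl⟩
      rw [← Units.val_mul, ← Units.val_mul, hall x hx y hy])
    exact KnownA.PrimeDim.mem_scalars_of_matrix (ι := Fin n) (by rw [Fintype.card_fin]; omega) hc
  have hdata := PrimeDim.SympType.Data.of_specialLinear (Fintype.card_fin n) hp (hNH.trans hHS)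
    (fun a ha b hb => by
      have := hcomm (Subgroup.commutator_mem_commutator ha hb)
      rwa [commutatorElement_def] at this) hna
  have hab := hdata.abelian_le_scalars H hNn (fun B hB1 hB2 hBn => by
    by_cases hBs : B ≤ scalars (Fin n) F
    · exact Or.inl (le_antisymm (le_inf hB2 hBs) hB1)
    · right
      refine le_antisymm hB2 ((hmin B hB2 hBn hBs).ge.trans (sup_le le_rfl ?_))
      exact fun z hz => hB1 ⟨hZN hz, hz.1⟩)
  have hexp : ∀ g ∈ N, g ^ n = 1 := fun g hg => hdata.pow_eq_one hodd H hNn hab hg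
  obtain ⟨ω, hω, z, hzN, hz⟩ := hdata.exists_root
  by_cases hsmall : ∃ F₀ : Subfield F, F₀ ≠ ⊤ ∧ ω ∈ F₀
  · obtain ⟨F₀, h0, hmem⟩ := hsmall
    exact subfield_case hF (by omega) hodd hH hNU hdata.absIrred hNn h0
      (hdata.realisableOver hexp hω F₀ hmem)
  obtain ⟨p, e, hpp, hchar, hq, he, hord, hdvd⟩ := exists_char_order hF hp
    hω.eq_orderOf.symm (fun F₀ hm => not_not.1 fun h0 => hsmall ⟨F₀, h0, hm⟩)
  exact Or.inr (Or.inr (Or.inr (Or.inr (Or.inr (Or.inr (Or.inl ⟨p, e, N, hpp, hchar, hq, he, hord, hdvd,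
    hdata.symplecticType hodd H hNn hab, hdata.absIrred, hNU, hdata.card_eq, hdata.card_center,
    eq_inf_omegaU hH (KnownA.PrimeDim.Norms.le_normalizer hNn)
      (not_le_subgroupNormalizer hF hn N hdata.absIrred hdata.card_eq)⟩))))))

end Cfsg.Agent.Lib.UnitPrimeDim
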