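import Mathlib

/-!
A finite model over the field with 25 elements: a set of lines stabilised by the monomial subgroup
of the three-dimensional special unitary group and by one further element.
-/

set_option autoImplicit false

namespace Cfsg.Agent.Lib.UnitPrimeDim.ThreeFive

abbrev E := Fin 25
abbrev Vec := Fin 3 → E
abbrev Mat := Fin 3 → Fin 3 → E

/-- `a + b t` with `t * t = 2` has code `a + 5 * b`. -/
def enc (a b : ℕ) : E := ⟨a % 5 + 5 * (b % 5), by omega⟩
def add (x y : E) : E := enc ((x : ℕ) % 5 + (y : ℕ) % 5) ((x : ℕ) / 5 + (y : ℕ) / 5)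
def mul (x y : E) : E :=
  enc ((x : ℕ) % 5 * ((y : ℕ) % 5) + 2 * ((x : ℕ) / 5 * ((y : ℕ) / 5)))
    ((x : ℕ) % 5 * ((y : ℕ) / 5) + (x : ℕ) / 5 * ((y : ℕ) % 5))
def cj (x : E) : E := enc ((x : ℕ) % 5) (4 * ((x : ℕ) / 5))
def neg (x : E) : E := enc (4 * ((x : ℕ) % 5)) (4 * ((x : ℕ) / 5))
def invE (x : E) : E :=
  ([0, 1, 3, 2, 4, 15, 9, 11, 14, 6, 20, 7, 17, 18, 8, 5, 22, 12, 13, 23, 10, 24, 16, 19, 21] : List E).getD (x : ℕ) 0

def s3 (f : Fin 3 → E) : E := add (add (f 0) (f 1)) (f 2)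
def mv (A : Mat) (v : Vec) : Vec := fun i => s3 fun k => mul (A i k) (v k)
def mm (A B : Mat) : Mat := fun i j => s3 fun k => mul (A i k) (B k j)
def idM : Mat := fun i j => if i = j then 1 else 0
def hf (x y : Vec) : E := s3 fun i => mul (x i) (cj (y i))
def unit (j : Fin 3) : Vec := fun i => if i = j then 1 else 0
def det3 (m : Mat) : E :=
  add (add (add (add (add (mul (mul (m 0 0) (m 1 1)) (m 2 2))
    (neg (mul (mul (m 0 0) (m 1 2)) (m 2 1))))
    (neg (mul (mul (m 0 1) (m 1 0)) (m 2 2))))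
    (mul (mul (m 0 1) (m 1 2)) (m 2 0)))
    (mul (mul (m 0 2) (m 1 0)) (m 2 1)))
    (neg (mul (mul (m 0 2) (m 1 1)) (m 2 0)))

def diagM (a b : E) : Mat :=
  ![![a, 0, 0], ![0, b, 0], ![0, 0, cj (mul a b)]]

def sgnE (σ : Equiv.Perm (Fin 3)) : E := if Equiv.Perm.sign σ = 1 then 1 else 4

def permM (σ : Equiv.Perm (Fin 3)) : Mat := fun i j => if i = σ j then sgnE σ else 0

def T : Mat := ![![0, 20, 20], ![5, 2, 3], ![5, 3, 2]]
def A : Mat := ![![2, 2, 11], ![2, 2, 19], ![16, 14, 0]]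

def dec (n : ℕ) : Vec := fun i => ⟨n / 25 ^ (i : ℕ) % 25, Nat.mod_lt _ (by norm_num)⟩
def code (v : Vec) : ℕ := (v 0 : ℕ) + 25 * ((v 1 : ℕ) + 25 * (v 2 : ℕ))
def smulV (a : E) (v : Vec) : Vec := fun i => mul a (v i)

theorem dec_code (v : Vec) : dec (code v) = v := by
  funext i
  have h0 := (v 0).isLt
  have h1 := (v 1).isLt
  have h2 := (v 2).isLt
  fin_cases i <;> apply Fin.ext <;> simp [dec, code] <;> omega

def S : List ℕ :=
  [625, 25, 650, 2525, 7525, 8150, 10650, 11275, 1, 626, 2501, 7501, 8126, 10626, 11251, 26,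
    651, 1276, 1901, 2526, 6276, 9401, 676, 1301, 1926, 2551, 701, 1326, 1951, 2576, 101, 726,
    1351, 1976, 2601, 6351, 9476, 3251, 12626, 5776, 8276, 10776, 13276, 8301, 10801, 7701,
    11451, 3976, 7726, 11476, 15226, 876, 2751, 9026, 10276, 301, 5301, 5926, 8426, 10926,
    13426, 14051, 326, 4076, 4701, 7826, 11576, 14701, 15326, 7226, 12226, 1001, 2876, 7276,
    12276, 426, 4176, 4801, 7926, 11676, 14801, 15426, 451, 5451, 6076, 8576, 11076, 13576,
    14201, 9226, 10476, 3626, 13001, 4276, 8026, 11776, 15526, 8051, 11801, 8701, 11201, 6226,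
    8726, 11226, 13726]

def lead (v : Vec) : E := if v 0 = 0 then (if v 1 = 0 then v 2 else v 1) else v 0

def okVec (v : Vec) : Bool :=
  decide (lead v ≠ 0) && S.contains (code (smulV (invE (lead v)) v))

def okStab (m : Mat) : Bool := S.all fun s => okVec (mv m (dec s))

def n1 : List E := [1, 4, 12, 13, 17, 18]

theorem norm_one : ∀ a : E, mul a (cj a) = 1 → a ∈ n1 := by decide +kernel
theorem inv_ne : ∀ a : E, a ≠ 0 → invE a ≠ 0 := by decide +kernel
theorem norm_eq_zero : ∀ a : E, mul a (cj a) = 0 → a = 0 := by decide +kernel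
theorem norm_small : ∀ a : E, (mul a (cj a) : ℕ) < 5 := by decide +kernel
theorem sub_eq_zero' : ∀ a b : E, add a (neg b) = 0 → a = b := by decide +kernel
theorem norm_surj : ∀ d : E, d ≠ 0 → cj d = d → ∃ c : E, mul (mul c (cj c)) d = 1 := by decide +kernel

theorem okStab_diag : ∀ a ∈ n1, ∀ b ∈ n1, okStab (diagM a b) = true := by decide +kernel
theorem okStab_perm : ∀ σ : Equiv.Perm (Fin 3), okStab (permM σ) = true := by decide +kernel
theorem okStab_T : okStab T = true := by decide +kernel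
theorem det_perm : ∀ σ : Equiv.Perm (Fin 3), det3 (permM σ) = 1 := by decide +kernel

theorem mem_25 : 25 ∈ S := by decide
theorem moved : ∀ a : E, S.contains (code (smulV a (mv A (dec 25)))) = false := by decide +kernel
theorem code_dec : ∀ s ∈ S, code (dec s) = s := by decide +kernel

def isu (m : Mat) : Prop :=
  ∀ i j, hf (fun k => m k i) (fun k => m k j) = idM i j

theorem isu_T : isu T := by unfold isu; decide +kernel
theorem isu_A : isu A := by unfold isu; decide +kernel
theorem det_T : det3 T = 1 := by decide +kernel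
theorem det_A : det3 A = 1 := by decide +kernel
theorem sq_T : ∀ i j, mm T T i j = idM i j := by decide +kernel
theorem sq_A : ∀ i j, mm A A i j = idM i j := by decide +kernel
theorem T_not_monomial : ∀ (j : Fin 3) (a : E), ∃ i, mv T (unit 0) i ≠ mul a (unit j i) := by
  decide +kernel

end Cfsg.Agent.Lib.UnitPrimeDim.ThreeFive
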