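import Mathlib
import Cfsg.Prelude.Def_GeometricClasses
import Cfsg.Agent.Lib.Classical.HermForm
import Cfsg.Agent.Lib.UnitPrimeDim.Reduce
import Cfsg.Agent.Lib.UnitPrimeDim.Proper
import Cfsg.Agent.Lib.KnownA.PrimeDim.Clifford
import Cfsg.Agent.Lib.UnitPrimeDim.ThreeFiveModel

/-!
In the three-dimensional unitary group over the field with 25 elements the stabiliser of an
orthogonal frame is not maximal.
-/

set_option autoImplicit false
set_option linter.unusedSimpArgs false
set_option linter.unusedSectionVars false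
set_option maxHeartbeats 1000000

namespace Cfsg.Agent.Lib.UnitPrimeDim.ThreeFive

open scoped Matrix
open Cfsg.Geo

variable {F : Type*} [Field F] [Fintype F] {t : F}

local notation "f" => Cfsg.hermForm 3 F 5
local notation "MM" => Matrix (Fin 3) (Fin 3) F
local notation "GLn" => Matrix.GeneralLinearGroup (Fin 3) F
local notation "VV" => (Fin 3 → F)

/-- The data identifying the field with the model. -/
structure IsTF (t : F) : Prop where
  ht : t * t = 2
  five : (5 : F) = 0
  card : Fintype.card F = 25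

theorem exists_isTF (hF : Fintype.card F = 5 ^ 2) : ∃ t : F, IsTF t := by
  have h25 : Fintype.card F = 25 := by simpa using hF
  have five : (5 : F) = 0 := by
    have h : ((Fintype.card F : ℕ) : F) = 0 := FiniteField.cast_card_eq_zero F
    rw [h25] at h
    push_cast at h
    have : (5 : F) * 5 = 0 := by linear_combination h
    exact mul_self_eq_zero.1 this
  have hchar : ringChar F ≠ 2 := by
    intro h
    have h2 : (2 : F) = 0 := by exact_mod_cast (show ((2 : ℕ) : F) = 0 by rw [← h, ringChar.Nat.cast_ringChar])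
    exact one_ne_zero (α := F) (by linear_combination five - 2 * h2)
  have h2 : (2 : F) ≠ 0 := fun h2 => one_ne_zero (α := F) (by linear_combination five - 2 * h2)
  obtain ⟨t, ht⟩ := (FiniteField.isSquare_iff hchar h2).2 (by
    rw [h25]
    norm_num
    linear_combination 819 * five)
  exact ⟨t, ht.symm, five, h25⟩

def phi (t : F) (x : E) : F := ((((x : ℕ) % 5 : ℕ)) : F) + (((x : ℕ) / 5 : ℕ) : F) * t

namespace IsTF

variable (hT : IsTF t)
include hT

theorem cast_mod (n : ℕ) : ((n % 5 : ℕ) : F) = (n : F) := by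
  conv_rhs => rw [← Nat.mod_add_div n 5]
  push_cast
  rw [hT.five]
  ring

theorem phi_enc (a b : ℕ) : phi t (enc a b) = (a : F) + (b : F) * t := by
  have h1 : ((enc a b : E) : ℕ) % 5 = a % 5 := by simp [enc]
  have h2 : ((enc a b : E) : ℕ) / 5 = b % 5 := by simp [enc]; omega
  simp only [phi, h1, h2, hT.cast_mod]

theorem phi_add (a b : E) : phi t (add a b) = phi t a + phi t b := by
  rw [add, hT.phi_enc]; simp only [phi]; push_cast; ring

theorem phi_neg (a : E) : phi t (neg a) = -phi t a := by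
  rw [neg, hT.phi_enc]; simp only [phi]; push_cast
  linear_combination ((((a : ℕ) % 5 : ℕ) : F) + (((a : ℕ) / 5 : ℕ) : F) * t) * hT.five

theorem phi_mul (a b : E) : phi t (mul a b) = phi t a * phi t b := by
  rw [mul, hT.phi_enc]; simp only [phi]; push_cast
  linear_combination -((((a : ℕ) / 5 : ℕ) : F) * (((b : ℕ) / 5 : ℕ) : F)) * hT.ht

theorem cast_small_ne {n : ℕ} (h0 : n ≠ 0) (h : n < 5) : (n : F) ≠ 0 := by
  intro hz
  have h5 := hT.five
  interval_cases n <;> push_cast at hz
  · exact absurd rfl h0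
  · exact one_ne_zero (α := F) hz
  · exact one_ne_zero (α := F) (by linear_combination h5 - 2 * hz)
  · exact one_ne_zero (α := F) (by linear_combination 2 * hz - h5)
  · exact one_ne_zero (α := F) (by linear_combination h5 - hz)

theorem charP : CharP F 5 := by
  obtain ⟨p, hp⟩ := CharP.exists F
  haveI := hp
  have hdvd : p ∣ 5 := (CharP.cast_eq_zero_iff F p 5).1 (by exact_mod_cast hT.five)
  have hp' : p.Prime := CharP.char_is_prime F p
  exact ((Nat.prime_dvd_prime_iff_eq hp' (by norm_num)).1 hdvd) ▸ hp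

theorem phi_cj (a : E) : phi t (cj a) = phi t a ^ 5 := by
  have : Fact (Nat.Prime 5) := ⟨by norm_num⟩
  have := hT.charP
  rw [cj, hT.phi_enc]
  simp only [phi]
  rw [add_pow_char, mul_pow, show t ^ 5 = (t * t) ^ 2 * t by ring, hT.ht]
  have hn : ∀ n : ℕ, (n : F) ^ 5 = n := fun n => by
    rw [← map_natCast (ZMod.castHom (dvd_refl 5) F) n, ← map_pow, ZMod.pow_card]
  rw [hn, hn]
  push_cast
  ring

theorem phi_zero : phi t 0 = 0 := by simp [phi]
theorem phi_one : phi t 1 = 1 := by simp [phi]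

theorem phi_eq_zero (a : E) (h : phi t a = 0) : a = 0 := by
  refine norm_eq_zero a ?_
  by_contra hne
  have h0 : phi t (mul a (cj a)) = 0 := by rw [hT.phi_mul, h, zero_mul]
  have hs := norm_small a
  simp only [phi, Nat.mod_eq_of_lt hs, Nat.div_eq_of_lt hs, Nat.cast_zero, zero_mul,
    _root_.add_zero] at h0
  exact hT.cast_small_ne (fun hz => hne (Fin.ext hz)) hs h0

theorem phi_inj : Function.Injective (phi t) := fun a b h =>
  sub_eq_zero' a b (hT.phi_eq_zero _ (by rw [hT.phi_add, hT.phi_neg, h, add_neg_cancel]))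

theorem phi_surj (x : F) : ∃ a, phi t a = x :=
  ((Fintype.bijective_iff_injective_and_card _).2 ⟨hT.phi_inj, by rw [Fintype.card_fin, hT.card]⟩).2 x

theorem phi_s3 (g : Fin 3 → E) : phi t (s3 g) = ∑ i, phi t (g i) := by
  simp only [s3, hT.phi_add, Fin.sum_univ_three]

end IsTF

/-- Realisation of a model matrix. -/
noncomputable def real (t : F) (P : GLn) (m : Mat) : MM :=
  (P : MM) * Matrix.of (fun i j => phi t (m i j)) * ((P⁻¹ : GLn) : MM)

abbrev J (t : F) (P : GLn) (a : Vec) : VV := (P : MM) *ᵥ (phi t ∘ a)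

theorem real_act (hT : IsTF t) (P : GLn) (m : Mat) (a : Vec) :
    real t P m *ᵥ J t P a = J t P (mv m a) := by
  rw [J, J, real, Matrix.mulVec_mulVec, Matrix.mul_assoc, ← Units.val_mul,
    inv_mul_cancel, Units.val_one, Matrix.mul_one, ← Matrix.mulVec_mulVec]
  congr 1
  funext i
  simp [Matrix.mulVec, dotProduct, mv, hT.phi_s3, hT.phi_mul]

theorem J_surj (hT : IsTF t) (P : GLn) (u : VV) : ∃ a : Vec, J t P a = u := by
  have : ∀ i, ∃ x, phi t x = (((P⁻¹ : GLn) : MM) *ᵥ u) i := fun i => hT.phi_surj _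
  choose x hx using this
  exact ⟨x, by rw [J, show phi t ∘ x = ((P⁻¹ : GLn) : MM) *ᵥ u from funext hx,
    Cfsg.Agent.Lib.KnownA.PrimeDim.mul_inv_cancel_vec]⟩

theorem J_inj (hT : IsTF t) (P : GLn) {a b : Vec} (h : J t P a = J t P b) : a = b :=
  funext fun i => hT.phi_inj (congrFun (Cfsg.Agent.Lib.KnownA.PrimeDim.mulVec_injective P h) i)

theorem J_smul (hT : IsTF t) (P : GLn) (a : E) (z : Vec) :
    J t P (smulV a z) = phi t a • J t P z := by
  rw [J, J, ← Matrix.mulVec_smul]
  congr 1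
  funext i
  simp [smulV, hT.phi_mul]

theorem real_mul (hT : IsTF t) (P : GLn) (a b : Mat) :
    real t P (mm a b) = real t P a * real t P b := by
  have : (Matrix.of fun i j => phi t (mm a b i j) : MM) =
      Matrix.of (fun i j => phi t (a i j)) * Matrix.of (fun i j => phi t (b i j)) := by
    ext i j
    simp only [Matrix.of_apply, Matrix.mul_apply, mm, hT.phi_s3, hT.phi_mul]
  simp only [real, this, Matrix.mul_assoc, ← Matrix.mul_assoc ((P⁻¹ : GLn) : MM), ← Units.val_mul,
    inv_mul_cancel, Units.val_one, Matrix.one_mul]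

theorem real_id (hT : IsTF t) (P : GLn) {m : Mat} (hm : ∀ i j, m i j = idM i j) :
    real t P m = 1 := by
  have : (Matrix.of fun i j => phi t (m i j) : MM) = 1 := by
    ext i j
    by_cases h : i = j
    · subst h; simp [hm, idM, hT.phi_one]
    · simp [hm, idM, h, hT.phi_zero]
  simp [real, this, ← Units.val_mul]

theorem det_real (hT : IsTF t) (P : GLn) (m : Mat) : (real t P m).det = phi t (det3 m) := by
  rw [real, Matrix.det_mul, Matrix.det_mul, mul_comm (P : MM).det, mul_assoc, ← Matrix.det_mul,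
    ← Units.val_mul, mul_inv_cancel, Units.val_one, Matrix.det_one, mul_one, Matrix.det_fin_three]
  simp only [Matrix.of_apply, det3, hT.phi_add, hT.phi_neg, hT.phi_mul]
  ring

def lines (t : F) (P : GLn) : Set VV := {x | ∃ s ∈ S, ∃ a : F, a ≠ 0 ∧ x = a • J t P (dec s)}

theorem mapsTo_of_okStab (hT : IsTF t) (P : GLn) (m : Mat) (hm : okStab m = true) :
    ∀ x ∈ lines t P, real t P m *ᵥ x ∈ lines t P := by
  rintro _ ⟨s, hs, a, ha, rfl⟩
  have := List.all_eq_true.1 hm s hs
  simp only [okVec, Bool.and_eq_true, decide_eq_true_eq] at this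
  obtain ⟨hl, hmem⟩ := this
  set b := invE (lead (mv m (dec s)))
  have hb0 : phi t b ≠ 0 := fun h0 => inv_ne _ hl (hT.phi_eq_zero b h0)
  refine ⟨_, List.contains_iff_mem.1 hmem, a / phi t b, div_ne_zero ha hb0, ?_⟩
  rw [dec_code, J_smul hT, smul_smul, div_mul_cancel₀ a hb0, Matrix.mulVec_smul, real_act hT]

theorem herm_frame (hT : IsTF t) (P : GLn) (hP : ∀ a b : Fin 3 → F,
      f ((P : MM) *ᵥ a) ((P : MM) *ᵥ b) = f a b) (a b : Vec) :
    f (J t P a) (J t P b) = phi t (hf a b) := by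
  rw [J, J, hP]
  simp [Cfsg.hermForm, hf, hT.phi_s3, hT.phi_mul, hT.phi_cj]

theorem real_isometry (hT : IsTF t) (P : GLn)
    (hP : ∀ a b : Fin 3 → F, f ((P : MM) *ᵥ a) ((P : MM) *ᵥ b) = f a b) (m : Mat) (hm : isu m)
    (x y : VV) : f (real t P m *ᵥ x) (real t P m *ᵥ y) = f x y := by
  obtain ⟨a, rfl⟩ := J_surj hT P x
  obtain ⟨b, rfl⟩ := J_surj hT P y
  rw [real_act hT, real_act hT, herm_frame hT P hP, herm_frame hT P hP]
  have h : ∀ i j, phi t (m 0 i) * phi t (m 0 j) ^ 5 + phi t (m 1 i) * phi t (m 1 j) ^ 5 +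
      phi t (m 2 i) * phi t (m 2 j) ^ 5 = phi t (idM i j) := by
    intro i j
    rw [← hm i j]
    simp only [hf, hT.phi_s3, hT.phi_mul, hT.phi_cj, Fin.sum_univ_three]
  have e00 := h 0 0
  have e01 := h 0 1
  have e02 := h 0 2
  have e10 := h 1 0
  have e11 := h 1 1
  have e12 := h 1 2
  have e20 := h 2 0
  have e21 := h 2 1
  have e22 := h 2 2
  simp only [idM, reduceIte, Fin.reduceEq, hT.phi_one, hT.phi_zero] at e00 e01 e02 e10 e11 e12 e20 e21 e22
  have : Fact (Nat.Prime 5) := ⟨by norm_num⟩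
  have := hT.charP
  simp only [hf, mv, s3, hT.phi_add, hT.phi_mul, hT.phi_cj, add_pow_char, mul_pow]
  linear_combination (phi t (a 0) * phi t (b 0) ^ 5) * e00 + (phi t (a 0) * phi t (b 1) ^ 5) * e01 +
    (phi t (a 0) * phi t (b 2) ^ 5) * e02 + (phi t (a 1) * phi t (b 0) ^ 5) * e10 +
    (phi t (a 1) * phi t (b 1) ^ 5) * e11 + (phi t (a 1) * phi t (b 2) ^ 5) * e12 +
    (phi t (a 2) * phi t (b 0) ^ 5) * e20 + (phi t (a 2) * phi t (b 1) ^ 5) * e21 +
    (phi t (a 2) * phi t (b 2) ^ 5) * e22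

/-- An orthonormal frame adapted to a decomposition into non-degenerate lines. -/
theorem exists_frame (hF : Fintype.card F = 5 ^ 2) (hT : IsTF t)
    {D : Fin 3 → Submodule F VV} (hD : IsNondegenerateMDecomposition f 1 D) :
    ∃ P : GLn, (∀ a b : Fin 3 → F, f ((P : MM) *ᵥ a) ((P : MM) *ᵥ b) = f a b) ∧
      ∀ (i : Fin 3) (x : VV), x ∈ D i ↔ ∃ c : F, x = c • J t P (unit i) := by
  obtain ⟨hdec, hnd, horth⟩ := hD
  have hex : ∀ i, ∃ v : VV, v ∈ D i ∧ f v v = 1 := by
    intro i
    obtain ⟨d, hd, hd0⟩ := Submodule.exists_mem_ne_zero_of_ne_bot (p := D i) (by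
      intro h; have := hdec.finrank_eq i; rw [h, finrank_bot] at this; omega)
    obtain ⟨⟨u, hu, hud⟩, -⟩ := hnd i d hd hd0
    have hspan : Submodule.span F {d} = D i := Submodule.eq_of_le_of_finrank_le
      ((Submodule.span_singleton_le_iff_mem _ _).2 hd)
      (by rw [finrank_span_singleton hd0, hdec.finrank_eq])
    rw [← hspan, Submodule.mem_span_singleton] at hu
    obtain ⟨k, rfl⟩ := hu
    have hdd : f d d ≠ 0 := fun h => hud (by
      first
      | rw [herm_smul_left, h, mul_zero]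
      | rw [herm_smul_right, h, mul_zero])
    obtain ⟨e, he⟩ := hT.phi_surj (f d d)
    have he0 : e ≠ 0 := fun h => hdd (by rw [← he, h, hT.phi_zero])
    have hec : cj e = e := hT.phi_inj (by rw [hT.phi_cj, he]; exact herm_symm hF d d)
    obtain ⟨c, hc⟩ := norm_surj e he0 hec
    refine ⟨phi t c • d, Submodule.smul_mem _ _ hd, ?_⟩
    have hc' := congrArg (phi t) hc
    rw [hT.phi_mul, hT.phi_mul, hT.phi_cj, hT.phi_one, he] at hc'
    rw [herm_smul_left, herm_smul_right]
    linear_combination hc'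
  choose v hv hvv using hex
  have hfv : ∀ i j, f (v i) (v j) = if i = j then 1 else 0 := by
    intro i j
    by_cases h : i = j
    · subst h; rw [if_pos rfl, hvv]
    · rw [if_neg h]; exact horth i j h _ (hv i) _ (hv j)
  let Pm : MM := Matrix.of fun i j => v j i
  have hPlin : ∀ a, Pm *ᵥ a = a 0 • v 0 + a 1 • v 1 + a 2 • v 2 := fun a => by
    ext i
    simp [Pm, Matrix.mulVec, dotProduct, Fin.sum_univ_three, mul_comm]
  have haddr : ∀ x a b : VV, f x (a + b) = f x a + f x b := fun x a b =>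
    map_add (hermRight hF x) a b
  have hiso : ∀ a b : Fin 3 → F, f (Pm *ᵥ a) (Pm *ᵥ b) = f a b := by
    intro a b
    simp only [hPlin, herm_add_left, haddr, herm_smul_left, herm_smul_right, hfv, Fin.reduceEq,
      if_true, if_false]
    simp only [Cfsg.hermForm, Fin.sum_univ_three]
    ring
  have hinj : Function.Injective Pm.mulVec := by
    intro a b hab
    refine sub_eq_zero.1 (herm_nondeg hF fun x => ?_)
    rw [← hiso, Matrix.mulVec_sub, sub_eq_zero.2 hab]
    simp [Cfsg.hermForm]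
  obtain ⟨P, hP⟩ := Matrix.mulVec_injective_iff_isUnit.1 hinj
  refine ⟨P, fun a b => by rw [hP]; exact hiso a b, fun i x => ?_⟩
  have hJ : J t P (unit i) = v i := by
    rw [J, hP, hPlin]
    fin_cases i <;> simp [unit, hT.phi_one, hT.phi_zero]
  rw [hJ]
  have hv0 : v i ≠ 0 := fun h => one_ne_zero (α := F) (by
    rw [← hvv i, h]; simp [Cfsg.hermForm])
  have hspan : Submodule.span F {v i} = D i := Submodule.eq_of_le_of_finrank_le
    ((Submodule.span_singleton_le_iff_mem _ _).2 (hv i))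
    (by rw [finrank_span_singleton hv0, hdec.finrank_eq])
  rw [← hspan, Submodule.mem_span_singleton]
  exact ⟨fun ⟨c, h⟩ => ⟨c, h.symm⟩, fun ⟨c, h⟩ => ⟨c, h.symm⟩⟩

/-- **The exception**: for `q = 5` the stabiliser of an orthogonal frame is not maximal. -/
theorem not_maximal_decompositionStabilizer (hF : Fintype.card F = 5 ^ 2)
    {D : Fin 3 → Submodule F VV} (hD : IsNondegenerateMDecomposition f 1 D)
    (H : Subgroup GLn) (hHeq : H = decompositionStabilizer D ⊓ omegaU 3 F 5) :
    ¬ IsMaximalIn (omegaU 3 F 5) H := by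
  intro hmax
  obtain ⟨t, hT⟩ := exists_isTF hF
  obtain ⟨P, hP, hDi⟩ := exists_frame hF hT hD
  have mkI : ∀ m : Mat, (∀ i j, mm m m i j = idM i j) → real t P m * real t P m = 1 :=
    fun m h => by rw [← real_mul hT, real_id hT P h]
  let Tg : GLn := ⟨real t P T, real t P T, mkI _ sq_T, mkI _ sq_T⟩
  let Ag : GLn := ⟨real t P A, real t P A, mkI _ sq_A, mkI _ sq_A⟩
  have detone : ∀ (x : GLn) (m : Mat), (x : MM) = real t P m → det3 m = 1 →
      Matrix.GeneralLinearGroup.det x = 1 := fun x m hx hm => Units.ext (by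
    show (x : MM).det = 1
    rw [hx, det_real hT, hm, hT.phi_one])
  have hTΩ : Tg ∈ omegaU 3 F 5 :=
    Subgroup.mem_inf.2 ⟨real_isometry hT P hP T isu_T, detone Tg T rfl det_T⟩
  have hAΩ : Ag ∈ omegaU 3 F 5 :=
    Subgroup.mem_inf.2 ⟨real_isometry hT P hP A isu_A, detone Ag A rfl det_A⟩
  let L : Set VV := lines t P
  let St : Subgroup GLn :=
    { carrier := {h | ∀ x, x ∈ L ↔ (h : MM) *ᵥ x ∈ L}
      one_mem' := fun x => by simp
      mul_mem' := fun {a b} ha hb x => by rw [hb x, ha, Matrix.mulVec_mulVec, Units.val_mul]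
      inv_mem' := fun {a} ha x => by
        rw [ha (((a⁻¹ : GLn) : MM) *ᵥ x), Matrix.mulVec_mulVec, ← Units.val_mul,
          mul_inv_cancel, Units.val_one, Matrix.one_mulVec] }
  have hmem : ∀ h : GLn, (∀ x ∈ L, (h : MM) *ᵥ x ∈ L) → h ∈ St := by
    intro h hh x
    refine ⟨hh x, fun hx => ?_⟩
    have hinj' := Cfsg.Agent.Lib.KnownA.PrimeDim.mulVec_injective h
    let r : L → L := fun y => ⟨(h : MM) *ᵥ (y : VV), hh y y.2⟩
    have hr : Function.Injective r := fun a b hab =>
      Subtype.ext (hinj' (congrArg Subtype.val hab))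
    obtain ⟨y, hy⟩ := Finite.injective_iff_surjective.1 hr ⟨_, hx⟩
    have := hinj' (congrArg Subtype.val hy)
    exact this ▸ y.2
  have hHM : H ≤ St ⊓ omegaU 3 F 5 := by
    intro h hh
    rw [hHeq] at hh
    obtain ⟨hd, hhU, hdet⟩ := hh
    refine ⟨?_, hhU, hdet⟩
    obtain ⟨σ, hσ⟩ := hd
    have himg : ∀ i, ∃ e ∈ n1, (h : MM) *ᵥ J t P (unit i) = phi t e • J t P (unit (σ i)) := by
      intro i
      have h1 : (h : MM) *ᵥ J t P (unit i) ∈ D (σ i) := by
        rw [← hσ i]
        exact ⟨_, (hDi i _).2 ⟨1, (one_smul _ _).symm⟩, Matrix.toLin'_apply _ _⟩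
      obtain ⟨c, hc⟩ := (hDi _ _).1 h1
      obtain ⟨e, rfl⟩ := hT.phi_surj c
      refine ⟨e, norm_one e (hT.phi_inj ?_), hc⟩
      have hu : f ((h : MM) *ᵥ J t P (unit i)) ((h : MM) *ᵥ J t P (unit i)) =
          f (J t P (unit i)) (J t P (unit i)) := hhU _ _
      have hone : ∀ j, hf (unit j) (unit j) = 1 := by decide +kernel
      rw [hc, herm_smul_left, herm_smul_right, herm_frame hT P hP, herm_frame hT P hP, hone, hone,
        hT.phi_one, mul_one] at hu
      rw [hT.phi_mul, hT.phi_cj, hT.phi_one]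
      exact hu
    choose e he hhe using himg
    let eσ : Equiv.Perm (Fin 3) := σ
    let d : Fin 3 → E := fun j => mul (e (eσ.symm j)) (sgnE eσ)
    let Dg : Mat := fun i j => if i = j then d i else 0
    have key : ∀ (σ : Equiv.Perm (Fin 3)) (j : Fin 3), mul (sgnE σ) (sgnE σ) = 1 ∧
        ∀ i, mv (permM σ) (unit j) i = mul (sgnE σ) (unit (σ j) i) := by decide +kernel
    have hfac : (h : MM) = real t P (mm Dg (permM eσ)) := by
      refine Cfsg.Agent.Lib.KnownA.PrimeDim.eq_of_mulVec fun u => ?_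
      obtain ⟨a, rfl⟩ := J_surj hT P u
      have hlin : ∀ X : MM, X *ᵥ J t P a = phi t (a 0) • X *ᵥ J t P (unit 0) +
          phi t (a 1) • X *ᵥ J t P (unit 1) + phi t (a 2) • X *ᵥ J t P (unit 2) := by
        intro X
        simp only [← Matrix.mulVec_smul, ← Matrix.mulVec_add, J]
        congr 2
        funext i
        fin_cases i <;> simp [unit, hT.phi_one, hT.phi_zero]
      have hone : ∀ i, (h : MM) *ᵥ J t P (unit i) =
          real t P (mm Dg (permM eσ)) *ᵥ J t P (unit i) := by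
        intro i
        rw [hhe, real_mul hT, ← Matrix.mulVec_mulVec, real_act hT, real_act hT,
          show mv (permM eσ) (unit i) = smulV (sgnE eσ) (unit (eσ i)) from funext (key eσ i).2]
        have h2 : mv Dg (smulV (sgnE eσ) (unit (eσ i))) = smulV (e i) (unit (eσ i)) := by
          funext k
          refine hT.phi_inj ?_
          have hs := congrArg (phi t) (key eσ i).1
          rw [hT.phi_mul, hT.phi_one] at hs
          by_cases hk : k = eσ i
          · subst hk
            simp only [mv, hT.phi_s3, hT.phi_mul, smulV, unit, Dg, d]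
            rw [Finset.sum_eq_single (eσ i) (fun b _ hb => by simp [hb, hT.phi_zero])
              (by simp)]
            simp only [if_true, hT.phi_mul, hT.phi_one, Equiv.symm_apply_apply]
            linear_combination (phi t (e i)) * hs
          · simp only [mv, hT.phi_s3, hT.phi_mul, smulV, unit, Dg, d]
            rw [Finset.sum_eq_zero (fun b _ => ?_)]
            · simp [hk, hT.phi_zero]
            · by_cases hb : b = eσ i
              · subst hb; simp [hk, hT.phi_zero]
              · simp [hb, hT.phi_zero]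
        rw [h2, J_smul hT]
      rw [hlin, hlin, hone, hone, hone]
    have hsg : sgnE eσ = 1 ∨ sgnE eσ = 4 := by
      simp only [sgnE]; split <;> simp
    have hn1 : ∀ x ∈ n1, mul x 1 ∈ n1 ∧ mul x 4 ∈ n1 := by decide +kernel
    have hd1 : ∀ j, d j ∈ n1 := fun j => by
      rcases hsg with hs | hs <;> simp only [d, hs]
      · exact (hn1 _ (he _)).1
      · exact (hn1 _ (he _)).2
    have hdet1 : mul (mul (d 0) (d 1)) (d 2) = 1 := by
      refine hT.phi_inj ?_
      have hd' : (h : MM).det = 1 := congrArg Units.val hdet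
      rw [hfac, real_mul hT, Matrix.det_mul, det_real hT, det_real hT, det_perm, hT.phi_one,
        mul_one] at hd'
      rw [hT.phi_one, ← hd']
      simp [det3, Dg, hT.phi_add, hT.phi_mul, hT.phi_neg, hT.phi_zero]
    have hd2 : ∀ a ∈ n1, ∀ b ∈ n1, ∀ c ∈ n1, mul (mul a b) c = 1 → c = cj (mul a b) := by
      decide +kernel
    have hDg : Dg = diagM (d 0) (d 1) := by
      funext i j
      have := hd2 _ (hd1 0) _ (hd1 1) _ (hd1 2) hdet1
      fin_cases i <;> fin_cases j <;> simp [Dg, diagM] <;> exact this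
    refine hmem h fun x hx => ?_
    rw [hfac, real_mul hT, ← Matrix.mulVec_mulVec, hDg]
    exact mapsTo_of_okStab hT P _ (okStab_diag _ (hd1 0) _ (hd1 1)) _
      (mapsTo_of_okStab hT P _ (okStab_perm eσ) x hx)
  rcases hmax.2 _ hHM inf_le_right with h | h
  · have hTH : Tg ∈ H := h ▸ ⟨hmem Tg (mapsTo_of_okStab hT P T okStab_T), hTΩ⟩
    rw [hHeq] at hTH
    obtain ⟨σ, hσ⟩ := hTH.1
    have h1 : real t P T *ᵥ J t P (unit 0) ∈ D (σ 0) := by
      rw [← hσ 0]
      exact ⟨_, (hDi 0 _).2 ⟨1, (one_smul _ _).symm⟩, Matrix.toLin'_apply _ _⟩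
    obtain ⟨c, hc⟩ := (hDi _ _).1 h1
    obtain ⟨a, rfl⟩ := hT.phi_surj c
    rw [real_act hT, ← J_smul hT] at hc
    obtain ⟨i, hi⟩ := T_not_monomial (σ 0) a
    exact hi (congrFun (J_inj hT P hc) i)
  · have hA' : Ag ∈ St ⊓ omegaU 3 F 5 := by rw [h]; exact hAΩ
    obtain ⟨s, hs, a, ha, hEq⟩ : real t P A *ᵥ J t P (dec 25) ∈ L :=
      ((Subgroup.mem_inf.1 hA').1 _).1 ⟨25, mem_25, 1, one_ne_zero, (one_smul _ _).symm⟩
    obtain ⟨b, hb⟩ := hT.phi_surj a⁻¹
    rw [real_act hT] at hEq
    have h2 : smulV b (mv A (dec 25)) = dec s := J_inj hT P (by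
      rw [J_smul hT, hEq, hb, smul_smul, inv_mul_cancel₀ ha, one_smul])
    have hm := moved b
    rw [h2, code_dec s hs, List.contains_iff_mem.2 hs] at hm
    exact Bool.noConfusion hm

end Cfsg.Agent.Lib.UnitPrimeDim.ThreeFive
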