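import Cfsg.Agent.Lib.UnitPrimeDim.ThreeFiveModel

/-!
An element of order seven, its normaliser and its centraliser in the three-dimensional unitary
group over the field with 25 elements, in the model.
-/

set_option autoImplicit false

namespace Cfsg.Agent.Lib.UnitPrimeDim.ThreeFive.FieldModel

def R : Mat := ![![2, 24, 19], ![20, 14, 0], ![2, 24, 11]]
def R2 : Mat := mm R R
def N : Mat := ![![0, 0, 4], ![17, 0, 0], ![0, 18, 0]]
def Bi : Mat := ![![12, 13, 22], ![21, 13, 4], ![24, 24, 13]]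
def cA : E := 2
def cB : E := 9
def cC : E := 15
def dE : E := 18

def c1 : E := 22
def c2 : E := 7

def d2 (d : E) : E := add (add (mul c2 d) (neg c1)) (cj d)

/-- The Gram matrix of `v, g v, g ^ 2 v` when `f v v = 1`. -/
def gram (d : E) : Mat := ![![1, d, d2 d], ![cj d, 1, d], ![cj (d2 d), cj d, 1]]

def hG (G : Mat) (x y : Vec) : E :=
  s3 fun i => s3 fun j => mul (mul (x i) (cj (y j))) (G i j)

def C : Mat := ![![0, 0, 1], ![1, 0, neg c2], ![0, 1, c1]]

def xs : Fin 25 → ℕ :=
  ![625, 6300, 12526, 6876, 10026, 13175, 13150, 10050, 6375, 4726, 11951, 7000, 2501,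
    851, 1276, 3250, 8176, 13800, 15025, 10025, 4526, 10626, 3126, 2525, 9476]

theorem c1_cj : cj c1 = c2 := by decide +kernel
theorem normalise : ∀ d : E, hG (gram d) (dec (xs d)) (dec (xs d)) = 1 ∧
    hG (gram d) (dec (xs d)) (mv C (dec (xs d))) = 0 := by decide +kernel

theorem Bi_frame : ∀ a b, hG (gram 0) (fun i => Bi i a) (fun i => Bi i b) = idM a b := by
  decide +kernel
theorem Bi_conj : ∀ i j, mm C Bi i j = mm Bi R i j := by decide +kernel

def E1 : Mat := ![![22, 4, 19], ![22, 4, 11], ![8, 3, 0]]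
def E2 : Mat := ![![2, 1, 1], ![21, 12, 1], ![5, 24, 21]]
def E3 : Mat := ![![19, 0, 19], ![2, 20, 3], ![24, 14, 6]]
def E6 : Mat := ![![14, 3, 9], ![5, 9, 6], ![0, 14, 5]]
def E9 : Mat := ![![3, 20, 3], ![21, 11, 21], ![16, 0, 14]]
def E18 : Mat := ![![19, 6, 3], ![0, 16, 5], ![19, 24, 2]]
def E21 : Mat := ![![18, 0, 0], ![0, 18, 0], ![0, 0, 18]]
def E42 : Mat := ![![17, 0, 0], ![0, 17, 0], ![0, 0, 17]]
def E63 : Mat := ![![4, 0, 0], ![0, 4, 0], ![0, 0, 4]]

theorem E1_eq : ∀ i j, add (add (mul cA (idM i j)) (mul cB (R i j))) (mul cC (R2 i j)) = E1 i j := by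
  decide +kernel

theorem E2_eq : ∀ i j, mm E1 E1 i j = E2 i j := by decide +kernel
theorem E3_eq : ∀ i j, mm E2 E1 i j = E3 i j := by decide +kernel
theorem E6_eq : ∀ i j, mm E3 E3 i j = E6 i j := by decide +kernel
theorem E9_eq : ∀ i j, mm E6 E3 i j = E9 i j := by decide +kernel
theorem E18_eq : ∀ i j, mm E9 E9 i j = E18 i j := by decide +kernel
theorem E21_eq : ∀ i j, mm E18 E3 i j = E21 i j := by decide +kernel
theorem E42_eq : ∀ i j, mm E21 E21 i j = E42 i j := by decide +kernel
theorem E63_eq : ∀ i j, mm E42 E21 i j = E63 i j := by decide +kernel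
theorem E126_eq : ∀ i j, mm E63 E63 i j = idM i j := by decide +kernel

theorem E18_ne : ∃ i j, E18 i j ≠ idM i j := by decide +kernel
theorem E42_ne : ∃ i j, E42 i j ≠ idM i j := by decide +kernel
theorem E63_ne : ∃ i j, E63 i j ≠ idM i j := by decide +kernel

theorem det_E1 : det3 E1 = dE := by decide +kernel
theorem dE_pow : dE ≠ 1 ∧ mul dE dE ≠ 1 ∧ mul (mul dE dE) dE ≠ 1 ∧
    mul (mul dE dE) (mul dE dE) ≠ 1 ∧ mul (mul (mul dE dE) (mul dE dE)) dE ≠ 1 ∧
    mul (mul (mul dE dE) dE) (mul (mul dE dE) dE) = 1 := by decide +kernel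

theorem okStab_R : okStab R = true := by decide +kernel
theorem okStab_N : okStab N = true := by decide +kernel
theorem okStab_E6 : okStab E6 = true := by decide +kernel

theorem isu_R : isu R := by unfold isu; decide +kernel
theorem isu_N : isu N := by unfold isu; decide +kernel
theorem det_N : det3 N = 1 := by decide +kernel
theorem N_cube : ∀ i j, mm N (mm N N) i j = idM i j := by decide +kernel
theorem N_cube' : ∀ i j, mm (mm N N) N i j = idM i j := by decide +kernel
theorem N_R : ∀ i j, mm N R i j = mm (mm R2 R2) N i j := by decide +kernel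
theorem T_not_normal : ¬ ∀ i j, mm (mm (mm T R) T) R i j = mm R (mm (mm T R) T) i j := by
  decide +kernel

end Cfsg.Agent.Lib.UnitPrimeDim.ThreeFive.FieldModel
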