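import Cfsg.Agent.Lib.UnitPrimeDim.ThreeFive
import Cfsg.Agent.Lib.UnitPrimeDim.ThreeFiveFieldModel

/-!
In the three-dimensional unitary group over the field with 25 elements the normaliser of a cubic
field is not maximal.
-/

set_option autoImplicit false
set_option linter.unusedSimpArgs false
set_option linter.unusedSectionVars false
set_option linter.style.haveILetI false
set_option maxHeartbeats 1000000

namespace Cfsg.Agent.Lib.UnitPrimeDim.ThreeFive

open scoped Matrix
open Cfsg.Geo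

variable {F : Type*} [Field F] [Fintype F] {t : F}

local notation "f" => Cfsg.hermForm 3 F 5
local notation "MM" => Matrix (Fin 3) (Fin 3) F
local notation "GLn" => Matrix.GeneralLinearGroup (Fin 3) F
local notation "VV" => (Fin 3 → F)

/-- A monic cubic, given by its coefficients. -/
def cubic {R : Type*} [CommRing R] (A B y : R) : R := y ^ 3 - A * y ^ 2 + B * y - 1

theorem cubic_pow {R : Type*} [CommRing R] [Fact (Nat.Prime 5)] [CharP R 5] {A B : R}
    (hA : A ^ 5 = B) (hB : B ^ 5 = A) (y : R) : cubic B A (y ^ 5) = cubic A B y ^ 5 := by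
  simp only [cubic, sub_pow_char, add_pow_char, mul_pow, one_pow, hA, hB]
  ring

theorem pow_seven_mod {M : Type*} [Monoid M] {g : M} (hg : g ^ 7 = 1) (m : ℕ) :
    g ^ m = g ^ (m % 7) := by
  conv_lhs => rw [← Nat.div_add_mod m 7, pow_add, pow_mul, hg, one_pow, one_mul]

section

variable {K : Type*} [Field K] {A B : K}

theorem cubic_inv {y : K} (hy : y ≠ 0) :
    cubic A B y⁻¹ * y ^ 3 = -cubic B A y := by
  simp only [cubic]
  field_simp
  ring

theorem cubic_no_common [CharP K 5] (hAB : A ≠ B) {y : K} (hy7 : y ^ 7 = 1) :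
    ¬ (cubic A B y = 0 ∧ cubic B A y = 0) := by
  intro ⟨ha, hb⟩
  simp only [cubic] at ha hb
  have hy0 : y ≠ 0 := fun h => by rw [h, zero_pow (by norm_num)] at hy7; exact zero_ne_one hy7
  have h5 : (5 : K) = 0 := by exact_mod_cast CharP.cast_eq_zero K 5
  have h : (A - B) * (y * (y + 1)) = 0 := by linear_combination hb - ha
  rcases mul_eq_zero.1 h with h | h
  · exact hAB (sub_eq_zero.1 h)
  · rcases mul_eq_zero.1 h with h | h
    · exact hy0 h
    · rw [eq_neg_of_add_eq_zero_left h, Odd.neg_one_pow (by decide)] at hy7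
      exact one_ne_zero (α := K) (by linear_combination h5 + 2 * hy7)

theorem cubic_roots [Fact (Nat.Prime 5)] [CharP K 5] (hA : A ^ 5 = B) (hB : B ^ 5 = A)
    (hAB : A ≠ B) {g : K} (hg7 : g ^ 7 = 1) (hg1 : g ≠ 1) (hg0 : cubic A B g = 0) {y : K}
    (hy7 : y ^ 7 = 1) (hy1 : y ≠ 1) (hy0 : cubic A B y = 0) :
    ∃ j : ℕ, y = g ^ (4 ^ j) := by
  have : Fact (Nat.Prime 7) := ⟨by norm_num⟩
  have hprim : IsPrimitiveRoot g 7 := orderOf_eq_prime hg7 hg1 ▸ IsPrimitiveRoot.orderOf g
  have hpm : ∀ m, g ^ m = g ^ (m % 7) := pow_seven_mod hg7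
  have s0 : ∀ {y : K}, cubic A B y = 0 → cubic B A (y ^ 5) = 0 := fun h => by
    rw [cubic_pow hA hB, h]; simp
  have s1 : ∀ {y : K}, cubic B A y = 0 → cubic A B (y ^ 5) = 0 := fun h => by
    rw [cubic_pow hB hA, h]; simp
  have r5 := s0 hg0
  have r4 := s1 r5
  have r6 := s0 r4
  have r2 := s1 r6
  have r3 := s0 r2
  simp only [← pow_mul] at r4 r6 r2 r3
  rw [hpm] at r4 r6 r2 r3
  simp only [Nat.reduceMul, Nat.reduceMod] at r4 r6 r2 r3
  obtain ⟨i, hi, rfl⟩ := hprim.eq_pow_of_pow_eq_one hy7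
  have no := fun h => cubic_no_common hAB hy7 ⟨hy0, h⟩
  interval_cases i
  · exact absurd (pow_zero g) hy1
  · exact ⟨0, by simp⟩
  · exact ⟨2, (hpm (4 ^ 2)).symm⟩
  · exact absurd r3 no
  · exact ⟨1, by simp⟩
  · exact absurd r5 no
  · exact absurd r6 no

end

theorem herm_zero_left (v : VV) : f (0 : VV) v = 0 := by simp [Cfsg.hermForm]

theorem herm_add_right' (hF : Fintype.card F = 5 ^ 2) (x a b : VV) :
    f x (a + b) = f x a + f x b := map_add (hermRight hF x) a b

theorem herm_sub_right' (hF : Fintype.card F = 5 ^ 2) (x a b : VV) :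
    f x (a - b) = f x a - f x b := map_sub (hermRight hF x) a b

theorem herm_uniq (hF : Fintype.card F = 5 ^ 2) {X Y : MM}
    (h : ∀ u v, f u (X *ᵥ v) = f u (Y *ᵥ v)) : X = Y := by
  refine Cfsg.Agent.Lib.KnownA.PrimeDim.eq_of_mulVec fun v => ?_
  refine sub_eq_zero.1 (herm_nondeg hF fun u => ?_)
  rw [herm_sub_right' hF]
  exact sub_eq_zero.2 (h u v)

def lin3 (e : Fin 3 → VV) (a : Fin 3 → F) : VV := a 0 • e 0 + a 1 • e 1 + a 2 • e 2

theorem herm_lin3 (hF : Fintype.card F = 5 ^ 2) (hT : IsTF t) (e : Fin 3 → VV) (G : Mat)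
    (h : ∀ i j, f (e i) (e j) = phi t (G i j)) (a b : Vec) :
    f (lin3 e (phi t ∘ a)) (lin3 e (phi t ∘ b)) = phi t (FieldModel.hG G a b) := by
  simp only [FieldModel.hG, hT.phi_s3, hT.phi_mul, hT.phi_cj, lin3, Function.comp_apply,
    herm_add_left, herm_add_right' hF, herm_smul_left, herm_smul_right, h, Fin.sum_univ_three]
  ring

/-- The Gram matrix of `v, g v, g ^ 2 v`. -/
theorem gram_spec (hF : Fintype.card F = 5 ^ 2) (hT : IsTF t) (Gm : MM)
    (hGU : ∀ u v : VV, f (Gm *ᵥ u) (Gm *ᵥ v) = f u v)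
    (hrec : ∀ u : VV, Gm *ᵥ (Gm *ᵥ (Gm *ᵥ u)) =
      u + phi t (neg FieldModel.c2) • (Gm *ᵥ u) + phi t FieldModel.c1 • (Gm *ᵥ (Gm *ᵥ u)))
    (v : VV) (d : E) (h0 : f v v = 1) (h1 : f v (Gm *ᵥ v) = phi t d) :
    ∀ i j : Fin 3, f ((![v, Gm *ᵥ v, Gm *ᵥ (Gm *ᵥ v)] : Fin 3 → VV) i)
      ((![v, Gm *ᵥ v, Gm *ᵥ (Gm *ᵥ v)] : Fin 3 → VV) j) = phi t (FieldModel.gram d i j) := by
  have hcj : ∀ x y : VV, f y x = f x y ^ 5 := fun x y => (herm_symm hF x y).symm
  have h10 : f (Gm *ᵥ v) v = phi t (cj d) := by rw [hcj, h1, hT.phi_cj]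
  have h02 : f v (Gm *ᵥ (Gm *ᵥ v)) = phi t (FieldModel.d2 d) := by
    have h := hGU v (Gm *ᵥ (Gm *ᵥ v))
    rw [hrec, herm_add_right' hF, herm_add_right' hF, herm_smul_right, herm_smul_right, h10,
      hGU, hGU, h0, h1] at h
    have hc : (cj (neg FieldModel.c2) = neg FieldModel.c1 ∧ cj FieldModel.c1 = FieldModel.c2) := by
      decide +kernel
    rw [← hT.phi_cj, ← hT.phi_cj, hc.1, hc.2] at h
    rw [← h, FieldModel.d2]
    simp only [hT.phi_add, hT.phi_mul]
    ring
  have h12 : f (Gm *ᵥ v) (Gm *ᵥ (Gm *ᵥ v)) = phi t d := by rw [hGU, h1]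
  have h20 : f (Gm *ᵥ (Gm *ᵥ v)) v = phi t (cj (FieldModel.d2 d)) := by rw [hcj, h02, hT.phi_cj]
  have h21 : f (Gm *ᵥ (Gm *ᵥ v)) (Gm *ᵥ v) = phi t (cj d) := by rw [hcj, h12, hT.phi_cj]
  intro i j
  fin_cases i <;> fin_cases j <;>
    simp [FieldModel.gram, hT.phi_one, h0, h1, h10, h02, h12, h20, h21, hGU, -Matrix.mulVec_mulVec]

theorem shift3 (hT : IsTF t) (Gm : MM)
    (hrec : ∀ u : VV, Gm *ᵥ (Gm *ᵥ (Gm *ᵥ u)) =
      u + phi t (neg FieldModel.c2) • (Gm *ᵥ u) + phi t FieldModel.c1 • (Gm *ᵥ (Gm *ᵥ u)))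
    (v : VV) (a : Vec) :
    Gm *ᵥ lin3 ![v, Gm *ᵥ v, Gm *ᵥ (Gm *ᵥ v)] (phi t ∘ a) =
      lin3 ![v, Gm *ᵥ v, Gm *ᵥ (Gm *ᵥ v)] (phi t ∘ mv FieldModel.C a) := by
  simp only [lin3, Matrix.cons_val, Matrix.mulVec_add, Matrix.mulVec_smul, hrec, Function.comp_apply,
    mv, hT.phi_s3, hT.phi_mul, Fin.sum_univ_three, FieldModel.C, hT.phi_zero, hT.phi_one]
  module

/-- An orthonormal frame in which `Gm` acts as the model element of order seven. -/
theorem exists_cyclic_frame (hF : Fintype.card F = 5 ^ 2) (hT : IsTF t) (Gm : MM)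
    (hGU : ∀ u v : VV, f (Gm *ᵥ u) (Gm *ᵥ v) = f u v)
    (hrec : ∀ u : VV, Gm *ᵥ (Gm *ᵥ (Gm *ᵥ u)) =
      u + phi t (neg FieldModel.c2) • (Gm *ᵥ u) + phi t FieldModel.c1 • (Gm *ᵥ (Gm *ᵥ u))) :
    ∃ P : GLn, (∀ a b : Fin 3 → F, f ((P : MM) *ᵥ a) ((P : MM) *ᵥ b) = f a b) ∧
      ∀ a, Gm *ᵥ J t P a = J t P (mv FieldModel.R a) := by
  let v0 : VV := Pi.single 0 1
  have hv00 : f v0 v0 = 1 := by simp [v0, Cfsg.hermForm, Fin.sum_univ_three]
  obtain ⟨d, hd⟩ := hT.phi_surj (f v0 (Gm *ᵥ v0))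
  let e0 : Fin 3 → VV := ![v0, Gm *ᵥ v0, Gm *ᵥ (Gm *ᵥ v0)]
  have hgr := gram_spec hF hT Gm hGU hrec v0 d hv00 hd.symm
  let v : VV := lin3 e0 (phi t ∘ dec (FieldModel.xs d))
  obtain ⟨n0, n1'⟩ := FieldModel.normalise d
  have hv0 : f v v = 1 := by rw [herm_lin3 hF hT e0 _ hgr, n0, hT.phi_one]
  have hv1 : f v (Gm *ᵥ v) = phi t 0 := by
    rw [shift3 hT Gm hrec, herm_lin3 hF hT e0 _ hgr, n1']
  let e : Fin 3 → VV := ![v, Gm *ᵥ v, Gm *ᵥ (Gm *ᵥ v)]
  have hG := gram_spec hF hT Gm hGU hrec v 0 hv0 hv1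
  let b : Fin 3 → VV := fun j => lin3 e (phi t ∘ fun i => FieldModel.Bi i j)
  have hb : ∀ i j, f (b i) (b j) = if i = j then 1 else 0 := by
    intro i j
    rw [herm_lin3 hF hT e _ hG, FieldModel.Bi_frame]
    by_cases h : i = j
    · rw [if_pos h, idM, if_pos h, hT.phi_one]
    · rw [if_neg h, idM, if_neg h, hT.phi_zero]
  let Pm : MM := Matrix.of fun i j => b j i
  have hPlin : ∀ a, Pm *ᵥ a = lin3 b a := fun a => by
    ext i
    simp [Pm, Matrix.mulVec, dotProduct, lin3, Fin.sum_univ_three, mul_comm]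
  have hiso : ∀ a c : Fin 3 → F, f (Pm *ᵥ a) (Pm *ᵥ c) = f a c := by
    intro a c
    simp only [hPlin, lin3, herm_add_left, herm_add_right' hF, herm_smul_left, herm_smul_right, hb,
      Fin.reduceEq, if_true, if_false]
    simp only [Cfsg.hermForm, Fin.sum_univ_three]
    ring
  have hinj : Function.Injective Pm.mulVec := by
    intro a c hac
    refine sub_eq_zero.1 (herm_nondeg hF fun x => ?_)
    rw [← hiso, Matrix.mulVec_sub, sub_eq_zero.2 hac]
    simp [Cfsg.hermForm]
  obtain ⟨P, hP⟩ := Matrix.mulVec_injective_iff_isUnit.1 hinj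
  refine ⟨P, fun a c => by rw [hP]; exact hiso a c, fun a => ?_⟩
  have hmul : ∀ c : Vec, lin3 b (phi t ∘ c) = lin3 e (phi t ∘ mv FieldModel.Bi c) := by
    intro c
    simp only [b, lin3, Function.comp_apply, mv, hT.phi_s3, hT.phi_mul, Fin.sum_univ_three,
      smul_add, smul_smul, add_smul]
    module
  rw [J, J, hP, hPlin, hPlin, hmul, hmul, shift3 hT Gm hrec]
  congr 1
  funext i
  simp only [Function.comp_apply, mv, hT.phi_s3, hT.phi_mul, Fin.sum_univ_three]
  have e0' := congrArg (phi t) (FieldModel.Bi_conj i 0)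
  have e1' := congrArg (phi t) (FieldModel.Bi_conj i 1)
  have e2' := congrArg (phi t) (FieldModel.Bi_conj i 2)
  simp only [mm, hT.phi_s3, hT.phi_mul, Fin.sum_univ_three] at e0' e1' e2'
  linear_combination (phi t (a 0)) * e0' + (phi t (a 1)) * e1' + (phi t (a 2)) * e2'

set_option maxHeartbeats 2000000 in
/-- **The exception**: for `q = 5` the normaliser of a cubic field is not maximal. -/
theorem not_maximal_subalgebraNormalizer (hF : Fintype.card F = 5 ^ 2)
    {K : Subalgebra F MM} (hK : IsFieldSubalgebra 3 K) (hA : IsAdjointClosedFor f K)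
    (H : Subgroup GLn) (hHeq : H = subalgebraNormalizer K ⊓ omegaU 3 F 5) :
    ¬ IsMaximalIn (omegaU 3 F 5) H := by
  classical
  intro hmax
  obtain ⟨t, hT⟩ := exists_isTF hF
  have : Fact (Nat.Prime 5) := ⟨by norm_num⟩
  have : Fact (Nat.Prime 7) := ⟨by norm_num⟩
  have hKf : IsField K := ⟨exists_pair_ne K, fun x y => Subtype.ext (hK.comm x x.2 y y.2),
    fun {a} ha => by
      obtain ⟨b, hb, hab⟩ := hK.inv a a.2 (fun h => ha (Subtype.ext h))
      exact ⟨⟨b, hb⟩, Subtype.ext hab⟩⟩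
  letI : Field K := hKf.toField
  haveI : Finite K := Module.finite_of_finite F
  haveI : CharP K 5 := by
    haveI := hT.charP
    exact charP_of_injective_algebraMap (algebraMap F K).injective 5
  have hcard : Nat.card K = 15625 := by
    rw [Module.natCard_eq_pow_finrank (K := F), hK.finrank_eq, Nat.card_eq_fintype_card, hT.card]
    norm_num
  let A : K := algebraMap F K (phi t FieldModel.c1)
  let B : K := algebraMap F K (phi t FieldModel.c2)
  have hA5 : A ^ 5 = B := by
    show (algebraMap F K _) ^ 5 = _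
    rw [← map_pow, ← hT.phi_cj, FieldModel.c1_cj]
  have hB5 : B ^ 5 = A := by
    show (algebraMap F K _) ^ 5 = _
    rw [← map_pow, ← hT.phi_cj, show cj FieldModel.c2 = FieldModel.c1 from by decide +kernel]
  have hAB : A ≠ B := fun h =>
    absurd (hT.phi_inj ((algebraMap F K).injective h)) (by decide +kernel)
  have hABsum : A + B = -1 ∧ A * B = 2 := by
    have h1 : add FieldModel.c1 FieldModel.c2 = neg 1 ∧ mul FieldModel.c1 FieldModel.c2 = 2 := by
      decide +kernel
    constructor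
    · show algebraMap F K _ + algebraMap F K _ = -1
      rw [← map_add, ← hT.phi_add, h1.1, hT.phi_neg, hT.phi_one, map_neg, map_one]
    · show algebraMap F K _ * algebraMap F K _ = 2
      rw [← map_mul, ← hT.phi_mul, h1.2, show phi t 2 = 2 by simp [phi], map_ofNat]
  obtain ⟨g, hg7, hg1, hg0⟩ : ∃ g : K, g ^ 7 = 1 ∧ g ≠ 1 ∧ cubic A B g = 0 := by
    obtain ⟨gu, hgu⟩ : ∃ g : Kˣ, orderOf g = 7 := by
      apply exists_prime_orderOf_dvd_card'
      rw [Nat.card_units, hcard]
      norm_num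
    have h7 : (gu : K) ^ 7 = 1 := by
      rw [← Units.val_pow_eq_pow_val, ← hgu, pow_orderOf_eq_one, Units.val_one]
    have h1 : (gu : K) ≠ 1 := fun h => by
      rw [Units.val_eq_one] at h
      simp [h] at hgu
    have hne : (gu : K) ≠ 0 := gu.ne_zero
    by_cases h0 : cubic A B (gu : K) = 0
    · exact ⟨gu, h7, h1, h0⟩
    · have h : cubic B A (gu : K) = 0 := by
        have hp : ((gu : K) - 1) * (cubic A B (gu : K) * cubic B A (gu : K)) = 0 := by
          obtain ⟨s1, s2⟩ := hABsum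
          have h5 : (5 : K) = 0 := by
            rw [← map_ofNat (algebraMap F K) 5, hT.five, map_zero]
          simp only [cubic]
          grind
        rcases mul_eq_zero.1 hp with h | h
        · exact absurd (sub_eq_zero.1 h) h1
        · exact (mul_eq_zero.1 h).resolve_left h0
      refine ⟨(gu : K)⁻¹, by rw [inv_pow, h7, inv_one], fun h2 => h1 (inv_eq_one.1 h2), ?_⟩
      have := cubic_inv (A := A) (B := B) hne
      rw [h, neg_zero] at this
      exact (mul_eq_zero.1 this).resolve_right (pow_ne_zero _ hne)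
  have hprim : IsPrimitiveRoot g 7 := orderOf_eq_prime hg7 hg1 ▸ IsPrimitiveRoot.orderOf g
  obtain ⟨Gm, hGm⟩ : ∃ X : MM, X = (g : MM) := ⟨_, rfl⟩
  have hGmK : Gm ∈ K := hGm ▸ g.2
  have hGm7 : Gm ^ 7 = 1 := by
    have := congrArg (fun z : K => (z : MM)) hg7
    simpa [hGm] using this
  have coe : ∀ (a b : E) (y : K),
      ((cubic (algebraMap F K (phi t a)) (algebraMap F K (phi t b)) y : K) : MM) =
        (y : MM) ^ 3 - phi t a • (y : MM) ^ 2 + phi t b • (y : MM) - 1 := fun a b y => by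
    simp only [cubic]
    push_cast [Subalgebra.coe_algebraMap]
    simp only [Algebra.algebraMap_eq_smul_one, smul_mul_assoc, one_mul]
  have hcub : Gm ^ 3 - phi t FieldModel.c1 • Gm ^ 2 + phi t FieldModel.c2 • Gm - 1 = 0 := by
    rw [hGm, ← coe, show cubic (algebraMap F K _) (algebraMap F K _) g = cubic A B g from rfl, hg0]
    rfl
  -- the adjoint of `g`
  obtain ⟨g', hg'K, hadj⟩ := hA Gm hGmK
  have hadjp : ∀ (i : ℕ) (u v : VV), f ((Gm ^ i) *ᵥ u) v = f u ((g' ^ i) *ᵥ v) := by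
    intro i
    induction i with
    | zero => intro u v; simp
    | succ i ih =>
      intro u v
      rw [pow_succ' Gm, ← Matrix.mulVec_mulVec, hadj, ih, Matrix.mulVec_mulVec, ← pow_succ]
  have hg'7 : g' ^ 7 = 1 := herm_uniq hF fun u v => by
    rw [← hadjp, hGm7, Matrix.one_mulVec, Matrix.one_mulVec]
  obtain ⟨i, hi, hig⟩ := hprim.eq_pow_of_pow_eq_one
    (ξ := (⟨g', hg'K⟩ : K)) (Subtype.ext (by simpa using hg'7))
  have hg' : g' = Gm ^ i := by
    have := congrArg (fun z : K => (z : MM)) hig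
    simpa [hGm] using this.symm
  have hii : g ^ (i * i) = g := by
    refine Subtype.ext (herm_uniq hF fun u v => ?_)
    push_cast
    rw [← hGm, pow_mul, ← hg', ← hadjp, ← hg']
    rw [← herm_symm hF (Gm *ᵥ v) u, hadj, herm_symm hF]
  have hi6 : i = 6 := by
    have hmod := pow_seven_mod hg7 (i * i)
    rw [hii] at hmod
    have h1 : 1 = i * i % 7 := hprim.pow_inj (by norm_num) (Nat.mod_lt _ (by norm_num))
      (by rw [pow_one]; exact hmod)
    have hne1 : i ≠ 1 := by
      rintro rfl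
      rw [pow_one] at hg'
      refine cubic_no_common hAB hg7 ⟨hg0, Subtype.ext (herm_uniq hF fun u v => ?_)⟩
      rw [show cubic B A g = cubic (algebraMap F K (phi t FieldModel.c2))
        (algebraMap F K (phi t FieldModel.c1)) g from rfl, coe, ← hGm, ZeroMemClass.coe_zero,
        Matrix.zero_mulVec, show f u (0 : VV) = 0 from map_zero (hermRight hF u)]
      have e : ∀ k, f u ((Gm ^ k) *ᵥ v) = f ((Gm ^ k) *ᵥ u) v := fun k => by
        rw [hadjp, hg']
      have e1 : f u (Gm *ᵥ v) = f (Gm *ᵥ u) v := by rw [hadj, hg']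
      have h0 := congrArg (fun X : MM => f (X *ᵥ u) v) hcub
      simp only [sub_eq_add_neg, Matrix.add_mulVec, Matrix.neg_mulVec, Matrix.smul_mulVec,
        Matrix.one_mulVec, Matrix.zero_mulVec, herm_zero_left, ← neg_one_smul F (_ : VV),
        herm_add_left, herm_smul_left] at h0
      simp only [sub_eq_add_neg, Matrix.add_mulVec, Matrix.neg_mulVec, Matrix.smul_mulVec,
        Matrix.one_mulVec, ← neg_one_smul F (_ : VV), herm_add_right' hF, herm_smul_right,
        Classical.neg_one_pow_q hF]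
      rw [e, e, e1, ← hT.phi_cj, ← hT.phi_cj,
        show cj FieldModel.c2 = FieldModel.c1 from by decide +kernel, FieldModel.c1_cj]
      exact h0
    interval_cases i <;> omega
  rw [hi6] at hg'
  have hGU : ∀ u v, f (Gm *ᵥ u) (Gm *ᵥ v) = f u v := fun u v => by
    rw [hadj, hg', Matrix.mulVec_mulVec, ← pow_succ, hGm7, Matrix.one_mulVec]
  have hrec : ∀ u : VV, Gm *ᵥ (Gm *ᵥ (Gm *ᵥ u)) =
      u + phi t (neg FieldModel.c2) • (Gm *ᵥ u) + phi t FieldModel.c1 • (Gm *ᵥ (Gm *ᵥ u)) := by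
    intro u
    have h := congrArg (fun X : MM => X *ᵥ u) hcub
    simp only [Matrix.sub_mulVec, Matrix.add_mulVec, Matrix.smul_mulVec, Matrix.one_mulVec,
      Matrix.zero_mulVec, pow_succ, pow_zero, one_mul, ← Matrix.mulVec_mulVec] at h
    rw [hT.phi_neg]
    funext k
    have hk := congrFun h k
    simp only [Pi.add_apply, Pi.sub_apply, Pi.smul_apply, smul_eq_mul, Pi.zero_apply] at hk ⊢
    linear_combination hk
  obtain ⟨P, hP, hPR⟩ := exists_cyclic_frame hF hT Gm hGU hrec
  have hR : real t P FieldModel.R = Gm :=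
    Cfsg.Agent.Lib.KnownA.PrimeDim.eq_of_mulVec fun u => by
      obtain ⟨a, rfl⟩ := J_surj hT P u
      rw [real_act hT, hPR]
  have hcongr : ∀ {a b : Mat}, (∀ i j, a i j = b i j) → real t P a = real t P b := fun h => by
    rw [funext fun i => funext (h i)]
  have hinjR : ∀ {a b : Mat}, real t P a = real t P b → ∀ i j, a i j = b i j := fun {a b} h i j => by
    have h' := congrArg (fun X : MM => ((P⁻¹ : GLn) : MM) * X * (P : MM)) h
    simp only [real, Matrix.mul_assoc, ← Units.val_mul, inv_mul_cancel, Units.val_one,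
      Matrix.mul_one] at h'
    simp only [← Matrix.mul_assoc, ← Units.val_mul, inv_mul_cancel, Units.val_one,
      Matrix.one_mul] at h'
    exact hT.phi_inj (congrFun (congrFun h' i) j)
  have mkI : ∀ a b : Mat, (∀ i j, mm a b i j = idM i j) → real t P a * real t P b = 1 :=
    fun a b h => by rw [← real_mul hT, real_id hT P h]
  let gg : GLn := ⟨Gm, Gm ^ 6, by rw [← pow_succ', hGm7], by rw [← pow_succ, hGm7]⟩
  let Tg : GLn := ⟨real t P T, real t P T, mkI _ _ sq_T, mkI _ _ sq_T⟩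
  let Ag : GLn := ⟨real t P ThreeFive.A, real t P ThreeFive.A, mkI _ _ sq_A, mkI _ _ sq_A⟩
  let Ng : GLn := ⟨real t P FieldModel.N, real t P (mm FieldModel.N FieldModel.N),
    mkI _ _ FieldModel.N_cube, mkI _ _ FieldModel.N_cube'⟩
  have detone : ∀ (x : GLn) (m : Mat), (x : MM) = real t P m → det3 m = 1 →
      Matrix.GeneralLinearGroup.det x = 1 := fun x m hx hm => Units.ext (by
    show (x : MM).det = 1
    rw [hx, det_real hT, hm, hT.phi_one])
  have hTΩ : Tg ∈ omegaU 3 F 5 :=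
    Subgroup.mem_inf.2 ⟨real_isometry hT P hP T isu_T, detone Tg T rfl det_T⟩
  have hAΩ : Ag ∈ omegaU 3 F 5 :=
    Subgroup.mem_inf.2 ⟨real_isometry hT P hP _ isu_A, detone Ag _ rfl det_A⟩
  have hNΩ : Ng ∈ omegaU 3 F 5 :=
    Subgroup.mem_inf.2 ⟨real_isometry hT P hP _ FieldModel.isu_N, detone Ng _ rfl FieldModel.det_N⟩
  let L : Set VV := lines t P
  let St : Subgroup GLn :=
    { carrier := {h | ∀ x, x ∈ L ↔ (h : MM) *ᵥ x ∈ L}
      one_mem' := fun x => by simp
      mul_mem' := fun {a b} ha hb x => by rw [hb x, ha, Matrix.mulVec_mulVec, Units.val_mul]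
      inv_mem' := fun {a} ha x => by
        rw [ha (((a⁻¹ : GLn) : MM) *ᵥ x), Matrix.mulVec_mulVec, ← Units.val_mul,
          mul_inv_cancel, Units.val_one, Matrix.one_mulVec] }
  have hmem : ∀ h : GLn, (∀ x ∈ L, (h : MM) *ᵥ x ∈ L) → h ∈ St := by
    intro h hh x
    refine ⟨hh x, fun hx => ?_⟩
    have hinj' := Cfsg.Agent.Lib.KnownA.PrimeDim.mulVec_injective h
    let r : L → L := fun y => ⟨(h : MM) *ᵥ (y : VV), hh y y.2⟩
    have hr : Function.Injective r := fun a b hab =>
      Subtype.ext (hinj' (congrArg Subtype.val hab))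
    obtain ⟨y, hy⟩ := Finite.injective_iff_surjective.1 hr ⟨_, hx⟩
    have := hinj' (congrArg Subtype.val hy)
    exact this ▸ y.2
  have hgSt : gg ∈ St := hmem gg (by
    show ∀ x ∈ L, Gm *ᵥ x ∈ L
    rw [← hR]; exact mapsTo_of_okStab hT P _ FieldModel.okStab_R)
  have hNSt : Ng ∈ St := hmem Ng (mapsTo_of_okStab hT P _ FieldModel.okStab_N)
  have hTSt : Tg ∈ St := hmem Tg (mapsTo_of_okStab hT P T okStab_T)
  have hNg : Ng * gg * Ng⁻¹ = gg ^ 4 := by
    rw [mul_inv_eq_iff_eq_mul]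
    refine Units.ext ?_
    push_cast
    show real t P FieldModel.N * Gm = Gm ^ 4 * real t P FieldModel.N
    rw [← hR, ← real_mul hT, hcongr FieldModel.N_R, FieldModel.R2, real_mul hT, real_mul hT,
      real_mul hT]
    simp only [pow_succ, pow_zero, one_mul, mul_assoc]
  -- a generator of the unitary part of the field
  let e : K := algebraMap F K (phi t FieldModel.cA) + algebraMap F K (phi t FieldModel.cB) * g +
    algebraMap F K (phi t FieldModel.cC) * (g * g)
  have he : (e : MM) = real t P FieldModel.E1 := by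
    refine Cfsg.Agent.Lib.KnownA.PrimeDim.eq_of_mulVec fun u => ?_
    obtain ⟨a, rfl⟩ := J_surj hT P u
    show ((e : K) : MM) *ᵥ _ = _
    simp only [e]
    push_cast [Subalgebra.coe_algebraMap]
    simp only [Algebra.algebraMap_eq_smul_one, smul_mul_assoc, one_mul, ← hGm, Matrix.add_mulVec,
      Matrix.smul_mulVec, Matrix.one_mulVec, ← Matrix.mulVec_mulVec, hPR, real_act hT,
      ← J_smul hT]
    rw [J, J, J, J, ← Matrix.mulVec_add, ← Matrix.mulVec_add]
    congr 1
    funext k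
    have hE := fun j => congrArg (phi t) (FieldModel.E1_eq k j)
    have e0 := hE 0
    have e1 := hE 1
    have e2 := hE 2
    have hid : phi t (a k) = phi t (idM k 0) * phi t (a 0) + phi t (idM k 1) * phi t (a 1) +
        phi t (idM k 2) * phi t (a 2) := by
      fin_cases k <;> simp [idM, hT.phi_one, hT.phi_zero]
    simp only [FieldModel.R2, mm, hT.phi_add, hT.phi_mul, hT.phi_s3, Fin.sum_univ_three] at e0 e1 e2
    simp only [Pi.add_apply, Function.comp_apply, smulV, mv, hT.phi_mul, hT.phi_s3,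
      Fin.sum_univ_three]
    linear_combination phi t FieldModel.cA * hid + phi t (a 0) * e0 + phi t (a 1) * e1 +
      phi t (a 2) * e2
  have chain : ∀ {a b c : Mat} {k l : ℕ}, (e : MM) ^ k = real t P a → (e : MM) ^ l = real t P b →
      (∀ i j, mm a b i j = c i j) → (e : MM) ^ (k + l) = real t P c := fun hk hl h => by
    rw [pow_add, hk, hl, ← real_mul hT, hcongr h]
  have p1 : (e : MM) ^ 1 = real t P FieldModel.E1 := by rw [pow_one, he]
  have p2 : (e : MM) ^ 2 = _ := chain p1 p1 FieldModel.E2_eq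
  have p3 : (e : MM) ^ 3 = _ := chain p2 p1 FieldModel.E3_eq
  have p6 : (e : MM) ^ 6 = _ := chain p3 p3 FieldModel.E6_eq
  have p9 : (e : MM) ^ 9 = _ := chain p6 p3 FieldModel.E9_eq
  have p18 : (e : MM) ^ 18 = _ := chain p9 p9 FieldModel.E18_eq
  have p21 : (e : MM) ^ 21 = _ := chain p18 p3 FieldModel.E21_eq
  have p42 : (e : MM) ^ 42 = _ := chain p21 p21 FieldModel.E42_eq
  have p63 : (e : MM) ^ 63 = _ := chain p42 p21 FieldModel.E63_eq
  have p126 : (e : MM) ^ 126 = _ := chain p63 p63 FieldModel.E126_eq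
  have hne : ∀ {k : ℕ} {m : Mat}, (e : MM) ^ k = real t P m → (∃ i j, m i j ≠ idM i j) →
      e ^ k ≠ 1 := fun {k m} hk hm h => by
    obtain ⟨i, j, hij⟩ := hm
    refine hij (hinjR ?_ i j)
    rw [← hk, real_id hT P (m := idM) (fun _ _ => rfl)]
    have := congrArg (fun z : K => (z : MM)) h
    simpa using this
  have he126 : e ^ 126 = 1 := Subtype.ext (by
    push_cast
    rw [p126, real_id hT P (m := idM) fun _ _ => rfl])
  have heprim : IsPrimitiveRoot e 126 := by
    rw [IsPrimitiveRoot.iff_orderOf]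
    refine orderOf_eq_of_pow_and_pow_div_prime (by norm_num) he126 fun p hp hdvd => ?_
    have hmem' : p ∈ Nat.primeFactors 126 := Nat.mem_primeFactors.2 ⟨hp, hdvd, by norm_num⟩
    have hpf : Nat.primeFactors 126 ⊆ {2, 3, 7} := by
      intro x hx
      obtain ⟨hxp, hxd, -⟩ := Nat.mem_primeFactors.1 hx
      rw [show (126 : ℕ) = 2 * 3 * 3 * 7 from rfl] at hxd
      have h2 := Nat.prime_two
      have h3 := Nat.prime_three
      have h7 : Nat.Prime 7 := by norm_num
      simp only [hxp.dvd_mul, Nat.prime_dvd_prime_iff_eq hxp h2, Nat.prime_dvd_prime_iff_eq hxp h3,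
        Nat.prime_dvd_prime_iff_eq hxp h7] at hxd
      simp only [Finset.mem_insert, Finset.mem_singleton]
      omega
    have := hpf hmem'
    simp only [Finset.mem_insert, Finset.mem_singleton] at this
    rcases this with rfl | rfl | rfl
    · exact hne p63 FieldModel.E63_ne
    · exact hne p42 FieldModel.E42_ne
    · exact hne p18 FieldModel.E18_ne
  have hE6St : ∀ x : GLn, (x : MM) = (e : MM) ^ 6 → x ∈ St := fun x hx => hmem x (by
    rw [hx, p6]; exact mapsTo_of_okStab hT P _ FieldModel.okStab_E6)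
  -- isometries of determinant one centralising `g`
  have hcent : ∀ x : GLn, x ∈ omegaU 3 F 5 → (x : MM) * Gm = Gm * (x : MM) → x ∈ St := by
    intro x hxΩ hxc
    obtain ⟨hxU, hxd⟩ := Subgroup.mem_inf.1 hxΩ
    let u0 : Vec := unit 0
    have hcyc : ∀ d : Fin 3 → F, ∃ a : Fin 3 → F, d 0 = d 0 ∧
        (a 0 • (1 : MM) + a 1 • Gm + a 2 • (Gm * Gm)) *ᵥ J t P u0 = (P : MM) *ᵥ d := by
      intro d
      have hinj : Function.Injective fun a : Fin 3 → F =>
          (a 0 • (1 : MM) + a 1 • Gm + a 2 • (Gm * Gm)) *ᵥ J t P u0 := by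
        intro a b hab
        let ka : K := algebraMap F K (a 0 - b 0) + algebraMap F K (a 1 - b 1) * g +
          algebraMap F K (a 2 - b 2) * (g * g)
        have hcoords : ∀ c : Fin 3 → F,
            (c 0 • (1 : MM) + c 1 • Gm + c 2 • (Gm * Gm)) *ᵥ J t P u0 =
              (P : MM) *ᵥ fun k => c 0 * phi t (unit 0 k) + c 1 * phi t (mv FieldModel.R (unit 0) k) +
                c 2 * phi t (mv FieldModel.R (mv FieldModel.R (unit 0)) k) := by
          intro c
          simp only [Matrix.add_mulVec, Matrix.smul_mulVec, Matrix.one_mulVec,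
            ← Matrix.mulVec_mulVec, u0, hPR]
          simp only [J, ← Matrix.mulVec_smul, ← Matrix.mulVec_add]
          congr 1
        simp only [hcoords] at hab
        have hab' := Cfsg.Agent.Lib.KnownA.PrimeDim.mulVec_injective P hab
        have a0 := congrFun hab' 0
        have a1 := congrFun hab' 1
        have a2 := congrFun hab' 2
        have key : (unit 0 0 = 1 ∧ unit 0 1 = 0 ∧ unit 0 2 = 0) ∧
            add (mul (mv FieldModel.R (unit 0) 1) (mv FieldModel.R (mv FieldModel.R (unit 0)) 2))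
              (neg (mul (mv FieldModel.R (unit 0) 2) (mv FieldModel.R (mv FieldModel.R (unit 0)) 1)))
              ≠ 0 := by decide +kernel
        obtain ⟨⟨u00, u01, u02⟩, hdet⟩ := key
        have hdet' : phi t (mv FieldModel.R (unit 0) 1) *
            phi t (mv FieldModel.R (mv FieldModel.R (unit 0)) 2) -
            phi t (mv FieldModel.R (unit 0) 2) *
            phi t (mv FieldModel.R (mv FieldModel.R (unit 0)) 1) ≠ 0 := by
          intro h
          refine hdet (hT.phi_eq_zero _ ?_)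
          rw [hT.phi_add, hT.phi_neg, hT.phi_mul, hT.phi_mul, ← sub_eq_add_neg]
          exact h
        rw [u00, hT.phi_one] at a0
        rw [u01, hT.phi_zero] at a1
        rw [u02, hT.phi_zero] at a2
        have e1 := (mul_eq_zero.1 (show (a 1 - b 1) * (phi t (mv FieldModel.R (unit 0) 1) *
            phi t (mv FieldModel.R (mv FieldModel.R (unit 0)) 2) -
            phi t (mv FieldModel.R (unit 0) 2) *
            phi t (mv FieldModel.R (mv FieldModel.R (unit 0)) 1)) = 0 by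
            linear_combination phi t (mv FieldModel.R (mv FieldModel.R (unit 0)) 2) * a1 -
              phi t (mv FieldModel.R (mv FieldModel.R (unit 0)) 1) * a2)).resolve_right hdet'
        have h1 : a 1 = b 1 := sub_eq_zero.1 e1
        have e2 := (mul_eq_zero.1 (show (a 2 - b 2) * (phi t (mv FieldModel.R (unit 0) 1) *
            phi t (mv FieldModel.R (mv FieldModel.R (unit 0)) 2) -
            phi t (mv FieldModel.R (unit 0) 2) *
            phi t (mv FieldModel.R (mv FieldModel.R (unit 0)) 1)) = 0 by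
            linear_combination phi t (mv FieldModel.R (unit 0) 1) * a2 -
              phi t (mv FieldModel.R (unit 0) 2) * a1)).resolve_right hdet'
        have h2 : a 2 = b 2 := sub_eq_zero.1 e2
        have h0 : a 0 = b 0 := by rw [h1, h2] at a0; linear_combination a0
        funext k
        fin_cases k <;> assumption
      obtain ⟨a, ha⟩ := (Finite.injective_iff_surjective.1 hinj) ((P : MM) *ᵥ d)
      exact ⟨a, rfl, ha⟩
    obtain ⟨a, -, ha⟩ := hcyc (((P⁻¹ : GLn) : MM) *ᵥ ((x : MM) *ᵥ J t P u0))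
    rw [Cfsg.Agent.Lib.KnownA.PrimeDim.mul_inv_cancel_vec] at ha
    set Y : MM := a 0 • (1 : MM) + a 1 • Gm + a 2 • (Gm * Gm) with hY
    have hYc : Y * Gm = Gm * Y := by
      simp only [hY, add_mul, mul_add, smul_mul_assoc, mul_smul_comm, one_mul, mul_one, mul_assoc]
    have hxY : (x : MM) = Y := by
      refine Cfsg.Agent.Lib.KnownA.PrimeDim.eq_of_mulVec fun w => ?_
      obtain ⟨c, -, hc⟩ := hcyc (((P⁻¹ : GLn) : MM) *ᵥ w)
      rw [Cfsg.Agent.Lib.KnownA.PrimeDim.mul_inv_cancel_vec] at hc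
      set Z : MM := c 0 • (1 : MM) + c 1 • Gm + c 2 • (Gm * Gm) with hZ
      have hcomm : ∀ X : MM, X * Gm = Gm * X → X * Z = Z * X := by
        intro X hX
        simp only [hZ, add_mul, mul_add, smul_mul_assoc, mul_smul_comm, one_mul, mul_one,
          ← mul_assoc, hX]
        simp only [mul_assoc, hX]
      rw [← hc]
      calc (x : MM) *ᵥ (Z *ᵥ J t P u0) = ((x : MM) * Z) *ᵥ J t P u0 := Matrix.mulVec_mulVec _ _ _
        _ = (Z * (x : MM)) *ᵥ J t P u0 := by rw [hcomm _ hxc]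
        _ = Z *ᵥ ((x : MM) *ᵥ J t P u0) := (Matrix.mulVec_mulVec _ _ _).symm
        _ = Z *ᵥ (Y *ᵥ J t P u0) := by rw [ha]
        _ = (Z * Y) *ᵥ J t P u0 := Matrix.mulVec_mulVec _ _ _
        _ = (Y * Z) *ᵥ J t P u0 := by rw [hcomm _ hYc]
        _ = Y *ᵥ (Z *ᵥ J t P u0) := (Matrix.mulVec_mulVec _ _ _).symm
    let k : K := algebraMap F K (a 0) + algebraMap F K (a 1) * g + algebraMap F K (a 2) * (g * g)
    have hk : (k : MM) = (x : MM) := by
      rw [hxY, hY]
      simp only [k]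
      push_cast [Subalgebra.coe_algebraMap]
      simp only [Algebra.algebraMap_eq_smul_one, smul_mul_assoc, one_mul, ← hGm]
    have h125 : k ^ 125 = algebraMap F K (a 0 ^ 5) + algebraMap F K (a 1 ^ 5) * g ^ 6 +
        algebraMap F K (a 2 ^ 5) * g ^ 12 := by
      have h25 : ∀ c : F, c ^ 125 = c ^ 5 := fun c => by
        have := FiniteField.pow_card c
        rw [hT.card] at this
        calc c ^ 125 = (c ^ 25) ^ 5 := by ring
          _ = c ^ 5 := by rw [this]
      show k ^ (5 ^ 3) = _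
      simp only [k, add_pow_char_pow, mul_pow, ← map_pow]
      rw [show (5 : ℕ) ^ 3 = 125 from rfl, h25, h25, h25, ← pow_add,
        pow_seven_mod hg7 125, pow_seven_mod hg7 (125 + 125), pow_seven_mod hg7 12]
    have hk126 : k ^ 126 = 1 := by
      refine Subtype.ext (herm_uniq hF fun u z => ?_)
      rw [OneMemClass.coe_one, Matrix.one_mulVec]
      push_cast
      have h' : (k : MM) ^ 125 = a 0 ^ 5 • (1 : MM) + a 1 ^ 5 • Gm ^ 6 + a 2 ^ 5 • Gm ^ 12 := by
        have := congrArg (fun z : K => (z : MM)) h125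
        push_cast [Subalgebra.coe_algebraMap] at this
        simpa only [Algebra.algebraMap_eq_smul_one, smul_pow, one_pow, smul_mul_assoc, one_mul, ← hGm] using this
      rw [show (126 : ℕ) = 125 + 1 from rfl, pow_succ, h', hk, ← Matrix.mulVec_mulVec]
      have hU : f ((x : MM) *ᵥ u) ((x : MM) *ᵥ z) = f u z := hxU u z
      rw [← hU]
      nth_rewrite 2 [hxY]
      have h25 : ∀ c : F, (c ^ 5) ^ 5 = c := fun c => by
        rw [← pow_mul, show 5 * 5 = Fintype.card F from hT.card.symm, FiniteField.pow_card]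
      have hadj1 : ∀ u v, f (Gm *ᵥ u) v = f u ((Gm ^ 6) *ᵥ v) := fun u v => by rw [hadj, hg']
      have hadj2 : ∀ u v, f ((Gm * Gm) *ᵥ u) v = f u ((Gm ^ 12) *ᵥ v) := fun u v => by
        rw [← Matrix.mulVec_mulVec, hadj1, hadj1, Matrix.mulVec_mulVec, ← pow_add]
      simp only [hY, Matrix.add_mulVec, Matrix.smul_mulVec, Matrix.one_mulVec, herm_add_left,
        herm_add_right' hF, herm_smul_left, herm_smul_right, hadj1, hadj2, h25]
    obtain ⟨j, -, hj⟩ := heprim.eq_pow_of_pow_eq_one hk126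
    have hxj : (x : MM) = (e : MM) ^ j := by
      rw [← hk, ← hj]; push_cast; rfl
    have hdj : phi t FieldModel.dE ^ j = 1 := by
      have hd' : (x : MM).det = 1 := congrArg Units.val hxd
      rwa [hxj, Matrix.det_pow, he, det_real hT, FieldModel.det_E1] at hd'
    obtain ⟨n1', n2, n3, n4, n5, n6⟩ := FieldModel.dE_pow
    have d6 : phi t FieldModel.dE ^ 6 = 1 := by
      rw [← hT.phi_one, ← n6]; simp only [hT.phi_mul]; ring
    have hj6 : j % 6 = 0 := by
      have hr : phi t FieldModel.dE ^ (j % 6) = 1 := by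
        rw [← Nat.div_add_mod j 6, pow_add, pow_mul, d6, one_pow, one_mul] at hdj
        exact hdj
      have hlt := Nat.mod_lt j (show 0 < 6 by norm_num)
      rcases (show j % 6 = 0 ∨ j % 6 = 1 ∨ j % 6 = 2 ∨ j % 6 = 3 ∨ j % 6 = 4 ∨ j % 6 = 5 by omega)
        with h | h | h | h | h | h <;> rw [h] at hr
      · exact h
      · exact absurd (hT.phi_inj (by rw [hT.phi_one, ← hr]; ring)) n1'
      · exact absurd (hT.phi_inj (by rw [hT.phi_one, ← hr]; simp only [hT.phi_mul]; ring)) n2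
      · exact absurd (hT.phi_inj (by rw [hT.phi_one, ← hr]; simp only [hT.phi_mul]; ring)) n3
      · exact absurd (hT.phi_inj (by rw [hT.phi_one, ← hr]; simp only [hT.phi_mul]; ring)) n4
      · exact absurd (hT.phi_inj (by rw [hT.phi_one, ← hr]; simp only [hT.phi_mul]; ring)) n5
    have hu : IsUnit ((e : MM) ^ 6) := by
      refine IsUnit.pow 6 ?_
      rw [Matrix.isUnit_iff_isUnit_det, he, det_real hT, FieldModel.det_E1]
      refine isUnit_iff_ne_zero.2 fun h => ?_
      rw [h, zero_pow (by norm_num)] at d6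
      exact zero_ne_one d6
    have hxe : x = hu.unit ^ (j / 6) := Units.ext (by
      rw [hxj, Units.val_pow_eq_pow_val, IsUnit.unit_spec, ← pow_mul,
        show 6 * (j / 6) = j by omega])
    rw [hxe]
    exact pow_mem (hE6St _ hu.unit_spec) _
  have hconjN : ∀ j : ℕ, Ng ^ j * gg * (Ng ^ j)⁻¹ = gg ^ (4 ^ j) := by
    intro j
    induction j with
    | zero => simp
    | succ j ih =>
      calc Ng ^ (j + 1) * gg * (Ng ^ (j + 1))⁻¹
          = Ng ^ j * (Ng * gg * Ng⁻¹) * (Ng ^ j)⁻¹ := by rw [pow_succ]; group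
        _ = (Ng ^ j * gg * (Ng ^ j)⁻¹) ^ 4 := by rw [hNg, conj_pow]
        _ = gg ^ (4 ^ (j + 1)) := by rw [ih, ← pow_mul, pow_succ]
  have hnorm : ∀ h : GLn, h ∈ subalgebraNormalizer K → h ∈ omegaU 3 F 5 → h ∈ St := by
    intro h hhK hhΩ
    have hy : (h : MM) * Gm * ((h⁻¹ : GLn) : MM) ∈ K := (hhK Gm).1 hGmK
    let y : K := ⟨_, hy⟩
    have hy7 : y ^ 7 = 1 := Subtype.ext (by
      push_cast
      show ((h : MM) * Gm * ((h⁻¹ : GLn) : MM)) ^ 7 = 1
      rw [Units.conj_pow, hGm7, mul_one, ← Units.val_mul, mul_inv_cancel, Units.val_one])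
    have hy1 : y ≠ 1 := by
      intro hh
      apply hg1
      refine Subtype.ext ?_
      have h' := congrArg (fun z : K => ((h⁻¹ : GLn) : MM) * (z : MM) * (h : MM)) hh
      simpa [y, hGm, mul_assoc, ← Units.val_mul] using h'
    have hy0 : cubic A B y = 0 := Subtype.ext (by
      rw [show cubic A B y = cubic (algebraMap F K (phi t FieldModel.c1))
        (algebraMap F K (phi t FieldModel.c2)) y from rfl, coe]
      show ((h : MM) * Gm * ((h⁻¹ : GLn) : MM)) ^ 3 -
        phi t FieldModel.c1 • ((h : MM) * Gm * ((h⁻¹ : GLn) : MM)) ^ 2 + _ - 1 = 0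
      have h' := congrArg (fun X : MM => (h : MM) * X * ((h⁻¹ : GLn) : MM)) hcub
      simp only [mul_add, add_mul, mul_sub, sub_mul, mul_smul_comm, smul_mul_assoc, mul_one,
        mul_zero, zero_mul, ← Units.val_mul h h⁻¹, mul_inv_cancel, Units.val_one] at h'
      simp only [y, Units.conj_pow]
      exact h')
    obtain ⟨j, hj⟩ := cubic_roots hA5 hB5 hAB hg7 hg1 hg0 hy7 hy1 hy0
    have hconj : h * gg * h⁻¹ = gg ^ (4 ^ j) := Units.ext (by
      push_cast
      have := congrArg (fun z : K => (z : MM)) hj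
      simpa [y, gg, hGm] using this)
    have hcomm : ((Ng ^ j)⁻¹ * h) * gg = gg * ((Ng ^ j)⁻¹ * h) := by
      calc ((Ng ^ j)⁻¹ * h) * gg = (Ng ^ j)⁻¹ * (h * gg * h⁻¹) * h := by group
        _ = (Ng ^ j)⁻¹ * (Ng ^ j * gg * (Ng ^ j)⁻¹) * h := by rw [hconj, hconjN]
        _ = gg * ((Ng ^ j)⁻¹ * h) := by group
    have := mul_mem (pow_mem hNSt j)
      (hcent _ (mul_mem (inv_mem (pow_mem hNΩ j)) hhΩ) (congrArg Units.val hcomm))
    rwa [mul_inv_cancel_left] at this
  have hHM : H ≤ St ⊓ omegaU 3 F 5 := by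
    intro h hh
    rw [hHeq] at hh
    exact ⟨hnorm h hh.1 hh.2, hh.2⟩
  rcases hmax.2 _ hHM inf_le_right with h | h
  · have hTH : Tg ∈ H := h ▸ ⟨hTSt, hTΩ⟩
    rw [hHeq] at hTH
    have hTy : real t P T * Gm * real t P T ∈ K := (hTH.1 Gm).1 hGmK
    refine FieldModel.T_not_normal fun i j => hinjR ?_ i j
    simp only [real_mul hT, hR]
    exact hK.comm _ hTy _ hGmK
  · have hA' : Ag ∈ St ⊓ omegaU 3 F 5 := by rw [h]; exact hAΩ
    obtain ⟨s, hs, a, ha, hEq⟩ : real t P ThreeFive.A *ᵥ J t P (dec 25) ∈ L :=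
      ((Subgroup.mem_inf.1 hA').1 _).1 ⟨25, mem_25, 1, one_ne_zero, (one_smul _ _).symm⟩
    obtain ⟨b, hb⟩ := hT.phi_surj a⁻¹
    rw [real_act hT] at hEq
    have h2 : smulV b (mv ThreeFive.A (dec 25)) = dec s := J_inj hT P (by
      rw [J_smul hT, hEq, hb, smul_smul, inv_mul_cancel₀ ha, one_smul])
    have hm := moved b
    rw [h2, code_dec s hs, List.contains_iff_mem.2 hs] at hm
    exact Bool.noConfusion hm

end Cfsg.Agent.Lib.UnitPrimeDim.ThreeFive
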