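import Cfsg.Agent.Lib.UnitPrimeDim.ThreeFiveModel

/-!
A finite model over the field with 25 elements: a set of 36 lines stabilised by the normaliser of an
extraspecial group of order 27 in the three-dimensional special unitary group and by one further element.
-/

set_option autoImplicit false

namespace Cfsg.Agent.Lib.UnitPrimeDim.ThreeFive.Six

def S6 : List ℕ :=
  [751, 901, 1026, 1101, 3151, 3551, 4551, 4576, 5176, 5376, 6801, 6826, 6901, 7176, 7776, 7851, 7901, 8001, 9051, 9176, 9576, 9751, 10026, 10301, 10751, 10976, 11101, 11126, 11901, 12301, 12801, 12926, 14001, 14301, 14626, 14951]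

def G6 : Mat := ![![18, 9, 13], ![11, 4, 23], ![23, 18, 14]]

def w6 : E := 12

/-- for each non-central word, an element carrying it to `X` -/
def ms : List Mat :=
  [![![22, 22, 22], ![22, 10, 23], ![22, 23, 10]],
   ![![22, 23, 10], ![22, 22, 22], ![22, 10, 23]],
   ![![22, 10, 23], ![22, 23, 10], ![22, 22, 22]],
   ![![15, 15, 15], ![15, 8, 7], ![15, 7, 8]],
   ![![15, 7, 8], ![15, 15, 15], ![15, 8, 7]],
   ![![15, 8, 7], ![15, 7, 8], ![15, 15, 15]],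
   ![![1, 0, 0], ![0, 1, 0], ![0, 0, 1]],
   ![![0, 0, 1], ![1, 0, 0], ![0, 1, 0]],
   ![![0, 1, 0], ![0, 0, 1], ![1, 0, 0]],
   ![![22, 23, 22], ![22, 22, 23], ![10, 23, 23]],
   ![![22, 10, 10], ![22, 23, 22], ![10, 10, 22]],
   ![![22, 22, 23], ![22, 10, 10], ![10, 22, 10]],
   ![![15, 15, 7], ![15, 8, 8], ![8, 15, 8]],
   ![![15, 7, 15], ![15, 15, 7], ![8, 7, 7]],
   ![![15, 8, 8], ![15, 7, 15], ![8, 8, 15]],
   ![![4, 0, 0], ![0, 0, 4], ![0, 4, 0]],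
   ![![0, 4, 0], ![4, 0, 0], ![0, 0, 4]],
   ![![0, 0, 4], ![0, 4, 0], ![4, 0, 0]],
   ![![22, 10, 22], ![22, 23, 23], ![23, 23, 22]],
   ![![22, 22, 10], ![22, 10, 22], ![23, 10, 10]],
   ![![22, 23, 23], ![22, 22, 10], ![23, 22, 23]],
   ![![15, 15, 8], ![15, 8, 15], ![7, 8, 8]],
   ![![15, 7, 7], ![15, 15, 8], ![7, 15, 7]],
   ![![15, 8, 15], ![15, 7, 7], ![7, 7, 15]]]

def bad6 : ℕ := 3151

def R0 : List Mat :=
  [![![1, 0, 0], ![0, 1, 0], ![0, 0, 1]],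
   ![![12, 0, 0], ![0, 12, 0], ![0, 0, 12]],
   ![![17, 0, 0], ![0, 17, 0], ![0, 0, 17]],
   ![![0, 0, 1], ![1, 0, 0], ![0, 1, 0]],
   ![![0, 0, 12], ![12, 0, 0], ![0, 12, 0]],
   ![![0, 0, 17], ![17, 0, 0], ![0, 17, 0]],
   ![![0, 1, 0], ![0, 0, 1], ![1, 0, 0]],
   ![![0, 12, 0], ![0, 0, 12], ![12, 0, 0]],
   ![![0, 17, 0], ![0, 0, 17], ![17, 0, 0]],
   ![![1, 0, 0], ![0, 12, 0], ![0, 0, 17]],
   ![![12, 0, 0], ![0, 17, 0], ![0, 0, 1]],
   ![![17, 0, 0], ![0, 1, 0], ![0, 0, 12]],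
   ![![0, 0, 1], ![12, 0, 0], ![0, 17, 0]],
   ![![0, 0, 12], ![17, 0, 0], ![0, 1, 0]],
   ![![0, 0, 17], ![1, 0, 0], ![0, 12, 0]],
   ![![0, 1, 0], ![0, 0, 12], ![17, 0, 0]],
   ![![0, 12, 0], ![0, 0, 17], ![1, 0, 0]],
   ![![0, 17, 0], ![0, 0, 1], ![12, 0, 0]],
   ![![1, 0, 0], ![0, 17, 0], ![0, 0, 12]],
   ![![12, 0, 0], ![0, 1, 0], ![0, 0, 17]],
   ![![17, 0, 0], ![0, 12, 0], ![0, 0, 1]],
   ![![0, 0, 1], ![17, 0, 0], ![0, 12, 0]],
   ![![0, 0, 12], ![1, 0, 0], ![0, 17, 0]],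
   ![![0, 0, 17], ![12, 0, 0], ![0, 1, 0]],
   ![![0, 1, 0], ![0, 0, 17], ![12, 0, 0]],
   ![![0, 12, 0], ![0, 0, 1], ![17, 0, 0]],
   ![![0, 17, 0], ![0, 0, 12], ![1, 0, 0]]]

def X6 : Mat := ![![1, 0, 0], ![0, w6, 0], ![0, 0, mul w6 w6]]
def Y6 : Mat := ![![0, 0, 1], ![1, 0, 0], ![0, 1, 0]]
def scM (a : E) (m : Mat) : Mat := fun i j => mul a (m i j)
def wp : Fin 3 → E := ![1, w6, mul w6 w6]
def Xp : Fin 3 → Mat := ![idM, X6, mm X6 X6]
def Yp : Fin 3 → Mat := ![idM, Y6, mm Y6 Y6]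
def adjM (m : Mat) : Mat := fun i j => cj (m j i)
def eqM (a b : Mat) : Bool := decide (∀ i j, a i j = b i j)
def isSc (m : Mat) : Bool := eqM m (scM (m 0 0) idM)

def okVec6 (v : Vec) : Bool :=
  decide (lead v ≠ 0) && S6.contains (code (smulV (invE (lead v)) v))

def okStab6 (m : Mat) : Bool := S6.all fun s => okVec6 (mv m (dec s))

def isInv (m : Mat) : Bool := eqM (mm m (adjM m)) idM && eqM (mm (adjM m) m) idM

def good (W m : Mat) : Bool :=
  eqM (mm m W) (mm X6 m) && (isInv m && (decide (det3 m = 1) && (okStab6 m &&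
    R0.all fun V => R0.any fun V' => eqM (mm m V) (mm V' m))))

theorem ms_ok : (R0.all fun W => isSc W || ms.any (good W)) = true := by decide +kernel
theorem word_mem : ∀ a b c : Fin 3, (R0.any fun W => eqM W (scM (wp c) (mm (Xp a) (Yp b)))) = true := by
  decide +kernel
theorem diag_ok : ∀ a ∈ n1, ∀ b ∈ n1,
    (R0.any fun W => eqM (mm (diagM a b) Y6) (mm W (diagM a b))) = true → okStab6 (diagM a b) = true := by
  decide +kernel
theorem G6_ok : (isInv G6 && (decide (det3 G6 = 1) && okStab6 G6)) = true := by decide +kernel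
theorem G6_not_normalizing : (R0.all fun W => !eqM (mm G6 X6) (mm W G6)) = true := by decide +kernel
theorem bad6_mem : bad6 ∈ S6 := by decide +kernel
theorem moved6 : ∀ a : E, S6.contains (code (smulV a (mv A (dec bad6)))) = false := by decide +kernel
theorem code_dec6 : ∀ s ∈ S6, code (dec s) = s := by decide +kernel
theorem omega_cases : ∀ e : E, mul e (mul e e) = 1 → e = 1 ∨ e = w6 ∨ mul e e = w6 := by decide +kernel
theorem det_unique : ∀ a ∈ n1, ∀ b ∈ n1, ∀ c ∈ n1, mul (mul a b) c = 1 → c = cj (mul a b) := by decide +kernel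
theorem eq_zero_of_comm : ∀ (i j : Fin 3) (v : E), i ≠ j → mul v (wp j) = mul (wp i) v → v = 0 := by
  decide +kernel
theorem norm_fix : ∀ d : E, d ≠ 0 → cj d = d → ∃ c : E, mul (mul c (cj c)) d = 1 := norm_surj
theorem wp_shift : mul w6 (mul w6 w6) = 1 ∧ cj w6 = mul w6 w6 ∧ w6 ≠ 1 := by decide +kernel
theorem mm_X6 : ∀ (i j : Fin 3) (a b c : E), s3 (fun k => mul (![a, b, c] k) (X6 k j)) = mul (![a, b, c] j) (wp j) ∧
    s3 (fun k => mul (X6 i k) (![a, b, c] k)) = mul (wp i) (![a, b, c] i) := by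
  have h0 : ∀ x : E, mul x 0 = 0 ∧ mul 0 x = 0 ∧ add x 0 = x ∧ add 0 x = x := by decide +kernel
  intro i j a b c
  fin_cases i <;> fin_cases j <;> simp [s3, X6, wp, h0]

end Cfsg.Agent.Lib.UnitPrimeDim.ThreeFive.Six
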