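import Cfsg.Agent.Lib.UnitPrimeDim.ThreeFive
import Cfsg.Agent.Lib.UnitPrimeDim.ThreeFiveSixModel
import Cfsg.Agent.Lib.PrimeDim.SympType

/-!
In the three-dimensional unitary group over the field with 25 elements the normaliser of an
extraspecial group of order 27 is not maximal.
-/

set_option autoImplicit false
set_option linter.unusedSimpArgs false
set_option linter.unusedSectionVars false
set_option maxHeartbeats 1000000

namespace Cfsg.Agent.Lib.UnitPrimeDim.ThreeFive.Six

open scoped Matrix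
open Cfsg.Geo
open Cfsg.Agent.Lib.PrimeDim.SympType (WeylPair Data)
open Cfsg.Agent.Lib.UnitPrimeDim.ThreeFive

variable {F : Type*} [Field F] [Fintype F] {t : F}

local notation "f" => Cfsg.hermForm 3 F 5
local notation "MM" => Matrix (Fin 3) (Fin 3) F
local notation "GLn" => Matrix.GeneralLinearGroup (Fin 3) F
local notation "VV" => (Fin 3 → F)

theorem eq_of_eqM {a b : Mat} (h : eqM a b = true) : ∀ i j, a i j = b i j := by
  simpa [eqM] using h

theorem real_congr (P : GLn) {a b : Mat} (h : eqM a b = true) : real t P a = real t P b := by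
  have : (fun i j => phi t (a i j)) = fun i j => phi t (b i j) := by
    funext i j; rw [eq_of_eqM h i j]
  simp only [real, this]

theorem real_scM (hT : IsTF t) (P : GLn) (a : E) (m : Mat) :
    real t P (scM a m) = phi t a • real t P m := by
  have : (Matrix.of fun i j => phi t (scM a m i j) : MM) = phi t a • Matrix.of fun i j => phi t (m i j) := by
    ext i j; simp [scM, hT.phi_mul]
  simp only [real, this, Matrix.mul_smul, Matrix.smul_mul]

theorem real_one (hT : IsTF t) (P : GLn) : real t P idM = 1 := real_id hT P fun _ _ => rfl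

theorem J_unit (hT : IsTF t) (P : GLn) (j : Fin 3) : J t P (unit j) = fun k => (P : MM) k j := by
  funext k
  fin_cases j <;> simp [J, Matrix.mulVec, dotProduct, Fin.sum_univ_three, unit, hT.phi_one, hT.phi_zero]

theorem ext_frame (hT : IsTF t) (P : GLn) {X Z : MM}
    (h : ∀ j, X *ᵥ J t P (unit j) = Z *ᵥ J t P (unit j)) : X = Z := by
  refine Cfsg.Agent.Lib.KnownA.PrimeDim.eq_of_mulVec fun u => ?_
  obtain ⟨a, rfl⟩ := J_surj hT P u
  have hlin : ∀ W : MM, W *ᵥ J t P a = phi t (a 0) • W *ᵥ J t P (unit 0) +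
      phi t (a 1) • W *ᵥ J t P (unit 1) + phi t (a 2) • W *ᵥ J t P (unit 2) := by
    intro W
    simp only [← Matrix.mulVec_smul, ← Matrix.mulVec_add, J]
    congr 2
    funext i
    fin_cases i <;> simp [unit, hT.phi_one, hT.phi_zero]
  rw [hlin, hlin, h, h, h]

theorem real_inj (hT : IsTF t) (P : GLn) {a b : Mat} (h : real t P a = real t P b) (i j : Fin 3) :
    a i j = b i j := by
  have h1 : (Matrix.of fun i j => phi t (a i j) : MM) = Matrix.of fun i j => phi t (b i j) := by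
    have h2 := congrArg (fun X : MM => ((P⁻¹ : GLn) : MM) * X * (P : MM)) h
    simpa [real, Matrix.mul_assoc, ← Matrix.mul_assoc ((P⁻¹ : GLn) : MM)] using h2
  exact hT.phi_inj (congrFun (congrFun h1 i) j)

theorem exists_real (hT : IsTF t) (P : GLn) (X : MM) : ∃ m : Mat, real t P m = X := by
  choose m hm using fun i j => hT.phi_surj ((((P⁻¹ : GLn) : MM) * X * (P : MM)) i j)
  refine ⟨m, ?_⟩
  rw [real, show (Matrix.of fun i j => phi t (m i j) : MM) = ((P⁻¹ : GLn) : MM) * X * (P : MM) from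
    Matrix.ext hm]
  simp [Matrix.mul_assoc, ← Matrix.mul_assoc (P : MM) ((P⁻¹ : GLn) : MM)]

/-- The frame attached to the group. -/
theorem exists_heisenberg_frame (hF : Fintype.card F = 5 ^ 2) (hT : IsTF t) {R : Subgroup GLn}
    (hd : Data 3 R) (hexp : ∀ g ∈ R, g ^ 3 = 1) (hRU : R ≤ Cfsg.GU 3 F 5) :
    ∃ (P : GLn) (x y : GLn), x ∈ R ∧ y ∈ R ∧ WeylPair 3 (phi t w6) x y ∧
      (∀ a b : Fin 3 → F, f ((P : MM) *ᵥ a) ((P : MM) *ᵥ b) = f a b) ∧
      (x : MM) = real t P X6 ∧ (y : MM) = real t P Y6 := by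
  classical
  obtain ⟨ω, x₀, y, hx₀, hy, hp₀⟩ := hd.exists_pair
  obtain ⟨e, he⟩ := hT.phi_surj ω
  obtain ⟨x, hx, hp⟩ : ∃ x ∈ R, WeylPair 3 (phi t w6) x y := by
    have h3 : mul e (mul e e) = 1 := hT.phi_inj (by
      rw [hT.phi_mul, hT.phi_mul, hT.phi_one, he, ← hp₀.root.pow_eq_one]; ring)
    rcases omega_cases e h3 with h1 | h1 | h1
    · exact absurd (by rw [← he, h1, hT.phi_one]) (hp₀.root.ne_one (by norm_num))
    · exact ⟨x₀, hx₀, by rw [← h1, he]; exact hp₀⟩
    · have h2 : phi t w6 = ω ^ 2 := by rw [← h1, hT.phi_mul, he, pow_two]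
      refine ⟨x₀ ^ 2, R.pow_mem hx₀ 2, hp₀.card, hp₀.prime, ?_, ?_⟩
      · rw [h2]; exact hp₀.root.pow_of_coprime 2 (by norm_num)
      · rw [h2, Units.val_pow_eq_pow_val]
        simpa using hp₀.xpow_ypow 2 1
  obtain ⟨eq, v, P₀, hP₀, hxv, -⟩ := hp.exists_basis (hexp x hx) (hexp y hy)
  have hv0 : v ≠ 0 := by
    intro h0
    have h1 : (P₀ : MM) *ᵥ Pi.single (eq.symm 0) 1 = (P₀ : MM) *ᵥ 0 := by
      rw [Matrix.mulVec_zero]
      funext k
      have := congrFun (hP₀ (eq.symm 0)) k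
      simp [h0] at this
      simp [Matrix.mulVec, dotProduct, Pi.single_apply, this]
    have h2 := congrFun (Cfsg.Agent.Lib.KnownA.PrimeDim.mulVec_injective P₀ h1) (eq.symm 0)
    simp at h2
  let u : Fin 3 → VV := fun i => (y : MM) ^ (i : ℕ) *ᵥ v
  have hxu : ∀ i : Fin 3, (x : MM) *ᵥ u i = phi t w6 ^ (i : ℕ) • u i := by
    intro i
    show (x : MM) *ᵥ ((y : MM) ^ (i : ℕ) *ᵥ v) = _
    rw [Matrix.mulVec_mulVec, hp.x_ypow, Matrix.smul_mulVec, ← Matrix.mulVec_mulVec, hxv]
  have hyu : ∀ i : Fin 3, f (u i) (u i) = f v v := by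
    intro i
    have h := hRU (R.pow_mem hy (i : ℕ)) v v
    simpa [u] using h
  have hw := wp_shift
  have hconj : phi t w6 ^ 5 = phi t w6 ^ 2 := by
    rw [← hT.phi_cj, hw.2.1, hT.phi_mul, pow_two]
  have horth : ∀ i j : Fin 3, i ≠ j → f (u i) (u j) = 0 := by
    intro i j hij
    have h : f ((x : MM) *ᵥ u i) ((x : MM) *ᵥ u j) = f (u i) (u j) := hRU hx (u i) (u j)
    rw [hxu, hxu, herm_smul_left, herm_smul_right] at h
    by_contra h0
    have h1 : phi t w6 ^ (i : ℕ) * (phi t w6 ^ (j : ℕ)) ^ 5 = 1 := by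
      apply mul_right_cancel₀ h0
      linear_combination h
    rw [← pow_mul, mul_comm (j : ℕ), pow_mul, hconj, ← pow_mul, ← pow_add] at h1
    have h2 := (hp.root.pow_eq_one_iff_dvd _).1 h1
    apply hij
    apply Fin.ext
    have := i.isLt
    have := j.isLt
    omega
  have haddr : ∀ z a b : VV, f z (a + b) = f z a + f z b := fun z a b => map_add (hermRight hF z) a b
  have hN : f v v ≠ 0 := by
    intro h0
    apply hv0
    have hall : ∀ i, f (u i) v = 0 := by
      intro i
      by_cases hi : i = 0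
      · subst hi; simpa [u] using h0
      · simpa [u] using horth i 0 hi
    have hspan : ∀ z : VV, ∃ c : Fin 3 → F, z = c 0 • u 0 + c 1 • u 1 + c 2 • u 2 := by
      intro z
      let c₀ : Fin 3 → F := ((P₀⁻¹ : GLn) : MM) *ᵥ z
      refine ⟨fun i => c₀ (eq.symm i), ?_⟩
      conv_lhs => rw [← Cfsg.Agent.Lib.KnownA.PrimeDim.mul_inv_cancel_vec P₀ z]
      funext k
      have hcol : ∀ i, (P₀ : MM) k (eq.symm i) = u i k := fun i => by
        have := congrFun (hP₀ (eq.symm i)) k
        simpa [u] using this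
      show ∑ l, (P₀ : MM) k l * c₀ l = _
      rw [← eq.symm.sum_comp, Fin.sum_univ_three]
      simp [hcol, mul_comm]
    refine herm_nondeg hF fun z => ?_
    obtain ⟨c, rfl⟩ := hspan z
    simp only [herm_add_left, herm_smul_left, hall, mul_zero, add_zero]
  obtain ⟨d, hd'⟩ := hT.phi_surj (f v v)
  have hd0 : d ≠ 0 := fun h => hN (by rw [← hd', h, hT.phi_zero])
  have hdc : cj d = d := hT.phi_inj (by rw [hT.phi_cj, hd']; exact herm_symm hF v v)
  obtain ⟨c, hc⟩ := norm_fix d hd0 hdc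
  have hc' := congrArg (phi t) hc
  rw [hT.phi_mul, hT.phi_mul, hT.phi_cj, hT.phi_one, hd'] at hc'
  obtain ⟨w, hwd⟩ : ∃ w : Fin 3 → VV, ∀ i, w i = phi t c • u i := ⟨_, fun _ => rfl⟩
  let Pm : MM := Matrix.of fun i j => w j i
  have hPlin : ∀ a, Pm *ᵥ a = a 0 • w 0 + a 1 • w 1 + a 2 • w 2 := fun a => by
    ext i
    simp [Pm, Matrix.mulVec, dotProduct, Fin.sum_univ_three, mul_comm]
  have hfv : ∀ i j, f (w i) (w j) = if i = j then 1 else 0 := by
    intro i j
    rw [hwd, hwd, herm_smul_left, herm_smul_right]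
    by_cases h : i = j
    · subst h; rw [if_pos rfl, hyu]; linear_combination hc'
    · rw [if_neg h, horth i j h]; ring
  have hiso : ∀ a b : Fin 3 → F, f (Pm *ᵥ a) (Pm *ᵥ b) = f a b := by
    intro a b
    simp only [hPlin, herm_add_left, haddr, herm_smul_left, herm_smul_right, hfv, Fin.reduceEq, if_true,
      if_false]
    simp only [Cfsg.hermForm, Fin.sum_univ_three]
    ring
  have hinj : Function.Injective Pm.mulVec := by
    intro a b hab
    refine sub_eq_zero.1 (herm_nondeg hF fun z => ?_)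
    rw [← hiso, Matrix.mulVec_sub, sub_eq_zero.2 hab]
    simp [Cfsg.hermForm]
  obtain ⟨P, hP⟩ := Matrix.mulVec_injective_iff_isUnit.1 hinj
  have hJ : ∀ i, J t P (unit i) = phi t c • u i := fun i => by
    rw [J_unit hT, ← hwd]; funext k; rw [hP]; rfl
  refine ⟨P, x, y, hx, hy, hp, fun a b => by rw [hP]; exact hiso a b, ext_frame hT P fun j => ?_,
    ext_frame hT P fun j => ?_⟩
  · have hs : mv X6 (unit j) = smulV (wp j) (unit j) := by revert j; decide +kernel
    rw [real_act hT, hs, J_smul hT, hJ, Matrix.mulVec_smul, hxu, smul_comm]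
    congr 2
    fin_cases j <;> simp [wp, hT.phi_one, hT.phi_mul, pow_two]
  · have hs : mv Y6 (unit j) = unit (j + 1) := by revert j; decide +kernel
    rw [real_act hT, hs, hJ, hJ, Matrix.mulVec_smul]
    congr 1
    show (y : MM) *ᵥ ((y : MM) ^ (j : ℕ) *ᵥ v) = (y : MM) ^ ((j + 1 : Fin 3) : ℕ) *ᵥ v
    rw [Matrix.mulVec_mulVec, ← pow_succ']
    have hy3 : (y : MM) ^ 3 = 1 := by rw [← Units.val_pow_eq_pow_val, hexp y hy, Units.val_one]
    fin_cases j <;> simp [hy3]

theorem mapsTo_okStab6 (hT : IsTF t) (P : GLn) (m : Mat) (hm : okStab6 m = true) :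
    ∀ x ∈ {x : VV | ∃ s ∈ S6, ∃ a : F, a ≠ 0 ∧ x = a • J t P (dec s)},
      real t P m *ᵥ x ∈ {x : VV | ∃ s ∈ S6, ∃ a : F, a ≠ 0 ∧ x = a • J t P (dec s)} := by
  rintro _ ⟨s, hs, a, ha, rfl⟩
  have := List.all_eq_true.1 hm s hs
  simp only [okVec6, Bool.and_eq_true, decide_eq_true_eq] at this
  obtain ⟨hl, hmem⟩ := this
  set b := invE (lead (mv m (dec s)))
  have hb0 : phi t b ≠ 0 := fun h0 => inv_ne _ hl (hT.phi_eq_zero b h0)
  refine ⟨_, List.contains_iff_mem.1 hmem, a / phi t b, div_ne_zero ha hb0, ?_⟩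
  rw [dec_code, J_smul hT, smul_smul, div_mul_cancel₀ a hb0, Matrix.mulVec_smul, real_act hT]

/-- **The exception**: for `q = 5` the normaliser of an extraspecial group of order 27 is not maximal. -/
theorem not_maximal_subgroupNormalizer (hF : Fintype.card F = 5 ^ 2) {R : Subgroup GLn}
    (hR : IsSymplecticTypeGroup 3 R) (habs : ActsAbsolutelyIrreducibly (matrixSet R))
    (hRU : R ≤ Cfsg.GU 3 F 5) (hRS : R ≤ specialLinear (Fin 3) F) (hc : Nat.card R = 27)
    (hz : Nat.card (Subgroup.center R) = 3) (H : Subgroup GLn)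
    (hHeq : H = subgroupNormalizer R ⊓ omegaU 3 F 5) :
    ¬ IsMaximalIn (omegaU 3 F 5) H := by
  classical
  intro hmax
  obtain ⟨t, hT⟩ := exists_isTF hF
  -- the data
  have hexp : ∀ g ∈ R, g ^ 3 = 1 := by
    intro g hg
    have he : Monoid.exponent R = 3 := by rw [hR.exponent_eq]; norm_num
    have := Monoid.pow_exponent_eq_one (⟨g, hg⟩ : R)
    rw [he] at this
    exact congrArg Subtype.val this
  have hd : Data 3 R := by
    refine ⟨Fintype.card_fin 3, Nat.prime_three, fun z hz _ => hexp z hz, fun a ha b hb => ?_, ?_⟩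
    · have hq : Nat.card (R ⧸ Subgroup.center R) = 3 ^ 2 := by
        have h := Subgroup.card_eq_card_quotient_mul_card_subgroup (Subgroup.center R)
        rw [hc, hz] at h
        omega
      haveI : Fact (Nat.Prime 3) := ⟨Nat.prime_three⟩
      let qa : R ⧸ Subgroup.center R := QuotientGroup.mk ⟨a, ha⟩
      let qb : R ⧸ Subgroup.center R := QuotientGroup.mk ⟨b, hb⟩
      have hab : qa * qb = qb * qa := IsPGroup.commutative_of_card_eq_prime_sq hq qa qb
      have hmem : (⟨a, ha⟩ * ⟨b, hb⟩ * (⟨a, ha⟩ : R)⁻¹ * (⟨b, hb⟩ : R)⁻¹ : R) ∈ Subgroup.center R := by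
        rw [← QuotientGroup.eq_one_iff]
        simp only [QuotientGroup.mk_mul, QuotientGroup.mk_inv]
        show qa * qb * qa⁻¹ * qb⁻¹ = 1
        rw [hab]; group
      obtain ⟨c, hcs⟩ := habs.2 ((a * b * a⁻¹ * b⁻¹ : GLn) : MM) (by
        rintro _ ⟨g, hg, rfl⟩
        have := congrArg (fun r : R => ((r : GLn) : MM)) (Subgroup.mem_center_iff.1 hmem ⟨g, hg⟩)
        simpa using this.symm)
      exact PrimeDim.SympType.val_mem_scalars_iff.2 ⟨c, hcs⟩
    · by_contra hcon
      push Not at hcon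
      have : Subgroup.center R = ⊤ := eq_top_iff.2 fun g _ =>
        Subgroup.mem_center_iff.2 fun k => Subtype.ext (hcon k k.2 g g.2)
      rw [this, Subgroup.card_top, hc] at hz
      omega
  obtain ⟨P, x, y, hx, hy, hp, hP, hxX, hyY⟩ := exists_heisenberg_frame hF hT hd hexp hRU
  -- every element of `R` is in the model
  have hword : ∀ g ∈ R, ∃ W ∈ R0, (g : MM) = real t P W := by
    intro g hg
    obtain ⟨a, b, c, ha, hb, hc', hgw⟩ := hd.exists_word hx hy hp hg
    obtain ⟨W, hW, he⟩ := List.any_eq_true.1 (word_mem ⟨a, ha⟩ ⟨b, hb⟩ ⟨c, hc'⟩)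
    refine ⟨W, hW, ?_⟩
    rw [real_congr P he, real_scM hT, real_mul hT, hgw, hxX, hyY]
    interval_cases a <;> interval_cases b <;> interval_cases c <;>
      simp [Xp, Yp, wp, real_one hT, real_mul hT, hT.phi_one, hT.phi_mul, pow_two, ← Matrix.mul_assoc]
  let L : Set VV := {z | ∃ s ∈ S6, ∃ a : F, a ≠ 0 ∧ z = a • J t P (dec s)}
  let St : Subgroup GLn :=
    { carrier := {h | ∀ x, x ∈ L ↔ (h : MM) *ᵥ x ∈ L}
      one_mem' := fun x => by simp
      mul_mem' := fun {a b} ha hb x => by rw [hb x, ha, Matrix.mulVec_mulVec, Units.val_mul]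
      inv_mem' := fun {a} ha x => by
        rw [ha (((a⁻¹ : GLn) : MM) *ᵥ x), Matrix.mulVec_mulVec, ← Units.val_mul,
          mul_inv_cancel, Units.val_one, Matrix.one_mulVec] }
  have hmem : ∀ (h : GLn) (m : Mat), (h : MM) = real t P m → okStab6 m = true → h ∈ St := by
    intro h m hm hok x
    have hh : ∀ x ∈ L, (h : MM) *ᵥ x ∈ L := fun x hx => hm ▸ mapsTo_okStab6 hT P m hok x hx
    refine ⟨hh x, fun hx => ?_⟩
    have hinj' := Cfsg.Agent.Lib.KnownA.PrimeDim.mulVec_injective h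
    let r : L → L := fun z => ⟨(h : MM) *ᵥ (z : VV), hh z z.2⟩
    have hr : Function.Injective r := fun a b hab => Subtype.ext (hinj' (congrArg Subtype.val hab))
    obtain ⟨z, hz'⟩ := Finite.injective_iff_surjective.1 hr ⟨_, hx⟩
    exact (hinj' (congrArg Subtype.val hz')) ▸ z.2
  have mkU : ∀ m : Mat, isInv m = true → det3 m = 1 → ∃ g ∈ omegaU 3 F 5, (g : MM) = real t P m := by
    intro m hm hdet
    simp only [isInv, Bool.and_eq_true] at hm
    have h1 : real t P m * real t P (adjM m) = 1 := by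
      rw [← real_mul hT, real_congr P hm.1, real_one hT]
    have h2 : real t P (adjM m) * real t P m = 1 := by
      rw [← real_mul hT, real_congr P hm.2, real_one hT]
    refine ⟨⟨_, _, h1, h2⟩, Subgroup.mem_inf.2 ⟨real_isometry hT P hP m ?_, Units.ext ?_⟩, rfl⟩
    · intro i j
      have h := eq_of_eqM hm.2 j i
      refine hT.phi_inj ?_
      have h' := congrArg (phi t) h
      simp only [mm, adjM, hT.phi_s3, hT.phi_mul, hT.phi_cj] at h'
      simp only [hf, hT.phi_s3, hT.phi_mul, hT.phi_cj, idM, @eq_comm _ i j] at h' ⊢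
      rw [← h']
      exact Finset.sum_congr rfl fun k _ => mul_comm _ _
    · show (real t P m).det = 1
      rw [det_real hT, hdet, hT.phi_one]
  have hHM : H ≤ St ⊓ omegaU 3 F 5 := by
    intro h hh
    rw [hHeq] at hh
    obtain ⟨hN, hhΩ⟩ := hh
    refine ⟨?_, hhΩ⟩
    have hconjR : ∀ r ∈ R, ∃ W ∈ R0, (h : MM) * (r : MM) = real t P W * (h : MM) := by
      intro r hr
      obtain ⟨W, hW, e⟩ := hword _ ((Subgroup.mem_normalizer_iff.1 hN r).1 hr)
      refine ⟨W, hW, ?_⟩
      rw [← e, ← Units.val_mul, ← Units.val_mul]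
      congr 1
      group
    obtain ⟨W, hW, hhx⟩ := hconjR x hx
    have hW' := List.all_eq_true.1 ms_ok W hW
    rcases Bool.or_eq_true_iff.1 hW' with hs | hs
    · exfalso
      rw [real_congr P hs, real_scM hT, real_one hT, Matrix.smul_mul, Matrix.one_mul] at hhx
      have hxs : (x : MM) = phi t (W 0 0) • (1 : MM) := by
        have h1 := congrArg (fun Z : MM => ((h⁻¹ : GLn) : MM) * Z) hhx
        simpa [← Matrix.mul_assoc] using h1
      have h2 := hp.rel
      rw [hxs] at h2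
      simp only [Matrix.smul_mul, Matrix.mul_smul, Matrix.one_mul, Matrix.mul_one, smul_smul] at h2
      have h3 : (1 - phi t w6) • (phi t (W 0 0) • (y : MM)) = 0 := by
        rw [sub_smul, one_smul, smul_smul, ← h2, sub_self]
      rcases smul_eq_zero.1 h3 with h4 | h4
      · exact hp.root.ne_one (by norm_num) (sub_eq_zero.1 h4).symm
      · rcases smul_eq_zero.1 h4 with h5 | h5
        · exact x.ne_zero (by rw [hxs, h5, zero_smul])
        · exact y.ne_zero h5
    obtain ⟨m, -, hm⟩ := List.any_eq_true.1 hs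
    simp only [good, Bool.and_eq_true, decide_eq_true_eq] at hm
    obtain ⟨hmW, hminv, hmdet, hmok, hmall⟩ := hm
    obtain ⟨g, hgΩ, hg⟩ := mkU m hminv hmdet
    -- `g * h` centralises `x` and normalises
    have hcx : ((g * h : GLn) : MM) * (x : MM) = (x : MM) * ((g * h : GLn) : MM) := by
      rw [Units.val_mul, hg, Matrix.mul_assoc, hhx, ← Matrix.mul_assoc, ← real_mul hT, real_congr P hmW,
        real_mul hT, hxX, Matrix.mul_assoc]
    obtain ⟨W1, hW1, hhy⟩ := hconjR y hy
    obtain ⟨W2, hW2, hW2e⟩ := List.any_eq_true.1 (List.all_eq_true.1 hmall W1 hW1)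
    have hcy : ((g * h : GLn) : MM) * (y : MM) = real t P W2 * ((g * h : GLn) : MM) := by
      rw [Units.val_mul, hg, Matrix.mul_assoc, hhy, ← Matrix.mul_assoc, ← real_mul hT, real_congr P hW2e,
        real_mul hT, Matrix.mul_assoc]
    obtain ⟨Dm, hDm⟩ := exists_real hT P ((g * h : GLn) : MM)
    have hghΩ : g * h ∈ omegaU 3 F 5 := mul_mem hgΩ hhΩ
    rw [← hDm, hxX, ← real_mul hT, ← real_mul hT] at hcx
    have hrow : ∀ i j, i ≠ j → Dm i j = 0 := by
      intro i j hij
      have h1 := real_inj hT P hcx i j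
      have hr : Dm i = ![Dm i 0, Dm i 1, Dm i 2] := by funext k; fin_cases k <;> rfl
      have hcl : (fun k => Dm k j) = ![Dm 0 j, Dm 1 j, Dm 2 j] := by funext k; fin_cases k <;> rfl
      have e1 := (mm_X6 i j (Dm i 0) (Dm i 1) (Dm i 2)).1
      have e2 := (mm_X6 i j (Dm 0 j) (Dm 1 j) (Dm 2 j)).2
      rw [← hr] at e1
      rw [← hcl] at e2
      simp only [mm, e1, e2] at h1
      exact eq_zero_of_comm i j _ hij h1
    have hn : ∀ j, Dm j j ∈ n1 := by
      intro j
      refine norm_one _ (hT.phi_inj ?_)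
      have hu : f (((g * h : GLn) : MM) *ᵥ J t P (unit j)) (((g * h : GLn) : MM) *ᵥ J t P (unit j)) =
          f (J t P (unit j)) (J t P (unit j)) := hghΩ.1 _ _
      rw [← hDm, real_act hT, herm_frame hT P hP, herm_frame hT P hP] at hu
      simp only [hf, mv, hT.phi_s3, hT.phi_mul, hT.phi_cj, Fin.sum_univ_three] at hu
      rw [hT.phi_mul, hT.phi_cj, hT.phi_one]
      fin_cases j <;>
        simpa [unit, hT.phi_one, hT.phi_zero, hrow 0 1, hrow 0 2, hrow 1 0, hrow 1 2, hrow 2 0, hrow 2 1] using hu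
    have hdet1 : mul (mul (Dm 0 0) (Dm 1 1)) (Dm 2 2) = 1 := by
      refine hT.phi_inj ?_
      have hd' : ((g * h : GLn) : MM).det = 1 := congrArg Units.val hghΩ.2
      rw [← hDm, det_real hT] at hd'
      rw [hT.phi_one, ← hd']
      simp [det3, hT.phi_add, hT.phi_mul, hT.phi_neg, hT.phi_zero, hrow 0 1, hrow 0 2, hrow 1 0, hrow 1 2,
        hrow 2 0, hrow 2 1]
    have hDg : Dm = diagM (Dm 0 0) (Dm 1 1) := by
      funext i j
      have := det_unique _ (hn 0) _ (hn 1) _ (hn 2) hdet1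
      fin_cases i <;> fin_cases j <;>
        simp [diagM, hrow 0 1, hrow 0 2, hrow 1 0, hrow 1 2, hrow 2 0, hrow 2 1] <;> exact this
    have hok : okStab6 (diagM (Dm 0 0) (Dm 1 1)) = true := by
      refine diag_ok _ (hn 0) _ (hn 1) (List.any_eq_true.2 ⟨W2, hW2, ?_⟩)
      rw [← hDm, hyY, ← real_mul hT, ← real_mul hT] at hcy
      rw [← hDg]
      simpa [eqM] using real_inj hT P hcy
    have hgh : g * h ∈ St := hmem _ _ (hDm.symm.trans (congrArg (real t P) hDg)) hok
    have hgSt : g ∈ St := hmem g m hg hmok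
    simpa using St.mul_mem (St.inv_mem hgSt) hgh
  have hG := G6_ok
  simp only [Bool.and_eq_true, decide_eq_true_eq] at hG
  obtain ⟨Gg, hGΩ, hGg⟩ := mkU G6 hG.1 hG.2.1
  have isinvA : isInv A = true := by decide +kernel
  obtain ⟨Ag, hAΩ, hAg⟩ := mkU A isinvA det_A
  rcases hmax.2 _ hHM inf_le_right with h | h
  · have hGH : Gg ∈ H := h ▸ ⟨hmem Gg G6 hGg hG.2.2, hGΩ⟩
    rw [hHeq] at hGH
    obtain ⟨W, hW, e⟩ := hword _ ((Subgroup.mem_normalizer_iff.1 hGH.1 x).1 hx)
    have e2 : real t P (mm G6 X6) = real t P (mm W G6) := by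
      rw [real_mul hT, real_mul hT, ← hGg, ← hxX, ← e, ← Units.val_mul, ← Units.val_mul]
      congr 1
      group
    have hn := List.all_eq_true.1 G6_not_normalizing W hW
    simp only [Bool.not_eq_true', eqM, decide_eq_false_iff_not] at hn
    exact hn (real_inj hT P e2)
  · have hA' : Ag ∈ St ⊓ omegaU 3 F 5 := by rw [h]; exact hAΩ
    obtain ⟨s, hs, a, ha, hEq⟩ : real t P A *ᵥ J t P (dec bad6) ∈ L := hAg ▸
      ((Subgroup.mem_inf.1 hA').1 _).1 ⟨bad6, bad6_mem, 1, one_ne_zero, (one_smul _ _).symm⟩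
    obtain ⟨b, hb⟩ := hT.phi_surj a⁻¹
    rw [real_act hT] at hEq
    have h2 : smulV b (mv A (dec bad6)) = dec s := J_inj hT P (by
      rw [J_smul hT, hEq, hb, smul_smul, inv_mul_cancel₀ ha, one_smul])
    have hm := moved6 b
    rw [h2, code_dec6 s hs, List.contains_iff_mem.2 hs] at hm
    exact Bool.noConfusion hm

end Cfsg.Agent.Lib.UnitPrimeDim.ThreeFive.Six
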