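import Cfsg.Agent.Lib.UnitPrimeDim.ThreeFiveModel

/-!
A set of lines stabilised by the orthogonal group over the prime field and by one further element
of the three-dimensional unitary group over the field with 25 elements.
-/

set_option autoImplicit false

namespace Cfsg.Agent.Lib.UnitPrimeDim.ThreeFive.SubModel

def S : List ℕ :=
  [625, 25, 650, 2525, 7525, 8150, 10650, 11275, 1, 626, 2501, 7501, 8126, 10626, 11251, 26,
    651, 1276, 1901, 2526, 6276, 9401, 676, 1301, 1926, 2551, 701, 1326, 1951, 2576, 101, 726,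
    1351, 1976, 2601, 6351, 9476, 3251, 12626, 5776, 8276, 10776, 13276, 8301, 10801, 7701,
    11451, 3976, 7726, 11476, 15226, 876, 2751, 9026, 10276, 301, 5301, 5926, 8426, 10926,
    13426, 14051, 326, 4076, 4701, 7826, 11576, 14701, 15326, 7226, 12226, 1001, 2876, 7276,
    12276, 426, 4176, 4801, 7926, 11676, 14801, 15426, 451, 5451, 6076, 8576, 11076, 13576,
    14201, 9226, 10476, 3626, 13001, 4276, 8026, 11776, 15526, 8051, 11801, 8701, 11201, 6226,
    8726, 11226, 13726]

def unitCodes : List ℕ :=
  [625, 2500, 25, 100, 1, 1276, 1901, 676, 2551, 701, 2576, 1351, 1976, 652, 2527, 727, 2602,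
    653, 2528, 728, 2603, 4, 1279, 1904, 679, 2554, 704, 2579, 1354, 1979]

def T : Mat := ![![2, 16, 21], ![11, 0, 14], ![6, 19, 2]]
def A : Mat := ![![2, 2, 11], ![2, 2, 19], ![16, 14, 0]]

def moveCode : ℕ := 25

def okVec (v : Vec) : Bool :=
  decide (lead v ≠ 0) && S.contains (code (smulV (invE (lead v)) v))

def okStab (m : Mat) : Bool := S.all fun s => okVec (mv m (dec s))

def colM (a b c : Vec) : Mat := fun i j => (![a, b, c] : Fin 3 → Vec) j i

def cross (a b : Vec) : Vec :=
  ![add (mul (a 1) (b 2)) (neg (mul (a 2) (b 1))), add (mul (a 2) (b 0)) (neg (mul (a 0) (b 2))),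
    add (mul (a 0) (b 1)) (neg (mul (a 1) (b 0)))]

def soCheck (a b : ℕ) : Bool :=
  if hf (dec a) (dec b) = 0 then
    okStab (colM (dec a) (dec b) (cross (dec a) (dec b))) && unitCodes.all fun c =>
      !(hf (dec c) (dec a) == 0 && hf (dec c) (dec b) == 0 &&
        det3 (colM (dec a) (dec b) (dec c)) == 1) || code (cross (dec a) (dec b)) == c
  else true

theorem so_ok : (unitCodes.all fun a => unitCodes.all fun b => soCheck a b) = true := by
  decide +kernel

theorem unit_complete : ∀ a b c : Fin 5,
    hf ![⟨a, by omega⟩, ⟨b, by omega⟩, ⟨c, by omega⟩] ![⟨a, by omega⟩, ⟨b, by omega⟩, ⟨c, by omega⟩] = 1 →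
    code ![⟨a, by omega⟩, ⟨b, by omega⟩, ⟨c, by omega⟩] ∈ unitCodes := by
  decide +kernel

theorem okStab_T : okStab T = true := by decide +kernel
theorem mem_moveCode : moveCode ∈ S := by decide +kernel
theorem moved : ∀ a : E, S.contains (code (smulV a (mv A (dec moveCode)))) = false := by
  decide +kernel
theorem code_dec : ∀ s ∈ S, code (dec s) = s := by decide +kernel
theorem isu_T : isu T := by unfold isu; decide +kernel
theorem isu_A : isu A := by unfold isu; decide +kernel
theorem det_T : det3 T = 1 := by decide +kernel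
theorem det_A : det3 A = 1 := by decide +kernel
theorem sq_T : ∀ i j, mm T T i j = idM i j := by decide +kernel
theorem sq_A : ∀ i j, mm A A i j = idM i j := by decide +kernel
theorem T_not_rational : ∀ a : E, a ≠ 0 → ∃ i j, 5 ≤ (mul a (T i j) : ℕ) := by decide +kernel

end Cfsg.Agent.Lib.UnitPrimeDim.ThreeFive.SubModel
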