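import Cfsg.Agent.Lib.UnitPrimeDim.ThreeFive
import Cfsg.Agent.Lib.UnitPrimeDim.ThreeFiveSubModel
import Cfsg.Agent.Lib.PrimeDim.OrthProper

/-!
For `q = 5` the index two subfield group of `SU₃(q)` is not maximal: it stabilises a set of 105 lines.
-/

set_option autoImplicit false
set_option linter.unusedSimpArgs false
set_option linter.unusedSectionVars false
set_option maxHeartbeats 1000000

namespace Cfsg.Agent.Lib.UnitPrimeDim.ThreeFive.SubField

open scoped Matrix
open Cfsg.Geo

local notation "Z5" => ZMod 5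
local notation "V5" => Fin 3 → ZMod 5

/-- representatives of the lines of the three-space over five elements -/
def pts₁ : List V5 :=
  [![0,0,1]] ++ (List.finRange 5).map (fun b => ![0, 1, ((b : ℕ) : Z5)]) ++
    (List.finRange 5).flatMap fun a => (List.finRange 5).map fun b => ![1, ((a : ℕ) : Z5), ((b : ℕ) : Z5)]

/-- representatives of the vectors up to sign -/
def pts : List V5 := pts₁ ++ pts₁.map fun v => ![2 * v 0, 2 * v 1, 2 * v 2]

/-- a diagonal form -/
def dg (d u v : V5) : Z5 := d 0 * u 0 * v 0 + d 1 * u 1 * v 1 + d 2 * u 2 * v 2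

theorem frames : ∀ a b c : Z5, a ≠ 0 → b ≠ 0 → c ≠ 0 → ∃ m : Z5, m ≠ 0 ∧
    ∃ x ∈ pts.filter (fun w => decide (dg ![a, b, c] w w = m)),
    ∃ y ∈ pts.filter (fun w => decide (dg ![a, b, c] w w = m)), dg ![a, b, c] x y = 0 ∧
    ∃ z ∈ pts.filter (fun w => decide (dg ![a, b, c] w w = m)), dg ![a, b, c] x z = 0 ∧ dg ![a, b, c] y z = 0 := by
  decide +kernel

theorem two_ne : (2 : Z5) ≠ 0 := by decide
theorem pow_four : ∀ a : Z5, a ≠ 0 → a ^ 4 = 1 := by decide

/-- the embedding of the prime field in the model -/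
def emb (z : Z5) : E := ⟨z.val, lt_trans z.val_lt (by norm_num)⟩

theorem emb_zero : emb 0 = 0 := by decide

variable {F : Type*} [Field F] [Fintype F] {t : F}

local notation "f" => Cfsg.hermForm 3 F 5
local notation "MM" => Matrix (Fin 3) (Fin 3) F
local notation "GLn" => Matrix.GeneralLinearGroup (Fin 3) F
local notation "VV" => (Fin 3 → F)

/-- the lines -/
def lines (t : F) (P : GLn) : Set VV := {x | ∃ s ∈ SubModel.S, ∃ a : F, a ≠ 0 ∧ x = a • J t P (dec s)}

theorem mapsTo_of_okStab (hT : IsTF t) (P : GLn) (m : Mat) (hm : SubModel.okStab m = true) :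
    ∀ x ∈ lines t P, real t P m *ᵥ x ∈ lines t P := by
  rintro _ ⟨s, hs, a, ha, rfl⟩
  have := List.all_eq_true.1 hm s hs
  simp only [SubModel.okVec, Bool.and_eq_true, decide_eq_true_eq] at this
  obtain ⟨hl, hmem⟩ := this
  set b := invE (lead (mv m (dec s)))
  have hb0 : phi t b ≠ 0 := fun h0 => inv_ne _ hl (hT.phi_eq_zero b h0)
  refine ⟨_, List.contains_iff_mem.1 hmem, a / phi t b, div_ne_zero ha hb0, ?_⟩
  rw [dec_code, J_smul hT, smul_smul, div_mul_cancel₀ a hb0, Matrix.mulVec_smul, real_act hT]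

theorem smul_mem_lines {P : GLn} {z : F} (hz : z ≠ 0) {x : VV} (hx : x ∈ lines t P) : z • x ∈ lines t P := by
  obtain ⟨s, hs, a, ha, rfl⟩ := hx
  exact ⟨s, hs, z * a, mul_ne_zero hz ha, smul_smul _ _ _⟩

/-- **The exception**: for `q = 5` the index two subfield group is not maximal. -/
theorem not_maximal_subfieldSubgroup (hF : Fintype.card F = 5 ^ 2) {F0 : Subfield F} (P : GLn)
    (hc : Fintype.card F = Nat.card F0 ^ 2) (hP : IsFormRationalStructure f F0 1 P)
    (H : Subgroup GLn) (hHeq : H = subfieldSubgroup F0 P ⊓ omegaU 3 F 5) :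
    ¬ IsMaximalIn (omegaU 3 F 5) H := by
  classical
  intro hmax
  haveI : Fact (Nat.Prime 5) := ⟨by norm_num⟩
  obtain ⟨t, hT⟩ := exists_isTF hF
  haveI := hT.charP
  let φ : Z5 →+* F := ZMod.castHom (dvd_refl 5) F
  have hφi : Function.Injective φ := φ.injective
  have hφF : ∀ z, φ z ∈ F0 := fun z => by
    rw [← ZMod.natCast_zmod_val z, map_natCast]
    exact natCast_mem F0 _
  have hsurj : ∀ x ∈ F0, ∃ z, φ z = x := by
    have hcard : Nat.card F0 = 5 := Nat.pow_left_injective two_ne_zero (hc.symm.trans hF)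
    have hb : Function.Bijective fun z : Z5 => (⟨φ z, hφF z⟩ : F0) := by
      refine (Nat.bijective_iff_injective_and_card _).2 ⟨fun x y h => hφi (congrArg Subtype.val h), ?_⟩
      rw [Nat.card_zmod, hcard]
    intro x hx
    obtain ⟨z, hz⟩ := hb.2 ⟨x, hx⟩
    exact ⟨z, congrArg Subtype.val hz⟩
  have hemb : ∀ z, phi t (emb z) = φ z := fun z => by
    have h5 : z.val < 5 := z.val_lt
    conv_rhs => rw [← ZMod.natCast_zmod_val z, map_natCast]
    simp [phi, emb, Nat.mod_eq_of_lt h5, Nat.div_eq_of_lt h5]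
  have hφ5 : ∀ z, φ z ^ 5 = φ z := fun z => by rw [← map_pow, ZMod.pow_card]
  have haddr : ∀ x a b : VV, f x (a + b) = f x a + f x b := fun x a b => map_add (hermRight hF x) a b
  -- the form on the prime-field span
  let em : V5 → VV := fun v => φ ∘ v
  choose G hG using fun i j : Fin 3 => hsurj _ (by
    have h := hP (em (Pi.single i 1)) (em (Pi.single j 1)) (fun _ => hφF _) (fun _ => hφF _)
    rwa [one_mul] at h)
  have hsym : ∀ i j, G j i = G i j := fun i j => hφi (by rw [hG, ← herm_symm hF, ← hG i j, hφ5])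
  have hem : ∀ v, em v = ∑ i, φ (v i) • em (Pi.single i 1) := fun v => by
    funext k
    simp [em, Pi.single_apply, Finset.sum_apply, apply_ite φ]
  let B := Matrix.toBilin' (Matrix.of G)
  have hB : ∀ u v, φ (B u v) = f ((P : MM) *ᵥ em u) ((P : MM) *ᵥ em v) := fun u v => by
    rw [hem u, hem v]
    simp only [Matrix.mulVec_add, Matrix.mulVec_smul, Fin.sum_univ_three, herm_add_left, haddr, herm_smul_left,
      herm_smul_right, ← hG, hφ5, B, Matrix.toBilin'_apply, map_add, map_mul, Matrix.of_apply]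
    ring
  haveI : Invertible (2 : Z5) := invertibleOfNonzero two_ne
  obtain ⟨w₀, hw₀⟩ := LinearMap.BilinForm.exists_orthogonal_basis (B := B)
    ⟨fun u v => hφi (by rw [RingHom.id_apply, hB v u, ← herm_symm hF, ← hB, hφ5])⟩
  let w : Fin 3 → V5 := fun i => w₀ (Fin.cast (Module.finrank_fin_fun Z5).symm i)
  have hworth : ∀ i j, i ≠ j → B (w i) (w j) = 0 := fun i j hij =>
    hw₀ (fun h => hij (Fin.cast_injective _ h))
  have hnd : ∀ u, u ≠ 0 → ∃ v, B u v ≠ 0 := by
    intro u hu
    by_contra hcon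
    push Not at hcon
    have h0 : (P : MM) *ᵥ em u = 0 := by
      refine herm_nondeg hF fun x => ?_
      obtain ⟨y, rfl⟩ : ∃ y, (P : MM) *ᵥ y = x := ⟨((P⁻¹ : GLn) : MM) *ᵥ x, by
        rw [Matrix.mulVec_mulVec, ← Units.val_mul, mul_inv_cancel, Units.val_one, Matrix.one_mulVec]⟩
      apply herm_eq_zero_symm hF
      have hy : y = ∑ i, y i • em (Pi.single i 1) := by
        funext k; simp [em, Pi.single_apply, Finset.sum_apply, apply_ite φ]
      rw [hy]
      simp only [Matrix.mulVec_add, Matrix.mulVec_smul, Fin.sum_univ_three, haddr, herm_smul_right, ← hB, hcon,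
        map_zero, mul_zero, add_zero]
    exact hu (funext fun k => hφi (by
      rw [Pi.zero_apply, map_zero]
      exact congrFun (Cfsg.Agent.Lib.KnownA.PrimeDim.mulVec_injective P (h0.trans (Matrix.mulVec_zero _).symm)) k))
  have hwd : ∀ i, B (w i) (w i) ≠ 0 := fun i h => by
    obtain ⟨v, hv⟩ := hnd (w i) (w₀.ne_zero _)
    apply hv
    rw [← w₀.sum_repr v, map_sum]
    refine Finset.sum_eq_zero fun k _ => ?_
    rw [map_smul]
    obtain ⟨j, rfl⟩ : ∃ j, Fin.cast (Module.finrank_fin_fun Z5).symm j = k :=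
      ⟨Fin.cast (Module.finrank_fin_fun Z5) k, by simp⟩
    rcases eq_or_ne i j with rfl | hij
    · rw [show B (w i) (w₀ _) = B (w i) (w i) from rfl, h, smul_zero]
    · rw [show B (w i) (w₀ _) = B (w i) (w j) from rfl, hworth i j hij, smul_zero]
  obtain ⟨m, hm, x, hx, y, hy, hxy, z, hz, hxz, hyz⟩ :=
    frames (B (w 0) (w 0)) (B (w 1) (w 1)) (B (w 2) (w 2)) (hwd 0) (hwd 1) (hwd 2)
  have hxx := (List.mem_filter.1 hx).2
  have hyy := (List.mem_filter.1 hy).2
  have hzz := (List.mem_filter.1 hz).2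
  rw [decide_eq_true_eq] at hxx hyy hzz
  let u : Fin 3 → V5 := fun i => ∑ k, (![x, y, z] i k) • w k
  have hBu : ∀ i j, B (u i) (u j) = dg ![B (w 0) (w 0), B (w 1) (w 1), B (w 2) (w 2)] (![x, y, z] i) (![x, y, z] j) := by
    intro i j
    simp only [u, Fin.sum_univ_three, map_add, map_smul, LinearMap.add_apply, LinearMap.smul_apply, smul_eq_mul,
      hworth 0 1 (by decide), hworth 0 2 (by decide), hworth 1 0 (by decide), hworth 1 2 (by decide),
      hworth 2 0 (by decide), hworth 2 1 (by decide), dg, Matrix.cons_val_zero, Matrix.cons_val_one, Matrix.cons_val]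
    ring
  have hBm : ∀ i j, B (u i) (u j) = if i = j then m else 0 := by
    have hc : ∀ (d a b : V5), dg d a b = dg d b a := fun d a b => by simp only [dg]; ring
    intro i j
    rw [hBu]
    fin_cases i <;> fin_cases j <;> simp [hxx, hyy, hzz, hxy, hxz, hyz, hc _ y x, hc _ z x, hc _ z y]
  -- normalising
  have hφm : φ m ≠ 0 := fun h => hm (hφi (by rw [h, map_zero]))
  obtain ⟨e, he⟩ := hT.phi_surj (φ m)
  obtain ⟨c', hc'⟩ := norm_surj e (fun h => hφm (by rw [← he, h, hT.phi_zero]))
    (hT.phi_inj (by rw [hT.phi_cj, he, hφ5]))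
  have hc'' := congrArg (phi t) hc'
  rw [hT.phi_mul, hT.phi_mul, hT.phi_cj, hT.phi_one, he] at hc''
  set c := phi t c' with hcdef
  have hc0 : c ≠ 0 := fun h => by rw [h, zero_mul, zero_mul] at hc''; exact zero_ne_one hc''
  let Pm : MM := Matrix.of fun i j => (c • ((P : MM) *ᵥ em (u j))) i
  have hPlin : ∀ a, Pm *ᵥ a = a 0 • (c • ((P : MM) *ᵥ em (u 0))) + a 1 • (c • ((P : MM) *ᵥ em (u 1))) +
      a 2 • (c • ((P : MM) *ᵥ em (u 2))) := fun a => by
    ext i
    simp [Pm, Matrix.mulVec, dotProduct, Fin.sum_univ_three, mul_comm]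
  have hiso : ∀ a b : VV, f (Pm *ᵥ a) (Pm *ᵥ b) = f a b := by
    intro a b
    simp only [hPlin, herm_add_left, haddr, herm_smul_left, herm_smul_right, ← hB, hBm, Fin.reduceEq,
      if_true, if_false, map_zero]
    simp only [Cfsg.hermForm, Fin.sum_univ_three]
    linear_combination (a 0 * b 0 ^ 5 + a 1 * b 1 ^ 5 + a 2 * b 2 ^ 5) * hc''
  have hinj : Function.Injective Pm.mulVec := by
    intro a b hab
    refine sub_eq_zero.1 (herm_nondeg hF fun x => ?_)
    rw [← hiso, Matrix.mulVec_sub, sub_eq_zero.2 hab]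
    simp [Cfsg.hermForm]
  obtain ⟨P', hP'eq⟩ := Matrix.mulVec_injective_iff_isUnit.1 hinj
  have hP' : ∀ a b : VV, f ((P' : MM) *ᵥ a) ((P' : MM) *ᵥ b) = f a b := by rw [hP'eq]; exact hiso
  let C : Matrix (Fin 3) (Fin 3) Z5 := Matrix.of fun i j => u j i
  have hPC : (P' : MM) = c • ((P : MM) * C.map φ) := by
    rw [hP'eq]
    ext i j
    simp [Pm, C, em, Matrix.mul_apply, Matrix.mulVec, dotProduct]
  have hC0 : C.det ≠ 0 := fun h => by
    have h1 : (P' : MM).det = 0 := by
      rw [hPC, Matrix.det_smul, Matrix.det_mul, ← RingHom.mapMatrix_apply, ← RingHom.map_det, h, map_zero, mul_zero,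
        mul_zero]
    exact ((Matrix.isUnit_iff_isUnit_det _).1 P'.isUnit).ne_zero h1
  -- the subgroup of elements preserving the lines
  let L : Set VV := lines t P'
  let St : Subgroup GLn :=
    { carrier := {h | ∀ x, x ∈ L ↔ (h : MM) *ᵥ x ∈ L}
      one_mem' := fun x => by simp
      mul_mem' := fun {a b} ha hb x => by rw [hb x, ha, Matrix.mulVec_mulVec, Units.val_mul]
      inv_mem' := fun {a} ha x => by
        rw [ha (((a⁻¹ : GLn) : MM) *ᵥ x), Matrix.mulVec_mulVec, ← Units.val_mul,
          mul_inv_cancel, Units.val_one, Matrix.one_mulVec] }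
  have hmem : ∀ h : GLn, (∀ x ∈ L, (h : MM) *ᵥ x ∈ L) → h ∈ St := by
    intro h hh x
    refine ⟨hh x, fun hx => ?_⟩
    have hinj' := Cfsg.Agent.Lib.KnownA.PrimeDim.mulVec_injective h
    let r : L → L := fun y => ⟨(h : MM) *ᵥ (y : VV), hh y y.2⟩
    have hr : Function.Injective r := fun a b hab => Subtype.ext (hinj' (congrArg Subtype.val hab))
    obtain ⟨y, hy⟩ := Finite.injective_iff_surjective.1 hr ⟨_, hx⟩
    have := hinj' (congrArg Subtype.val hy)
    exact this ▸ y.2
  -- an element of the subfield group in the frame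
  have hrat : ∀ h ∈ H, ∃ (z : F) (M : Matrix (Fin 3) (Fin 3) Z5), z ≠ 0 ∧
      (h : MM) = z • real t P' (fun i j => emb (M i j)) := by
    intro h hh
    rw [hHeq] at hh
    obtain ⟨z, A₀, hA₀⟩ := Cfsg.Agent.Lib.PrimeDim.OrthProper.exists_of_mem_subfieldSubgroup hh.1
    choose A' hA' using fun i j => hsurj (((A₀ : Matrix (Fin 3) (Fin 3) F0) i j : F0) : F) (Subtype.coe_prop _)
    have hmap : (A₀ : Matrix (Fin 3) (Fin 3) F0).map F0.subtype = (Matrix.of A').map φ := by
      ext i j; exact (hA' i j).symm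
    refine ⟨z, C⁻¹ * Matrix.of A' * C, z.ne_zero, ?_⟩
    have hM : C * (C⁻¹ * Matrix.of A' * C) = Matrix.of A' * C := by
      rw [← Matrix.mul_assoc, ← Matrix.mul_assoc, Matrix.mul_nonsing_inv _ (isUnit_iff_ne_zero.2 hC0), Matrix.one_mul]
    have hof : (Matrix.of fun i j => phi t ((fun i j => emb ((C⁻¹ * Matrix.of A' * C) i j)) i j) : MM) =
        (C⁻¹ * Matrix.of A' * C).map φ := by
      ext i j; exact hemb _
    rw [real, hof]
    have h2 : (h : MM) * (P : MM) = (z : F) • ((P : MM) * (Matrix.of A').map φ) := by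
      rw [← hmap, ← Matrix.mul_smul, ← hA₀, ← Units.val_mul, ← Units.val_mul]
      congr 1
      group
    have h3 : (h : MM) * (P' : MM) = (z : F) • ((P' : MM) * (C⁻¹ * Matrix.of A' * C).map φ) := by
      rw [hPC, Matrix.mul_smul, ← Matrix.mul_assoc, h2, Matrix.smul_mul, Matrix.smul_mul, Matrix.mul_assoc,
        Matrix.mul_assoc (P : MM) (C.map φ), ← Matrix.map_mul, ← Matrix.map_mul, hM, smul_comm]
    calc (h : MM) = (h : MM) * (P' : MM) * ((P'⁻¹ : GLn) : MM) := by
          rw [Matrix.mul_assoc, ← Units.val_mul, mul_inv_cancel, Units.val_one, Matrix.mul_one]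
      _ = _ := by rw [h3, Matrix.smul_mul]
  have hHM : H ≤ St ⊓ omegaU 3 F 5 := by
    intro h hh
    have hhΩ : h ∈ omegaU 3 F 5 := by rw [hHeq] at hh; exact hh.2
    refine ⟨hmem h fun x hx => ?_, hhΩ⟩
    obtain ⟨z, M, hz, hzM⟩ := hrat h hh
    have hd : z ^ 3 * φ M.det = 1 := by
      have h1 : (h : MM).det = 1 := congrArg Units.val hhΩ.2
      have hof : (Matrix.of fun i j => phi t (emb (M i j)) : MM) = M.map φ := by ext i j; exact hemb _
      rw [hzM, Matrix.det_smul, Fintype.card_fin, real, hof, Matrix.det_mul_right_comm, ← Units.val_mul,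
        mul_inv_cancel, Units.val_one, Matrix.one_mul, ← RingHom.mapMatrix_apply, ← RingHom.map_det] at h1
      exact h1
    have hM0 : M.det ≠ 0 := fun h => by rw [h, map_zero, mul_zero] at hd; exact zero_ne_one hd
    have h4 := pow_four
    -- the Gram relation
    have hgram : ∀ i j, ∑ k, M k i * M k j = if i = j then (M.det ^ 2) else 0 := by
      intro i j
      have hu : f ((h : MM) *ᵥ J t P' (unit i)) ((h : MM) *ᵥ J t P' (unit j)) = f (J t P' (unit i)) (J t P' (unit j)) :=
        hhΩ.1 _ _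
      rw [hzM, Matrix.smul_mulVec, Matrix.smul_mulVec, real_act hT, real_act hT, herm_smul_left, herm_smul_right,
        herm_frame hT P' hP', herm_frame hT P' hP'] at hu
      have hcol : ∀ l k, phi t (mv (fun i j => emb (M i j)) (unit l) k) = φ (M k l) := fun l k => by
        simp only [mv, hT.phi_s3, hT.phi_mul, hemb]
        rw [Finset.sum_eq_single l (fun b _ hb => by simp [unit, hb, hT.phi_zero]) (by simp)]
        simp [unit, hT.phi_one]
      have hij : phi t (hf (unit i) (unit j)) = φ (if i = j then 1 else 0) := by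
        simp only [hf, hT.phi_s3, hT.phi_mul, hT.phi_cj, Fin.sum_univ_three]
        fin_cases i <;> fin_cases j <;> simp [unit, hT.phi_one, hT.phi_zero]
      rw [hij] at hu
      simp only [hf, hT.phi_s3, hT.phi_mul, hT.phi_cj, hcol, hφ5, ← map_mul, ← map_sum] at hu
      have hz6 : z * z ^ 5 = φ (M.det ^ 2) := by
        have e1 : φ M.det ^ 4 = 1 := by rw [← map_pow, h4 _ hM0, map_one]
        rw [map_pow]
        linear_combination (φ M.det ^ 2 * (z ^ 3 * φ M.det + 1)) * hd - z ^ 6 * e1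
      rw [← mul_assoc, hz6, ← map_mul] at hu
      have h5 := hφi hu
      have h6 := h4 _ hM0
      split_ifs at h5 ⊢ with hij'
      · linear_combination (M.det ^ 2) * h5 - (∑ k, M k i * M k j) * h6
      · linear_combination (M.det ^ 2) * h5 - (∑ k, M k i * M k j) * h6
    set M₁ : Matrix (Fin 3) (Fin 3) Z5 := M.det • M with hM₁
    have hdet : M₁.det = 1 := by
      rw [hM₁, Matrix.det_smul, Fintype.card_fin, ← pow_succ]; exact h4 _ hM0
    have horth : ∀ i j, ∑ k, M₁ k i * M₁ k j = if i = j then 1 else 0 := by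
      intro i j
      simp only [hM₁, Matrix.smul_apply, smul_eq_mul]
      rw [show ∑ k, M.det * M k i * (M.det * M k j) = M.det ^ 2 * ∑ k, M k i * M k j by
        rw [Finset.mul_sum]; exact Finset.sum_congr rfl fun k _ => by ring, hgram]
      split_ifs
      · rw [← pow_add]; exact h4 _ hM0
      · ring
    let col : Fin 3 → Vec := fun j k => emb (M₁ k j)
    have hhf : ∀ i j, hf (col i) (col j) = if i = j then 1 else 0 := fun i j => hT.phi_inj (by
      simp only [hf, hT.phi_s3, hT.phi_mul, hT.phi_cj, col, hemb, hφ5, ← map_mul, ← map_sum, horth]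
      split_ifs <;> simp [hT.phi_one, hT.phi_zero])
    have hcode : ∀ j, code (col j) ∈ SubModel.unitCodes := fun j =>
      SubModel.unit_complete ⟨(M₁ 0 j).val, (M₁ 0 j).val_lt⟩ ⟨(M₁ 1 j).val, (M₁ 1 j).val_lt⟩
        ⟨(M₁ 2 j).val, (M₁ 2 j).val_lt⟩ (by
          have := hhf j j
          rw [if_pos rfl] at this
          convert this using 2 <;> funext k <;> fin_cases k <;> rfl) |> fun h => by
        convert h using 2
        funext k; fin_cases k <;> rfl
    have hso := List.all_eq_true.1 (List.all_eq_true.1 SubModel.so_ok _ (hcode 0)) _ (hcode 1)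
    simp only [SubModel.soCheck, dec_code, hhf 0 1, Fin.reduceEq, if_false, if_true, Bool.and_eq_true,
      List.all_eq_true] at hso
    have hc2 := hso.2 _ (hcode 2)
    have hdet3 : det3 (SubModel.colM (col 0) (col 1) (col 2)) = 1 := hT.phi_inj (by
      simp only [det3, hT.phi_add, hT.phi_neg, hT.phi_mul, hT.phi_one, SubModel.colM, col, hemb,
        Matrix.cons_val_zero, Matrix.cons_val_one, Matrix.cons_val]
      rw [← map_one φ, ← hdet, Matrix.det_fin_three]
      simp only [map_add, map_sub, map_mul]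
      ring)
    simp only [dec_code, hhf 2 0, hhf 2 1, Fin.reduceEq, if_false, beq_self_eq_true, Bool.and_self, hdet3,
      Bool.not_true, Bool.false_or, beq_iff_eq] at hc2
    have hcr : SubModel.cross (col 0) (col 1) = col 2 := by rw [← dec_code (SubModel.cross _ _), hc2, dec_code]
    have hcolM : SubModel.colM (col 0) (col 1) (col 2) = fun i j => emb (M₁ i j) := by
      funext i j; fin_cases j <;> rfl
    have hok : SubModel.okStab (fun i j => emb (M₁ i j)) = true := by
      rw [← hcolM, ← hcr]; exact hso.1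
    have hx1 := mapsTo_of_okStab hT P' _ hok x hx
    have hre : real t P' (fun i j => emb (M₁ i j)) = φ M.det • real t P' (fun i j => emb (M i j)) := by
      have hof : ∀ N : Matrix (Fin 3) (Fin 3) Z5, (Matrix.of fun i j => phi t (emb (N i j)) : MM) = N.map φ :=
        fun N => by ext i j; exact hemb _
      rw [real, real, hof, hof, hM₁]
      rw [show (M.det • M).map φ = φ M.det • M.map φ by ext i j; simp, Matrix.mul_smul, Matrix.smul_mul]
    have hφd : φ M.det ≠ 0 := fun h => hM0 (hφi (by rw [h, map_zero]))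
    have hhx : (h : MM) *ᵥ x = (z / φ M.det) • (real t P' (fun i j => emb (M₁ i j)) *ᵥ x) := by
      rw [hre, hzM, Matrix.smul_mulVec, Matrix.smul_mulVec, smul_smul, div_mul_cancel₀ _ hφd]
    rw [hhx]
    exact smul_mem_lines (div_ne_zero hz hφd) hx1
  have mkI : ∀ m : Mat, (∀ i j, mm m m i j = idM i j) → real t P' m * real t P' m = 1 :=
    fun m h => by rw [← real_mul hT, real_id hT P' h]
  let Tg : GLn := ⟨real t P' SubModel.T, real t P' SubModel.T, mkI _ SubModel.sq_T, mkI _ SubModel.sq_T⟩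
  let Ag : GLn := ⟨real t P' SubModel.A, real t P' SubModel.A, mkI _ SubModel.sq_A, mkI _ SubModel.sq_A⟩
  have detone : ∀ (x : GLn) (m : Mat), (x : MM) = real t P' m → det3 m = 1 →
      Matrix.GeneralLinearGroup.det x = 1 := fun x m hx hm => Units.ext (by
    show (x : MM).det = 1
    rw [hx, det_real hT, hm, hT.phi_one])
  have hTΩ : Tg ∈ omegaU 3 F 5 :=
    Subgroup.mem_inf.2 ⟨real_isometry hT P' hP' _ SubModel.isu_T, detone Tg _ rfl SubModel.det_T⟩
  have hAΩ : Ag ∈ omegaU 3 F 5 :=
    Subgroup.mem_inf.2 ⟨real_isometry hT P' hP' _ SubModel.isu_A, detone Ag _ rfl SubModel.det_A⟩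
  rcases hmax.2 _ hHM inf_le_right with h | h
  · have hTH : Tg ∈ H := h ▸ ⟨hmem Tg (mapsTo_of_okStab hT P' _ SubModel.okStab_T), hTΩ⟩
    obtain ⟨z, M, hz, hzM⟩ := hrat Tg hTH
    obtain ⟨a, ha⟩ := hT.phi_surj z⁻¹
    obtain ⟨i, j, hij⟩ := SubModel.T_not_rational a fun e => inv_ne_zero hz (by rw [← ha, e, hT.phi_zero])
    have he : mul a (SubModel.T i j) = emb (M i j) := by
      refine hT.phi_inj ?_
      have h1 : real t P' SubModel.T = z • real t P' (fun i j => emb (M i j)) := hzM
      have h2 : (Matrix.of fun i j => phi t (SubModel.T i j) : MM) =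
          z • Matrix.of (fun i j => phi t (emb (M i j))) := by
        have h3 := congrArg (fun X => ((P'⁻¹ : GLn) : MM) * X * (P' : MM)) h1
        simp only [real, Matrix.mul_assoc, Matrix.mul_smul, Matrix.smul_mul, ← Units.val_mul, inv_mul_cancel,
          Units.val_one, Matrix.mul_one] at h3
        simpa only [← Matrix.mul_assoc, ← Units.val_mul, inv_mul_cancel, Units.val_one, Matrix.one_mul] using h3
      have h4 := congrFun (congrFun h2 i) j
      simp only [Matrix.of_apply, Matrix.smul_apply, smul_eq_mul] at h4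
      rw [hT.phi_mul, ha, h4, ← mul_assoc, inv_mul_cancel₀ hz, one_mul]
    rw [he] at hij
    exact absurd (ZMod.val_lt (M i j)) (not_lt.2 hij)
  · have hA' : Ag ∈ St ⊓ omegaU 3 F 5 := by rw [h]; exact hAΩ
    obtain ⟨s, hs, a, ha, hEq⟩ : real t P' SubModel.A *ᵥ J t P' (dec SubModel.moveCode) ∈ L :=
      ((Subgroup.mem_inf.1 hA').1 _).1 ⟨_, SubModel.mem_moveCode, 1, one_ne_zero, (one_smul _ _).symm⟩
    obtain ⟨b, hb⟩ := hT.phi_surj a⁻¹
    rw [real_act hT] at hEq
    have h2 : smulV b (mv SubModel.A (dec SubModel.moveCode)) = dec s := J_inj hT P' (by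
      rw [J_smul hT, hEq, hb, smul_smul, inv_mul_cancel₀ ha, one_smul])
    have hm := SubModel.moved b
    rw [h2, SubModel.code_dec s hs, List.contains_iff_mem.2 hs] at hm
    exact Bool.noConfusion hm

end Cfsg.Agent.Lib.UnitPrimeDim.ThreeFive.SubField
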