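import Cfsg.Agent.Lib.UnitPrimeDim.Proper

/-!
`SU_3(q)`, `q ≥ 3`, is contained in no member of the geometric classes.
-/

set_option autoImplicit false
set_option linter.unusedSectionVars false

namespace Cfsg.Agent.Lib.UnitPrimeDim

open scoped MatrixGroups Matrix commutatorElement
open Cfsg.Agent.Lib.Classical (hermBilin hermBilin_apply hermBilin_nondegenerate hermBilin_single conjHom
  conjHom_apply conjHom_conjHom conjHom_ne_id exists_SU_of_isometry exists_partner mulVec_eq_smul two_le_q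
  isoPts_pretransitive ipt ipt_eq_iff smul_ipt card_norm_eq herm_symm)

variable {F : Type*} [Field F] [Fintype F] {n q : ℕ}

/-- `SU_3(q)` is perfect for `q ≥ 3`. -/
theorem omegaU_perfect_three (hF : Fintype.card F = q ^ 2) (hn : n = 3) (hq : 3 ≤ q) :
    ⁅omegaU n F q, omegaU n F q⁆ = omegaU n F q := by
  have h : commutator (Cfsg.SU n F q) = ⊤ := by
    rw [eq_top_iff, ← Cfsg.Agent.S0780.result hF n (by omega) (by omega), Subgroup.closure_le]
    rintro A ⟨v, c, hv, hA⟩
    rw [commutator_eq_closure]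
    exact Subgroup.subset_closure (Cfsg.Agent.S0781.result hF n (Or.inr ⟨hn, hq⟩) A v c hv hA)
  rw [← range_toGU, MonoidHom.range_eq_map, ← Subgroup.map_commutator, ← commutator_def, h]

theorem card_omegaU_three (hF : Fintype.card F = q ^ 2) (hq : 3 ≤ q) :
    6000 ≤ Nat.card (omegaU 3 F q) := by
  have hcard : Nat.card (omegaU 3 F q) = Nat.card (Cfsg.SU 3 F q) := by
    rw [← range_toGU]
    exact (Nat.card_congr (MonoidHom.ofInjective (f := toGU 3 F q)
      (Matrix.SpecialLinearGroup.toGL_injective.comp Subtype.val_injective)).toEquiv).symm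
  have h := Classical.card_SU hF (n := 3) (by omega)
  rw [Classical.card_GU hF] at h
  simp only [Finset.prod_range_succ, Finset.prod_range_zero, one_mul] at h
  norm_num [show Even 0 from ⟨0, rfl⟩, show ¬ Even 1 from Nat.not_even_one, show Even 2 from even_two] at h
  rw [hcard]
  refine le_of_mul_le_mul_left ?_ (show 0 < q + 1 by omega)
  rw [h]
  have h1 : 27 ≤ q ^ 3 := le_trans (by norm_num) (Nat.pow_le_pow_left hq 3)
  have h2 : 8 ≤ q ^ 2 - 1 := by
    have := Nat.pow_le_pow_left hq 2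
    omega
  nlinarith [Nat.mul_le_mul (Nat.mul_le_mul h1 h2) (show 28 ≤ q ^ 3 + 1 by omega)]

variable (hF : Fintype.card F = q ^ 2)

local notation "σ" => conjHom hF
local notation "B" => hermBilin hF n

include hF in
theorem not_le_subalgebraNormalizer_three (hn : n = 3) (hq : 3 ≤ q) {r : ℕ} (hr : 2 ≤ r)
    (K : Subalgebra F (Matrix (Fin n) (Fin n) F)) (hK : Cfsg.Geo.IsFieldSubalgebra r K) :
    ¬ omegaU n F q ≤ Cfsg.Geo.subalgebraNormalizer K := by
  classical
  intro hle
  letI : CommRing K := { (inferInstance : Ring K) with mul_comm := fun a b => Subtype.ext (hK.comm a a.2 b b.2) }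
  haveI : NeZero n := ⟨by omega⟩
  haveI : NoZeroDivisors K := ⟨fun {a b} hab => by
    by_contra h
    rw [not_or] at h
    obtain ⟨a', ha', haa⟩ := hK.inv a a.2 (fun e => h.1 (Subtype.ext e))
    refine h.2 (Subtype.ext ?_)
    have h2 : (a' : Matrix (Fin n) (Fin n) F) * (a.1 * b.1) = 0 := by
      rw [show a.1 * b.1 = ((a * b : K) : Matrix (Fin n) (Fin n) F) from rfl, hab]; simp
    rw [← mul_assoc, hK.comm a' ha' a a.2, haa, one_mul] at h2
    exact h2⟩
  haveI : Nontrivial K := ⟨⟨0, 1, fun e => zero_ne_one (α := Matrix (Fin n) (Fin n) F) (congrArg Subtype.val e)⟩⟩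
  haveI : IsDomain K := NoZeroDivisors.to_isDomain _
  obtain ⟨z, hz⟩ := IsCyclic.exists_generator (α := Kˣ)
  have hzinv : IsUnit ((z : K) : Matrix (Fin n) (Fin n) F) := z.isUnit.map K.val
  obtain ⟨Z, hZ⟩ := hzinv
  have hpow : ∀ g ∈ omegaU n F q, ∃ i : ℕ, g * Z * g⁻¹ = Z ^ i := by
    intro g hg
    have hmem := ((hle hg) ((z : K) : Matrix (Fin n) (Fin n) F)).1 (z : K).2
    rw [← hZ, ← Units.val_mul, ← Units.val_mul] at hmem
    obtain ⟨y, hy, hzy⟩ := hK.inv _ hmem (g * Z * g⁻¹).ne_zero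
    obtain ⟨i, hi⟩ := mem_powers_iff_mem_zpowers.2
      (hz (IsUnit.of_mul_eq_one (a := (⟨_, hmem⟩ : K)) ⟨y, hy⟩ (Subtype.ext hzy)).unit)
    refine ⟨i, Units.ext ?_⟩
    have h2 := congrArg (fun w : Kˣ => ((w : K) : Matrix (Fin n) (Fin n) F)) hi
    simpa [hZ] using h2.symm
  have hcomm : ∀ a ∈ omegaU n F q, ∀ b ∈ omegaU n F q, ⁅a, b⁆ ∈ Subgroup.centralizer ({Z} : Set (GL (Fin n) F)) := by
    intro a ha b hb
    obtain ⟨i, hi⟩ := hpow a⁻¹ (inv_mem ha)
    obtain ⟨j, hj⟩ := hpow b⁻¹ (inv_mem hb)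
    have key : (b * a)⁻¹ * Z * (b * a) = (a * b)⁻¹ * Z * (a * b) := by
      calc _ = a⁻¹ * (b⁻¹ * Z * b⁻¹⁻¹) * a⁻¹⁻¹ := by group
        _ = b⁻¹ * (a⁻¹ * Z * a⁻¹⁻¹) * b⁻¹⁻¹ := by
          rw [hj, ← conj_pow, hi, ← conj_pow, hj, ← pow_mul, ← pow_mul, mul_comm]
        _ = _ := by group
    rw [Subgroup.mem_centralizer_singleton_iff]
    calc ⁅a, b⁆ * Z = a * b * ((b * a)⁻¹ * Z * (b * a)) * (b * a)⁻¹ := by rw [commutatorElement_def]; group
      _ = Z * ⁅a, b⁆ := by rw [key, commutatorElement_def]; group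
  have hall : ∀ g ∈ omegaU n F q, g * Z = Z * g := fun g hg => by
    have h2 := (Subgroup.commutator_le.2 hcomm) ((omegaU_perfect_three hF hn hq).symm ▸ hg)
    exact Subgroup.mem_centralizer_singleton_iff.1 h2
  obtain ⟨a, ha⟩ := commutant_scalar hF (by omega) ((z : K) : Matrix (Fin n) (Fin n) F) fun g hg => by
    have h2 := congrArg Units.val (hall g hg)
    rw [Units.val_mul, Units.val_mul, hZ] at h2
    exact h2.symm
  have hsc : ∀ x : K, ∃ t : F, x = t • (1 : K) := by
    intro x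
    rcases eq_or_ne x 0 with rfl | hx
    · exact ⟨0, (zero_smul _ _).symm⟩
    obtain ⟨y, hy, hxy⟩ := hK.inv x x.2 fun e => hx (Subtype.ext e)
    obtain ⟨i, hi⟩ := mem_powers_iff_mem_zpowers.2
      (hz (IsUnit.of_mul_eq_one (a := x) ⟨y, hy⟩ (Subtype.ext hxy)).unit)
    have h2 := congrArg (fun w : Kˣ => ((w : K) : Matrix (Fin n) (Fin n) F)) hi
    simp only [Units.val_pow_eq_pow_val, SubmonoidClass.coe_pow, IsUnit.unit_spec, ha, smul_pow, one_pow] at h2
    exact ⟨a ^ i, Subtype.ext h2.symm⟩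
  have hle1 : Module.finrank F K ≤ 1 := finrank_le_one (1 : K) fun x => by
    obtain ⟨t, ht⟩ := hsc x; exact ⟨t, ht.symm⟩
  have := hK.finrank_eq
  omega


include hF in
theorem not_le_subfieldSubgroup_three (hn : n = 3) (hq : 3 ≤ q) (F₀ : Subfield F) (h0 : F₀ ≠ ⊤) (P : GL (Fin n) F) :
    ¬ omegaU n F q ≤ Cfsg.Geo.subfieldSubgroup F₀ P := by
  classical
  intro hle
  have htr : ∀ A : Cfsg.SU n F q, (toGU n F q A).1.trace ∈ F₀ := by
    intro A
    have h2 : toGU n F q A ∈
        ((Matrix.GeneralLinearGroup.map (F₀.subtype : F₀ →+* F)).range).map (MulAut.conj P).toMonoidHom := by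
      refine Subgroup.commutator_le.2 (fun g hg h hh => mem_subfieldSubgroup_commutator (hle hg) (hle hh)) ?_
      rw [omegaU_perfect_three hF hn hq]; exact toGU_mem A
    obtain ⟨_, ⟨M, rfl⟩, hM⟩ := h2
    rw [← hM]
    simp only [MulEquiv.coe_toMonoidHom, MulAut.conj_apply, Units.val_mul]
    rw [Matrix.trace_mul_cycle, Units.inv_mul, Matrix.one_mul]
    exact F₀.sum_mem fun i _ => SetLike.coe_mem _
  obtain ⟨u, hu0, hu⟩ := Classical.exists_isotropic hF (n := n) (by omega)
  obtain ⟨v, huv, hv⟩ := exists_partner hF hu0 hu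
  have hvu : B v u = 1 := by rw [← herm_symm hF, huv, map_one]
  have hprod : ∀ c d : F, σ c + c = 0 → σ d + d = 0 → c * d ∈ F₀ := by
    intro c d hc hd
    obtain ⟨T, hT⟩ := exists_tv hF u hu c hc
    obtain ⟨U, hU⟩ := exists_tv hF v hv d hd
    have key : ∀ (A : Cfsg.SU n F q) (L : (Fin n → F) →ₗ[F] (Fin n → F)), (∀ y, A • y = L y) →
        (toGU n F q A).1.trace = LinearMap.trace F _ L := by
      intro A L hL
      rw [← Matrix.trace_toLin'_eq]
      congr 1
      exact LinearMap.ext fun y => by rw [Matrix.toLin'_apply]; exact hL y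
    let Lu : (Fin n → F) →ₗ[F] (Fin n → F) := (c • B u).smulRight u
    let Lv : (Fin n → F) →ₗ[F] (Fin n → F) := (d • B v).smulRight v
    have e1 : (toGU n F q (T * U)).1.trace =
        LinearMap.trace F _ (LinearMap.id + Lu + Lv + (d • B v).smulRight ((c * B u v) • u)) := key _ _ fun y => by
      rw [mul_smul, hU, hT]
      simp only [Lu, Lv, LinearMap.add_apply, LinearMap.id_apply, LinearMap.smulRight_apply, LinearMap.smul_apply,
        map_add, map_smul, smul_eq_mul]
      module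
    have h2 := htr (T * U)
    rw [e1] at h2
    simp only [map_add, Lu, Lv, LinearMap.trace_smulRight, LinearMap.trace_id, LinearMap.smul_apply, map_smul,
      smul_eq_mul, hu, hv, huv, hvu, mul_zero, mul_one, add_zero, Module.finrank_fin_fun] at h2
    have := F₀.sub_mem h2 (natCast_mem F₀ n)
    simpa [mul_comm] using this
  obtain ⟨c₀, hc₀, hc₀0⟩ := exists_skew_ne hF
  have hsq : c₀ * c₀ ∈ F₀ := hprod c₀ c₀ hc₀ hc₀
  have hfix : ∀ a : F, σ a = a → a ∈ F₀ := by
    intro a ha
    have h2 := hprod (a * c₀) c₀ (by rw [map_mul, ha, ← mul_add, hc₀, mul_zero]) hc₀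
    have h3 := F₀.mul_mem h2 (F₀.inv_mem hsq)
    rwa [mul_assoc a, mul_assoc a, mul_inv_cancel₀ (mul_ne_zero hc₀0 hc₀0), mul_one] at h3
  -- a diagonal element with trace outside the fixed field
  obtain ⟨l, hl, hl1, hl2⟩ := exists_norm_one_ne hF
  have hl' : l * σ l = 1 := by rw [conjHom_apply]; exact hl
  have hl0 : l ≠ 0 := by rintro rfl; simp at hl'
  let e : Fin 3 → Fin n := Fin.castLE (by omega)
  have he : Function.Injective e := Fin.castLE_injective _
  set w : Fin n → F := Function.update (Function.update (Function.update (fun _ => 1) (e 0) l) (e 1) l) (e 2) (l * l)⁻¹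
    with hw
  have hwn : ∀ i, w i * (w i) ^ q = 1 := by
    intro i
    rw [← conjHom_apply hF]
    simp only [hw, Function.update_apply]
    split_ifs
    · rw [map_inv₀, map_mul, ← mul_inv, show l * l * (σ l * σ l) = 1 by linear_combination (l * σ l + 1) * hl']
      exact inv_one
    · exact hl'
    · exact hl'
    · simp
  have hsplit : (Finset.univ : Finset (Fin n)) = insert (e 0) (insert (e 1) (insert (e 2)
      (Finset.univ \ {e 0, e 1, e 2}))) := by
    ext i; simp; tauto
  have n01 : e 0 ≠ e 1 := he.ne (by decide)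
  have n02 : e 0 ≠ e 2 := he.ne (by decide)
  have n12 : e 1 ≠ e 2 := he.ne (by decide)
  have hw0 : w (e 0) = l ∧ w (e 1) = l ∧ w (e 2) = (l * l)⁻¹ := by
    simp [hw, Function.update_apply, n01, n02, n12, n01.symm, n02.symm, n12.symm]
  have hrest : ∀ i ∈ (Finset.univ : Finset (Fin n)) \ {e 0, e 1, e 2}, w i = 1 := by
    intro i hi
    simp only [Finset.mem_sdiff, Finset.mem_univ, true_and, Finset.mem_insert, Finset.mem_singleton, not_or] at hi
    simp [hw, Function.update_apply, hi.1, hi.2.1, hi.2.2]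
  have hdet : (Matrix.diagonal w).det = 1 := by
    rw [Matrix.det_diagonal, hsplit, Finset.prod_insert (by simp [n01, n02]), Finset.prod_insert (by simp [n12]),
      Finset.prod_insert (by simp), Finset.prod_eq_one hrest, hw0.1, hw0.2.1, hw0.2.2, mul_one, ← mul_assoc,
      mul_inv_cancel₀ (mul_ne_zero hl0 hl0)]
  let D : Cfsg.SU n F q := ⟨⟨Matrix.diagonal w, hdet⟩, fun x y => by
    show Cfsg.hermForm n F q (Matrix.diagonal w *ᵥ x) (Matrix.diagonal w *ᵥ y) = _
    refine Finset.sum_congr rfl fun i _ => ?_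
    rw [Matrix.mulVec_diagonal, Matrix.mulVec_diagonal, mul_pow, mul_mul_mul_comm, hwn, one_mul]⟩
  have htD : l + (l + ((l * l)⁻¹ + ((n - 3 : ℕ) : F))) ∈ F₀ := by
    have h2 := htr D
    have hcard : ((Finset.univ : Finset (Fin n)) \ {e 0, e 1, e 2}).card = n - 3 := by
      rw [Finset.card_sdiff_of_subset (Finset.subset_univ _), Finset.card_univ, Fintype.card_fin,
        Finset.card_eq_three.2 ⟨_, _, _, n01, n02, n12, rfl⟩]
    have hD : (toGU n F q D).1 = Matrix.diagonal w := rfl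
    rw [hD, Matrix.trace_diagonal, hsplit, Finset.sum_insert (by simp [n01, n02]), Finset.sum_insert (by simp [n12]),
      Finset.sum_insert (by simp), Finset.sum_congr rfl hrest, Finset.sum_const, hcard, nsmul_eq_mul, mul_one,
      hw0.1, hw0.2.1, hw0.2.2] at h2
    exact h2
  obtain ⟨t, ht, htσ⟩ : ∃ t ∈ F₀, σ t ≠ t := by
    refine ⟨_, htD, fun h => ?_⟩
    simp only [map_add, map_natCast, map_inv₀, map_mul] at h
    have hσl : σ l = l⁻¹ := eq_inv_of_mul_eq_one_right hl'
    rw [hσl] at h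
    field_simp at h
    have h4 : (l - 1) * (l - 1) * (l * l - 1) = 0 := by
      first | linear_combination h | linear_combination -h
    rcases mul_eq_zero.1 h4 with h5 | h5
    · exact hl1 (sub_eq_zero.1 (mul_self_eq_zero.1 h5))
    · exact hl2 (sub_eq_zero.1 h5)
  refine h0 (eq_top_iff.2 fun x _ => ?_)
  have hd : t - σ t ≠ 0 := sub_ne_zero.2 (Ne.symm htσ)
  have hd' : σ t - t ≠ 0 := sub_ne_zero.2 htσ
  have hα : σ ((σ x * t - x * σ t) / (t - σ t)) = (σ x * t - x * σ t) / (t - σ t) := by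
    rw [map_div₀, map_sub, map_sub, map_mul, map_mul, conjHom_conjHom, conjHom_conjHom, div_eq_div_iff hd' hd]
    ring
  have hβ : σ ((x - σ x) / (t - σ t)) = (x - σ x) / (t - σ t) := by
    rw [map_div₀, map_sub, map_sub, conjHom_conjHom, conjHom_conjHom, div_eq_div_iff hd' hd]
    ring
  have hx : x = (σ x * t - x * σ t) / (t - σ t) + (x - σ x) / (t - σ t) * t := by
    field_simp
    ring
  rw [hx]
  exact F₀.add_mem (hfix _ hα) (F₀.mul_mem (hfix _ hβ) ht)


include hF in
theorem not_le_subgroupNormalizer_three (hn : n = 3) (hq : 3 ≤ q) (R : Subgroup (GL (Fin n) F))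
    (hR : Cfsg.Geo.ActsAbsolutelyIrreducibly (Cfsg.Geo.matrixSet R)) (hcard : Nat.card R = n ^ 3) :
    ¬ omegaU n F q ≤ Cfsg.Geo.subgroupNormalizer R := by
  classical
  intro hle
  haveI hp : Fact n.Prime := ⟨by subst hn; norm_num⟩
  obtain ⟨x, hx, y, hy, hxy⟩ : ∃ x ∈ R, ∃ y ∈ R, x * y ≠ y * x := by
    by_contra h
    simp only [not_exists, not_and, not_not] at h
    have hall : ∀ x ∈ R, ∃ a : F, x.1 = a • (1 : Matrix (Fin n) (Fin n) F) := fun x hx => hR.2 x.1 (by
      rintro _ ⟨y, hy, rfl⟩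
      exact congrArg Units.val (h x hx y hy))
    let i₀ : Fin n := ⟨0, hp.out.pos⟩
    let i₁ : Fin n := ⟨1, hp.out.one_lt⟩
    have h01 : i₀ ≠ i₁ := by simp [i₀, i₁, Fin.ext_iff]
    rcases hR.1 (Submodule.span F {Pi.single i₀ 1}) (by
      rintro _ ⟨g, hg, rfl⟩
      obtain ⟨a, ha⟩ := hall g hg
      rw [Submodule.map_le_iff_le_comap, Submodule.span_le, Set.singleton_subset_iff, SetLike.mem_coe,
        Submodule.mem_comap, Matrix.toLin'_apply]
      show g.1 *ᵥ _ ∈ _
      rw [ha, Matrix.smul_mulVec, Matrix.one_mulVec]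
      exact Submodule.smul_mem _ _ (Submodule.mem_span_singleton_self _)) with h2 | h2
    · simp [Submodule.span_singleton_eq_bot] at h2
    · obtain ⟨t, ht⟩ := Submodule.mem_span_singleton.1
        (h2 ▸ Submodule.mem_top : (Pi.single i₁ 1 : Fin n → F) ∈ Submodule.span F {Pi.single i₀ 1})
      simpa [h01.symm] using congrFun ht i₁
  have hgen : Subgroup.closure {x, y} = R := by
    refine Subgroup.eq_of_le_of_card_ge ((Subgroup.closure_le R).2 (by simp [Set.insert_subset_iff, hx, hy])) ?_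
    obtain ⟨k, hk3, hk⟩ := (Nat.dvd_prime_pow hp.out).1 (hcard ▸ Subgroup.card_dvd_of_le
      ((Subgroup.closure_le R).2 (by simp [Set.insert_subset_iff, hx, hy]) : Subgroup.closure {x, y} ≤ R))
    rw [hcard, hk]
    refine Nat.pow_le_pow_right hp.out.pos (not_lt.1 fun hlt => hxy ?_)
    have hm1 : x ∈ Subgroup.closure {x, y} := Subgroup.subset_closure (by simp)
    have hm2 : y ∈ Subgroup.closure {x, y} := Subgroup.subset_closure (by simp)
    suffices ∀ a b : ↥(Subgroup.closure {x, y}), a * b = b * a from congrArg Subtype.val (this ⟨x, hm1⟩ ⟨y, hm2⟩)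
    interval_cases k
    · intro a b
      haveI : Subsingleton ↥(Subgroup.closure {x, y}) := (Nat.card_eq_one_iff_unique.1 (by rw [hk, pow_zero])).1
      exact Subsingleton.elim _ _
    · intro a b
      haveI := isCyclic_of_prime_card (α := ↥(Subgroup.closure {x, y})) (p := n) (by rw [hk, pow_one])
      letI := IsCyclic.commGroup (α := ↥(Subgroup.closure {x, y}))
      exact mul_comm a b
    · exact IsPGroup.commutative_of_card_eq_prime_sq hk
  let f : ↥(omegaU n F q) → R × R := fun g =>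
    (⟨g.1 * x * g.1⁻¹, ((Subgroup.mem_normalizer_iff.1 (hle g.2)) x).1 hx⟩,
     ⟨g.1 * y * g.1⁻¹, ((Subgroup.mem_normalizer_iff.1 (hle g.2)) y).1 hy⟩)
  have hfib : ∀ g g' : ↥(omegaU n F q), f g = f g' → ∃ a : F, a ^ n = 1 ∧ g'.1.1 = a • g.1.1 := by
    intro g g' he
    simp only [f, Prod.mk.injEq, Subtype.mk.injEq] at he
    have hcx : ∀ z, g.1 * z * g.1⁻¹ = g'.1 * z * g'.1⁻¹ → (g.1⁻¹ * g'.1) * z = z * (g.1⁻¹ * g'.1) := by
      intro z hz
      calc g.1⁻¹ * g'.1 * z = g.1⁻¹ * (g'.1 * z * g'.1⁻¹) * g'.1 := by group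
        _ = _ := by rw [← hz]; group
    have hcl : R ≤ Subgroup.centralizer {g.1⁻¹ * g'.1} := by
      rw [← hgen, Subgroup.closure_le]
      simp only [Set.insert_subset_iff, Set.singleton_subset_iff, SetLike.mem_coe, Subgroup.mem_centralizer_singleton_iff]
      exact ⟨(hcx x he.1).symm, (hcx y he.2).symm⟩
    obtain ⟨a, ha⟩ := hR.2 (g.1⁻¹ * g'.1).1 (by
      rintro _ ⟨z, hz, rfl⟩
      exact congrArg Units.val (Subgroup.mem_centralizer_singleton_iff.1 (hcl hz)).symm)
    refine ⟨a, ?_, ?_⟩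
    · have hd : (g.1⁻¹ * g'.1) ∈ omegaU n F q := mul_mem (inv_mem g.2) g'.2
      have h2 : (g.1⁻¹ * g'.1).1.det = 1 := congrArg Units.val (hd.2 : Matrix.GeneralLinearGroup.det _ = 1)
      rwa [ha, Matrix.det_smul, Matrix.det_one, mul_one, Fintype.card_fin] at h2
    · calc g'.1.1 = g.1.1 * (g.1⁻¹ * g'.1).1 := by rw [← Units.val_mul, mul_inv_cancel_left]
        _ = a • g.1.1 := by rw [ha, Matrix.mul_smul, Matrix.mul_one]
  haveI : Fintype ↥(omegaU n F q) := Fintype.ofFinite _
  haveI : Fintype R := Fintype.ofFinite _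
  have hbound : Fintype.card ↥(omegaU n F q) ≤ n * Fintype.card (R × R) := by
    refine Finset.card_le_mul_card_image_of_maps_to (s := Finset.univ) (t := Finset.univ) (f := f)
      (fun _ _ => Finset.mem_univ _) n fun b _ => ?_
    rcases (Finset.univ.filter fun g => f g = b).eq_empty_or_nonempty with he | ⟨g, hg⟩
    · rw [he]; simp
    rw [Finset.mem_filter] at hg
    refine le_trans (Finset.card_le_card_of_injOn (t := (Polynomial.nthRoots n (1 : F)).toFinset)
      (fun g' => if h : f g = f g' then (hfib g g' h).choose else 0) ?_ ?_) ?_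
    · intro g' hg'
      have h : f g = f g' := hg.2.trans (Finset.mem_filter.1 hg').2.symm
      simp only [dif_pos h, Finset.mem_coe, Multiset.mem_toFinset, Polynomial.mem_nthRoots hp.out.pos]
      exact (hfib g g' h).choose_spec.1
    · intro g₁ hg₁ g₂ hg₂ he
      have h1 : f g = f g₁ := hg.2.trans (Finset.mem_filter.1 hg₁).2.symm
      have h2 : f g = f g₂ := hg.2.trans (Finset.mem_filter.1 hg₂).2.symm
      simp only [dif_pos h1, dif_pos h2] at he
      exact Subtype.ext (Units.ext (by rw [(hfib g g₁ h1).choose_spec.2, (hfib g g₂ h2).choose_spec.2, he]))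
    · exact le_trans (Multiset.toFinset_card_le _) (Polynomial.card_nthRoots n 1)
  rw [Fintype.card_prod, ← Nat.card_eq_fintype_card, ← Nat.card_eq_fintype_card, hcard] at hbound
  subst hn
  have hge := card_omegaU_three hF hq
  have hb := hge.trans hbound
  norm_num at hb


include hF in
/-- `SU_3(q)` fixes no decomposition into lines. -/
theorem not_le_decompositionStabilizer_three (hn : n = 3) (hq : 3 ≤ q)
    (D : Fin n → Submodule F (Fin n → F)) (hD : Cfsg.Geo.IsMDecomposition 1 D) :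
    ¬ omegaU n F q ≤ Cfsg.Geo.decompositionStabilizer D := by
  classical
  subst hn
  intro hle
  have hne : ∀ i, D i ≠ ⊥ := fun i h => by
    have := hD.finrank_eq i
    rw [h, finrank_bot] at this
    omega
  have hinj : Function.Injective D := fun i j h => by
    by_contra hij
    have h2 := hD.indep.pairwiseDisjoint hij
    simp only [Function.onFun] at h2
    rw [h, disjoint_self] at h2
    exact hne j h2
  choose π hπ using fun g : ↥(omegaU 3 F q) => hle g.2
  let ψ : ↥(omegaU 3 F q) →* Equiv.Perm (Fin 3) := MonoidHom.mk' π fun a b => Equiv.ext fun i => hinj (by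
    rw [← hπ, Equiv.Perm.mul_apply, ← hπ, ← hπ, ← Submodule.map_comp, ← Matrix.toLin'_mul]
    rfl)
  have hperf : commutator ↥(omegaU 3 F q) = ⊤ := by
    apply Subgroup.map_injective (omegaU 3 F q).subtype_injective
    rw [Subgroup.map_subtype_commutator, omegaU_perfect_three hF rfl hq, ← MonoidHom.range_eq_map,
      Subgroup.range_subtype]
  have hI : ⁅ψ.range, ψ.range⁆ = ψ.range := by
    rw [MonoidHom.range_eq_map, ← Subgroup.map_commutator, ← commutator_def, hperf]
  have hsign : ψ.range ≤ Equiv.Perm.sign.ker := by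
    rw [← hI, Subgroup.commutator_le]
    intro a _ b _
    rw [MonoidHom.mem_ker, map_commutatorElement, commutatorElement_eq_one_iff_mul_comm]
    exact mul_comm _ _
  have key : ∀ a b : Equiv.Perm (Fin 3), Equiv.Perm.sign a = 1 → Equiv.Perm.sign b = 1 → a * b = b * a := by
    decide
  have hbot : ψ.range = ⊥ := by
    rw [eq_bot_iff, ← hI, Subgroup.commutator_le]
    intro a ha b hb
    rw [Subgroup.mem_bot, commutatorElement_eq_one_iff_mul_comm]
    exact key a b (hsign ha) (hsign hb)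
  have hfix : omegaU 3 F q ≤ Cfsg.Geo.subspaceStabilizer (D 0) := by
    have hmap : ∀ g ∈ omegaU 3 F q, ∀ v ∈ D 0, (g : Matrix (Fin 3) (Fin 3) F) *ᵥ v ∈ D 0 := by
      intro g hg v hv
      have h1 : π ⟨g, hg⟩ = 1 :=
        Subgroup.mem_bot.1 (hbot ▸ (⟨⟨g, hg⟩, rfl⟩ : ψ ⟨g, hg⟩ ∈ ψ.range))
      have h := hπ ⟨g, hg⟩ 0
      rw [h1, Equiv.Perm.one_apply] at h
      rw [← h]
      exact ⟨v, hv, Matrix.toLin'_apply _ _⟩
    intro g hg v
    refine ⟨hmap g hg v, fun h => ?_⟩
    have h' := hmap g⁻¹ (inv_mem hg) _ h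
    change ((g⁻¹ : GL (Fin 3) F) : Matrix (Fin 3) (Fin 3) F) *ᵥ ((g : Matrix (Fin 3) (Fin 3) F) *ᵥ v) ∈ D 0 at h'
    rwa [Matrix.mulVec_mulVec, ← Units.val_mul, inv_mul_cancel, Units.val_one, Matrix.one_mulVec] at h'
  refine not_le_subspaceStabilizer hF (by omega) (D 0) (hne 0) (fun h => ?_) hfix
  have h2 := hD.finrank_eq 0
  rw [h, finrank_top, Module.finrank_fin_fun] at h2
  omega

end Cfsg.Agent.Lib.UnitPrimeDim
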