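import Mathlib

/-!
A finite model over the field with nine elements: an element of order 7, its normaliser in the
three-dimensional unitary group, and an orbit of 42 vectors under a larger group.
-/

set_option autoImplicit false

namespace Cfsg.Agent.Lib.UnitPrimeDim.ThreeThreeField

abbrev E := Fin 9
abbrev Vec := Fin 3 → E
abbrev Mat := Fin 3 → Fin 3 → E

/-- `a + b w` with `w * w = 2 * w + 1` has code `a + 3 * b`. -/
def enc (a b : ℕ) : E := ⟨a % 3 + 3 * (b % 3), by omega⟩
def add (x y : E) : E := enc ((x : ℕ) % 3 + (y : ℕ) % 3) ((x : ℕ) / 3 + (y : ℕ) / 3)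
def mul (x y : E) : E :=
  enc ((x : ℕ) % 3 * ((y : ℕ) % 3) + (x : ℕ) / 3 * ((y : ℕ) / 3))
    ((x : ℕ) % 3 * ((y : ℕ) / 3) + (x : ℕ) / 3 * ((y : ℕ) % 3) + 2 * ((x : ℕ) / 3 * ((y : ℕ) / 3)))
def cj (x : E) : E := enc ((x : ℕ) % 3 + 2 * ((x : ℕ) / 3)) (2 * ((x : ℕ) / 3))
def neg (x : E) : E := enc (2 * ((x : ℕ) % 3)) (2 * ((x : ℕ) / 3))

def s3 (f : Fin 3 → E) : E := add (add (f 0) (f 1)) (f 2)
def mv (A : Mat) (v : Vec) : Vec := fun i => s3 fun k => mul (A i k) (v k)
def mm (A B : Mat) : Mat := fun i j => s3 fun k => mul (A i k) (B k j)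
def idM : Mat := fun i j => if i = j then 1 else 0
def hf (G : Mat) (x y : Vec) : E := s3 fun i => s3 fun j => mul (mul (x i) (cj (y j))) (G i j)
def unit (j : Fin 3) : Vec := fun i => if i = j then 1 else 0
def det3 (m : Mat) : E :=
  add (add (add (add (add (mul (mul (m 0 0) (m 1 1)) (m 2 2))
    (neg (mul (mul (m 0 0) (m 1 2)) (m 2 1))))
    (neg (mul (mul (m 0 1) (m 1 0)) (m 2 2))))
    (mul (mul (m 0 1) (m 1 2)) (m 2 0)))
    (mul (mul (m 0 2) (m 1 0)) (m 2 1)))
    (neg (mul (mul (m 0 2) (m 1 1)) (m 2 0)))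

def C : Mat := ![![0, 0, 1], ![1, 0, 4], ![0, 1, 3]]
def T : Mat := ![![0, 4, 0], ![3, 0, 0], ![3, 1, 2]]
def A : Mat := ![![0, 1, 4], ![1, 0, 4], ![0, 0, 2]]
def Cpow : Fin 3 → Mat := ![C, mm C C, mm (mm C C) (mm C C)]

/-- `f v (g ^ 2 v)`. -/
def d2 (c0 c1 : E) : E := add (add (mul 8 c1) (neg (mul 3 c0))) (cj c1)

/-- The Gram matrix of `v, g v, g ^ 2 v`. -/
def gram (c0 c1 : E) : Mat :=
  ![![c0, c1, d2 c0 c1], ![cj c1, c0, c1], ![cj (d2 c0 c1), cj c1, c0]]

def G0 : Mat := gram 1 0

def dec (n : ℕ) : Vec := fun i => ⟨n / 9 ^ (i : ℕ) % 9, Nat.mod_lt _ (by norm_num)⟩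
def code (v : Vec) : ℕ := (v 0 : ℕ) + 9 * ((v 1 : ℕ) + 9 * (v 2 : ℕ))

theorem dec_code (v : Vec) : dec (code v) = v := by
  funext i
  have h0 := (v 0).isLt
  have h1 := (v 1).isLt
  have h2 := (v 2).isLt
  fin_cases i <;> apply Fin.ext <;> simp [dec, code] <;> omega

def vecBool (p : Vec → Bool) : Bool := (List.range 729).all fun n => p (dec n)

theorem vecBool_spec {p : Vec → Bool} (h : vecBool p = true) (v : Vec) : p v = true := by
  have hlt : code v < 729 := by
    have h0 := (v 0).isLt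
    have h1 := (v 1).isLt
    have h2 := (v 2).isLt
    unfold code
    omega
  have := List.all_eq_true.1 h (code v) (List.mem_range.2 hlt)
  rwa [dec_code] at this

def xs : Fin 9 → ℕ := ![81, 351, 171, 163, 325, 495, 514, 172, 657]

theorem normalise : ∀ c1 : E, hf (gram 1 c1) (dec (xs c1)) (dec (xs c1)) = 1 ∧
    hf (gram 1 c1) (dec (xs c1)) (mv C (dec (xs c1))) = 0 := by decide +kernel

theorem nondeg_check :
    vecBool (fun a => decide ((∀ j, hf G0 a (unit j) = 0) → ∀ i, a i = 0)) = true := by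
  decide +kernel

theorem nondeg (a : Vec) (h : ∀ j, hf G0 a (unit j) = 0) (i : Fin 3) : a i = 0 :=
  of_decide_eq_true (vecBool_spec nondeg_check a) h i

/-- The matrix with first column `a` which carries `C` to `Y`. -/
def ext3 (Y : Mat) (a : Vec) : Mat := fun i j => (![a, mv Y a, mv Y (mv Y a)] : Fin 3 → Vec) j i

theorem gram_unit (m : Mat) : ∀ i j, mv m (unit j) i = m i j := by
  intro i j
  have key : ∀ a : E, mul a 0 = 0 ∧ mul a 1 = a ∧ add a 0 = a ∧ add 0 a = a := by decide
  fin_cases j <;> simp [mv, unit, s3, key]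

theorem ext3_spec (m Y : Mat) (h : ∀ i j, mm m C i j = mm Y m i j) :
    m = ext3 Y (fun i => m i 0) := by
  have key : ∀ a : E, mul a 0 = 0 ∧ mul a 1 = a ∧ add a 0 = a ∧ add 0 a = a := by decide
  have h1 : (fun i => m i 1) = mv Y (fun i => m i 0) := funext fun i => by
    have := h i 0
    simpa [mm, mv, C, s3, key] using this
  have h2 : (fun i => m i 2) = mv Y (fun i => m i 1) := funext fun i => by
    have := h i 1
    simpa [mm, mv, C, s3, key] using this
  funext i j
  fin_cases j
  · rfl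
  · exact congrFun h1 i
  · rw [h1] at h2; exact congrFun h2 i

def rootB (m : Mat) : Prop :=
  ∀ i j, add (add (mm m (mm m m) i j) (mul 6 (mm m m i j))) (add (mul 8 (m i j)) (neg (idM i j))) = 0

instance (m : Mat) : Decidable (rootB m) := by unfold rootB; infer_instance

theorem root_check : vecBool (fun a => decide (rootB (ext3 C a) →
    ∃ k : Fin 3, ∀ i j, ext3 C a i j = Cpow k i j)) = true := by decide +kernel

def S : List ℕ :=
  [46, 65, 94, 104, 120, 123, 136, 149, 178, 188, 191, 214, 237, 240, 273, 286, 305, 320, 332,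
    381, 394, 397, 414, 425, 449, 452, 460, 464, 517, 529, 546, 563, 577, 585, 596, 601, 631, 643,
    652, 681, 686, 698]

def okStab (m : Mat) : Bool := S.all fun s => S.contains (code (mv m (dec s)))

def isu (m : Mat) : Prop := ∀ i j, hf G0 (fun k => m k i) (fun k => m k j) = G0 i j

instance (m : Mat) : Decidable (isu m) := by unfold isu; infer_instance

theorem norm_check : ∀ k : Fin 3, vecBool (fun a => decide (hf G0 a a = 1 →
    isu (ext3 (Cpow k) a) → det3 (ext3 (Cpow k) a) = 1 → okStab (ext3 (Cpow k) a) = true)) = true := by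
  decide +kernel

theorem okStab_norm (k : Fin 3) (a : Vec) (h : isu (ext3 (Cpow k) a))
    (hd : det3 (ext3 (Cpow k) a) = 1) : okStab (ext3 (Cpow k) a) = true :=
  of_decide_eq_true (vecBool_spec (norm_check k) a) (h 0 0) h hd

theorem okStab_T : okStab T = true := by decide +kernel
theorem moved : S.contains (code (mv A (dec 46))) = false := by decide +kernel
theorem mem_46 : 46 ∈ S := by decide
theorem code_dec : ∀ s ∈ S, code (dec s) = s := by decide +kernel

theorem isu_T : isu T := by decide +kernel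
theorem isu_A : isu A := by decide +kernel
theorem det_T : det3 T = 1 := by decide +kernel
theorem det_A : det3 A = 1 := by decide +kernel
theorem sq_T : ∀ i j, mm T T i j = idM i j := by decide +kernel
theorem sq_A : ∀ i j, mm A A i j = idM i j := by decide +kernel
theorem T_not_normal : ¬ ∀ i j, mm (mm (mm T C) T) C i j = mm C (mm (mm T C) T) i j := by
  decide +kernel

end Cfsg.Agent.Lib.UnitPrimeDim.ThreeThreeField
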