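import Mathlib
import Cfsg.Prelude.Def_GeometricClasses
import Cfsg.Agent.Lib.Classical.HermForm
import Cfsg.Agent.Lib.UnitPrimeDim.Reduce
import Cfsg.Agent.Lib.UnitPrimeDim.Proper
import Cfsg.Agent.Lib.UnitPrimeDim.ThreeThreeFieldModel
import Cfsg.Agent.Lib.KnownA.PrimeDim.Clifford

/-!
In the three-dimensional unitary group over the field with nine elements, the normaliser of a
degree three field subalgebra is not maximal.
-/

set_option autoImplicit false
set_option maxHeartbeats 1000000
set_option linter.unusedSimpArgs false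
set_option linter.unusedSectionVars false

namespace Cfsg.Agent.Lib.UnitPrimeDim.ThreeThreeField

open scoped Matrix
open Cfsg.Geo

variable {F : Type*} [Field F] [Fintype F] {w : F}

local notation "f" => Cfsg.hermForm 3 F 3
local notation "MM" => Matrix (Fin 3) (Fin 3) F
local notation "GLn" => Matrix.GeneralLinearGroup (Fin 3) F
local notation "VV" => (Fin 3 → F)

/-- The data identifying the field with the model. -/
structure IsNine (w : F) : Prop where
  hw : w * w = 2 * w + 1
  three : (3 : F) = 0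
  card : Fintype.card F = 9

theorem exists_isNine (hF : Fintype.card F = 3 ^ 2) : ∃ w : F, IsNine w := by
  have h9 : Fintype.card F = 9 := by simpa using hF
  have three : (3 : F) = 0 := by
    have h : ((Fintype.card F : ℕ) : F) = 0 := FiniteField.cast_card_eq_zero F
    rw [h9] at h
    push_cast at h
    have : (3 : F) * 3 = 0 := by linear_combination h
    exact mul_self_eq_zero.1 this
  obtain ⟨i, hi⟩ := (FiniteField.isSquare_neg_one_iff (F := F)).2 (by rw [h9]; decide)
  exact ⟨1 + i, by linear_combination -hi - three, three, h9⟩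

def phi (w : F) (x : E) : F := ((((x : ℕ) % 3 : ℕ)) : F) + (((x : ℕ) / 3 : ℕ) : F) * w

namespace IsNine

variable (hT : IsNine w)
include hT

theorem cast_mod (n : ℕ) : ((n % 3 : ℕ) : F) = (n : F) := by
  conv_rhs => rw [← Nat.mod_add_div n 3]
  push_cast
  rw [hT.three]
  ring

theorem phi_enc (a b : ℕ) : phi w (enc a b) = (a : F) + (b : F) * w := by
  have h1 : ((enc a b : E) : ℕ) % 3 = a % 3 := by simp [enc]
  have h2 : ((enc a b : E) : ℕ) / 3 = b % 3 := by simp [enc]; omega
  simp only [phi, h1, h2, hT.cast_mod]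

theorem phi_add (a b : E) : phi w (add a b) = phi w a + phi w b := by
  rw [add, hT.phi_enc]; simp only [phi]; push_cast; ring

theorem phi_neg (a : E) : phi w (neg a) = -phi w a := by
  rw [neg, hT.phi_enc]; simp only [phi]; push_cast
  linear_combination ((((a : ℕ) % 3 : ℕ) : F) + (((a : ℕ) / 3 : ℕ) : F) * w) * hT.three

theorem phi_mul (a b : E) : phi w (mul a b) = phi w a * phi w b := by
  rw [mul, hT.phi_enc]; simp only [phi]; push_cast
  linear_combination (-((((a : ℕ) / 3 : ℕ) : F) * (((b : ℕ) / 3 : ℕ) : F))) * hT.hw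

theorem phi_zero : phi w 0 = 0 := by simp [phi]
theorem phi_one : phi w 1 = 1 := by simp [phi]
theorem phi_w : phi w 3 = w := by simp [phi]
theorem phi_wc : phi w 8 = -1 - w := by
  simp [phi]; linear_combination (1 + w) * hT.three
theorem phi_nw : phi w 6 = -w := by
  simp [phi]; linear_combination w * hT.three

theorem wcube : w ^ 3 = -1 - w := by
  linear_combination (w + 2) * hT.hw + (2 * w + 1) * hT.three

theorem wne : w - 1 ≠ 0 := fun h => by
  have h1 : w = 1 := sub_eq_zero.1 h
  have hw := hT.hw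
  rw [h1] at hw
  exact one_ne_zero (α := F) (by linear_combination hT.three + hw)

theorem charP : CharP F 3 := by
  have h : ringChar F ∣ 3 := (CharP.cast_eq_zero_iff F (ringChar F) 3).1 (by exact_mod_cast hT.three)
  rcases (Nat.dvd_prime Nat.prime_three).1 h with h1 | h1
  · have := CharP.char_ne_one (R := F) (ringChar F); exact absurd h1 this
  · exact h1 ▸ ringChar.charP F

theorem phi_cj (a : E) : phi w (cj a) = phi w a ^ 3 := by
  have : Fact (Nat.Prime 3) := ⟨Nat.prime_three⟩
  have := hT.charP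
  have hnat : ∀ n : ℕ, (n : F) ^ 3 = n := fun n => by rw [← frobenius_def, map_natCast]
  rw [cj, hT.phi_enc]; simp only [phi]
  rw [add_pow_char, mul_pow, hnat, hnat, hT.wcube]
  push_cast
  linear_combination ((((a : ℕ) / 3 : ℕ) : F) * (1 + w)) * hT.three

theorem phi_s3 (g : Fin 3 → E) : phi w (s3 g) = ∑ i, phi w (g i) := by
  simp only [s3, hT.phi_add, Fin.sum_univ_three]

theorem phi_eq_zero (a : E) (h : phi w a = 0) : a = 0 := by
  by_contra ha
  have key : ∀ a : E, a ≠ 0 → ∃ b, mul a b = 1 := by decide +kernel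
  obtain ⟨b, hb⟩ := key a ha
  have := congrArg (phi w) hb
  rw [hT.phi_mul, h, zero_mul, hT.phi_one] at this
  exact zero_ne_one this

theorem phi_inj : Function.Injective (phi w) := fun a b h => by
  have key : ∀ a b : E, add a (neg b) = 0 → a = b := by decide +kernel
  exact key a b (hT.phi_eq_zero _ (by rw [hT.phi_add, hT.phi_neg, h, add_neg_cancel]))

theorem phi_surj (x : F) : ∃ a, phi w a = x :=
  ((Fintype.bijective_iff_injective_and_card _).2 ⟨hT.phi_inj, by rw [Fintype.card_fin, hT.card]⟩).2 x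

end IsNine

theorem herm_add_right' (hF : Fintype.card F = 3 ^ 2) (x a b : VV) : f x (a + b) = f x a + f x b :=
  map_add (hermRight hF x) a b

/-- Coordinates to vectors, along a family. -/
def lin (e : Fin 3 → VV) (a : Fin 3 → F) : VV := a 0 • e 0 + a 1 • e 1 + a 2 • e 2

theorem herm_lin (hF : Fintype.card F = 3 ^ 2) (hT : IsNine w) (e : Fin 3 → VV) (G : Mat)
    (h : ∀ i j, f (e i) (e j) = phi w (G i j)) (a b : Vec) :
    f (lin e (phi w ∘ a)) (lin e (phi w ∘ b)) = phi w (hf G a b) := by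
  simp only [hf, hT.phi_s3, hT.phi_mul, hT.phi_cj, lin, Function.comp_apply, herm_add_left,
    herm_add_right' hF, herm_smul_left, herm_smul_right, h, Fin.sum_univ_three]
  ring

/-- The Gram matrix of the orbit of `v` under `g` is determined by two entries. -/
theorem gram_spec (hF : Fintype.card F = 3 ^ 2) (hT : IsNine w) (Gm : MM)
    (hGU : ∀ (u v : VV), f (Gm *ᵥ u) (Gm *ᵥ v) = f u v)
    (hrec : ∀ u : VV, Gm *ᵥ (Gm *ᵥ (Gm *ᵥ u)) = w • (Gm *ᵥ (Gm *ᵥ u)) + (1 + w) • (Gm *ᵥ u) + u)
    (v : VV) (c0 c1 : E) (h0 : f v v = phi w c0) (h1 : f v (Gm *ᵥ v) = phi w c1) (i j : Fin 3) :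
    f ((![v, Gm *ᵥ v, Gm *ᵥ (Gm *ᵥ v)] : Fin 3 → VV) i) ((![v, Gm *ᵥ v, Gm *ᵥ (Gm *ᵥ v)] : Fin 3 → VV) j) =
      phi w (gram c0 c1 i j) := by
  set a := Gm *ᵥ v with ha
  set b := Gm *ᵥ a with hb
  have haa : f a a = phi w c0 := by rw [ha, hGU, h0]
  have hab : f a b = phi w c1 := by rw [hb, ha, hGU, h1]
  have hbb : f b b = phi w c0 := by rw [hb, hGU, haa]
  have hav : f a v = phi w c1 ^ 3 := by rw [← herm_symm hF, h1]
  have hvb : f v b = phi w (d2 c0 c1) := by
    have h := hGU v b
    rw [← ha, hb, ha, hrec, ← ha, ← hb, herm_add_right' hF, herm_add_right' hF, herm_smul_right,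
      herm_smul_right, haa, hab, hav] at h
    have hw3 := hT.wcube
    have h1w : (1 + w) ^ 3 = 1 + w ^ 3 := by linear_combination (w + w ^ 2) * hT.three
    rw [h1w, hw3] at h
    simp only [d2, hT.phi_add, hT.phi_mul, hT.phi_neg, hT.phi_cj, hT.phi_wc, hT.phi_w]
    linear_combination -h
  have hba : f b a = phi w c1 ^ 3 := by rw [← herm_symm hF, hab]
  have hbv : f b v = phi w (d2 c0 c1) ^ 3 := by rw [← herm_symm hF, hvb]
  fin_cases i <;> fin_cases j <;>
    simp [gram, h0, h1, haa, hab, hbb, hav, hvb, hba, hbv, hT.phi_cj]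

/-- Realisation of a model matrix on a basis matrix `P`. -/
noncomputable def real (w : F) (P : GLn) (m : Mat) : MM :=
  (P : MM) * Matrix.of (fun i j => phi w (m i j)) * ((P⁻¹ : GLn) : MM)

abbrev J (w : F) (P : GLn) (a : Vec) : VV := (P : MM) *ᵥ (phi w ∘ a)

theorem real_act (hT : IsNine w) (P : GLn) (m : Mat) (a : Vec) :
    real w P m *ᵥ J w P a = J w P (mv m a) := by
  rw [J, J, real, Matrix.mulVec_mulVec, Matrix.mul_assoc, ← Units.val_mul,
    inv_mul_cancel, Units.val_one, Matrix.mul_one, ← Matrix.mulVec_mulVec]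
  congr 1
  funext i
  simp [Matrix.mulVec, dotProduct, mv, hT.phi_s3, hT.phi_mul]

theorem J_surj (hT : IsNine w) (P : GLn) (u : VV) : ∃ a : Vec, J w P a = u := by
  have : ∀ i, ∃ x, phi w x = (((P⁻¹ : GLn) : MM) *ᵥ u) i := fun i => hT.phi_surj _
  choose x hx using this
  exact ⟨x, by rw [J, show phi w ∘ x = ((P⁻¹ : GLn) : MM) *ᵥ u from funext hx,
    Cfsg.Agent.Lib.KnownA.PrimeDim.mul_inv_cancel_vec]⟩

theorem J_inj (hT : IsNine w) (P : GLn) {a b : Vec} (h : J w P a = J w P b) : a = b :=
  funext fun i => hT.phi_inj (congrFun (Cfsg.Agent.Lib.KnownA.PrimeDim.mulVec_injective P h) i)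

theorem real_mul (hT : IsNine w) (P : GLn) (a b : Mat) :
    real w P (mm a b) = real w P a * real w P b := by
  have : (Matrix.of fun i j => phi w (mm a b i j) : MM) =
      Matrix.of (fun i j => phi w (a i j)) * Matrix.of (fun i j => phi w (b i j)) := by
    ext i j
    simp only [Matrix.of_apply, Matrix.mul_apply, mm, hT.phi_s3, hT.phi_mul]
  simp only [real, this, Matrix.mul_assoc, ← Matrix.mul_assoc ((P⁻¹ : GLn) : MM), ← Units.val_mul,
    inv_mul_cancel, Units.val_one, Matrix.one_mul]

theorem real_id (hT : IsNine w) (P : GLn) {m : Mat} (hm : ∀ i j, m i j = idM i j) :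
    real w P m = 1 := by
  have : (Matrix.of fun i j => phi w (m i j) : MM) = 1 := by
    ext i j
    by_cases h : i = j
    · subst h; simp [hm, idM, hT.phi_one]
    · simp [hm, idM, h, hT.phi_zero]
  simp [real, this, ← Units.val_mul]

theorem real_inj (hT : IsNine w) (P : GLn) {a b : Mat} (h : real w P a = real w P b) (i j : Fin 3) :
    a i j = b i j := by
  have h' := congrArg (fun X : MM => ((P⁻¹ : GLn) : MM) * X * (P : MM)) h
  simp only [real, Matrix.mul_assoc, ← Units.val_mul, inv_mul_cancel, Units.val_one,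
    Matrix.mul_one] at h'
  simp only [← Matrix.mul_assoc, ← Units.val_mul, inv_mul_cancel, Units.val_one,
    Matrix.one_mul] at h'
  exact hT.phi_inj (congrFun (congrFun h' i) j)

theorem exists_model (hT : IsNine w) (P : GLn) (X : MM) : ∃ m : Mat, real w P m = X := by
  have : ∀ i j, ∃ x, phi w x = (((P⁻¹ : GLn) : MM) * X * (P : MM)) i j := fun i j => hT.phi_surj _
  choose m hm using this
  refine ⟨m, ?_⟩
  rw [real, show (Matrix.of fun i j => phi w (m i j) : MM) = ((P⁻¹ : GLn) : MM) * X * (P : MM) from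
    Matrix.ext hm]
  simp only [← Matrix.mul_assoc, ← Units.val_mul, mul_inv_cancel, Units.val_one, Matrix.one_mul]
  rw [Matrix.mul_assoc, ← Units.val_mul, mul_inv_cancel, Units.val_one, Matrix.mul_one]

theorem det_real (hT : IsNine w) (P : GLn) (m : Mat) : (real w P m).det = phi w (det3 m) := by
  rw [real, Matrix.det_mul, Matrix.det_mul, mul_comm (P : MM).det, mul_assoc, ← Matrix.det_mul,
    ← Units.val_mul, mul_inv_cancel, Units.val_one, Matrix.det_one, mul_one, Matrix.det_fin_three]
  simp only [Matrix.of_apply, det3, hT.phi_add, hT.phi_neg, hT.phi_mul]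
  ring

/-- A frame in which `g` is its companion matrix and the form has Gram matrix `G0`. -/
theorem exists_frame (hF : Fintype.card F = 3 ^ 2) (hT : IsNine w) (Gm : MM)
    (hGU : ∀ (u v : VV), f (Gm *ᵥ u) (Gm *ᵥ v) = f u v)
    (hrec : ∀ u : VV, Gm *ᵥ (Gm *ᵥ (Gm *ᵥ u)) = w • (Gm *ᵥ (Gm *ᵥ u)) + (1 + w) • (Gm *ᵥ u) + u) :
    ∃ P : GLn, (∀ a b : Vec, f (J w P a) (J w P b) = phi w (hf G0 a b)) ∧
      real w P C = Gm := by
  let v : VV := Pi.single 0 1
  have h0 : f v v = phi w 1 := by
    simp [v, Cfsg.hermForm, Fin.sum_univ_three, hT.phi_one]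
  obtain ⟨c1, h1⟩ := hT.phi_surj (f v (Gm *ᵥ v))
  have hG := gram_spec hF hT Gm hGU hrec v 1 c1 h0 h1.symm
  set e : VV → Fin 3 → VV := fun z => ![z, Gm *ᵥ z, Gm *ᵥ (Gm *ᵥ z)] with he
  have hstep : ∀ (z : VV) (a : Vec), Gm *ᵥ lin (e z) (phi w ∘ a) = lin (e z) (phi w ∘ mv C a) := by
    intro z a
    simp only [lin, he, Matrix.mulVec_add, Matrix.mulVec_smul, Matrix.cons_val_zero, Matrix.cons_val_one,
      Matrix.cons_val_two, Matrix.head_cons, Matrix.tail_cons, hrec, Function.comp_apply]
    simp only [mv, C, s3, hT.phi_add, hT.phi_mul, Matrix.cons_val_zero, Matrix.cons_val_one,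
      Matrix.cons_val_two, Matrix.head_cons, Matrix.tail_cons, hT.phi_one, hT.phi_zero, hT.phi_w,
      show phi w 4 = 1 + w by simp [phi]]
    simp only [smul_add, smul_smul, add_smul, zero_mul, one_mul, zero_smul, zero_add, add_zero]
    module
  set z : VV := lin (e v) (phi w ∘ dec (xs c1)) with hz
  have hz0 : f z z = phi w 1 := by rw [hz, herm_lin hF hT _ _ hG, (normalise c1).1]
  have hz1 : f z (Gm *ᵥ z) = phi w 0 := by rw [hz, hstep, herm_lin hF hT _ _ hG, (normalise c1).2]
  have hG' := gram_spec hF hT Gm hGU hrec z 1 0 hz0 hz1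
  let Pm : MM := Matrix.of fun i j => e z j i
  have hPlin : ∀ a, Pm *ᵥ a = lin (e z) a := fun a => by
    ext i
    simp [Pm, lin, Matrix.mulVec, dotProduct, Fin.sum_univ_three, mul_comm]
  have hform : ∀ a b : Vec, f (Pm *ᵥ (phi w ∘ a)) (Pm *ᵥ (phi w ∘ b)) = phi w (hf G0 a b) := by
    intro a b
    rw [hPlin, hPlin]
    exact herm_lin hF hT _ G0 hG' a b
  have hinj : Function.Injective Pm.mulVec := by
    intro a b hab
    have hd : Pm *ᵥ (a - b) = 0 := by rw [Matrix.mulVec_sub, sub_eq_zero.2 hab]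
    have : ∀ i, ∃ x, phi w x = (a - b) i := fun i => hT.phi_surj _
    choose x hx using this
    rw [show a - b = phi w ∘ x from (funext hx).symm] at hd
    have hx0 : ∀ i, x i = 0 := nondeg x fun j => hT.phi_eq_zero _ (by
      rw [← hform, hd]; simp [Cfsg.hermForm])
    refine sub_eq_zero.1 (funext fun i => ?_)
    rw [← hx, hx0, hT.phi_zero]; rfl
  obtain ⟨P, hP⟩ := Matrix.mulVec_injective_iff_isUnit.1 hinj
  refine ⟨P, fun a b => by rw [J, J, hP]; exact hform a b, ?_⟩
  refine Cfsg.Agent.Lib.KnownA.PrimeDim.eq_of_mulVec fun u => ?_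
  obtain ⟨a, rfl⟩ := J_surj hT P u
  rw [real_act hT, J, J, hP, hPlin, hPlin, hstep]

theorem real_isometry (hF : Fintype.card F = 3 ^ 2) (hT : IsNine w) (P : GLn)
    (hP : ∀ a b : Vec, f (J w P a) (J w P b) = phi w (hf G0 a b)) (m : Mat) (hm : isu m)
    (x y : VV) : f (real w P m *ᵥ x) (real w P m *ᵥ y) = f x y := by
  obtain ⟨a, rfl⟩ := J_surj hT P x
  obtain ⟨b, rfl⟩ := J_surj hT P y
  have hlin : ∀ c : Vec, real w P m *ᵥ J w P c =
      lin (fun i => real w P m *ᵥ J w P (unit i)) (phi w ∘ c) := by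
    intro c
    simp only [lin, Function.comp_apply, ← Matrix.mulVec_smul, ← Matrix.mulVec_add, J]
    congr 2
    funext i
    fin_cases i <;> simp [unit, hT.phi_one, hT.phi_zero]
  rw [hlin a, hlin b, herm_lin hF hT _ G0 (fun i j => ?_), hP]
  rw [real_act hT, real_act hT, hP, show mv m (unit i) = fun k => m k i from funext fun k => gram_unit m k i,
    show mv m (unit j) = fun k => m k j from funext fun k => gram_unit m k j, hm i j]

/-- The set of vectors. -/
def pts (w : F) (P : GLn) : Set VV := {x | ∃ s ∈ S, x = J w P (dec s)}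

theorem mapsTo_of_okStab (hT : IsNine w) (P : GLn) (m : Mat) (hm : okStab m = true) :
    ∀ x ∈ pts w P, real w P m *ᵥ x ∈ pts w P := by
  rintro _ ⟨s, hs, rfl⟩
  refine ⟨_, List.contains_iff_mem.1 (List.all_eq_true.1 hm s hs), ?_⟩
  rw [dec_code, real_act hT]

/-- The cubic factor of the cyclotomic polynomial. -/
def poly0 {R : Type*} [CommRing R] (W y : R) : R := y ^ 3 - W * y ^ 2 + (-1 - W) * y - 1

/-- The other cubic factor. -/
def poly1 {R : Type*} [CommRing R] (W y : R) : R := y ^ 3 - (-1 - W) * y ^ 2 + W * y - 1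

theorem exists_root {K : Type*} [Field K] [Finite K] (hcard : Nat.card K = 729) {W : K}
    (hW : W * W = 2 * W + 1) (three : (3 : K) = 0) : ∃ g : K, g ^ 7 = 1 ∧ g ≠ 1 ∧ poly0 W g = 0 := by
  obtain ⟨gu, hgu⟩ : ∃ g : Kˣ, orderOf g = 7 := by
    have : Fact (Nat.Prime 7) := ⟨by norm_num⟩
    apply exists_prime_orderOf_dvd_card'
    rw [Nat.card_units, hcard]
    norm_num
  have h7 : (gu : K) ^ 7 = 1 := by
    rw [← Units.val_pow_eq_pow_val, ← hgu, pow_orderOf_eq_one, Units.val_one]
  have h1 : (gu : K) ≠ 1 := fun h => by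
    rw [Units.val_eq_one] at h
    simp [h] at hgu
  by_cases h0 : poly0 W (gu : K) = 0
  · exact ⟨gu, h7, h1, h0⟩
  · generalize hy : (gu : K) = y at *
    have h : poly1 W y = 0 := by
      have : (y - 1) * (poly0 W y * poly1 W y) = 0 := by
        simp only [poly0, poly1]
        grind
      rcases mul_eq_zero.1 this with h | h
      · exact absurd (sub_eq_zero.1 h) h1
      · exact (mul_eq_zero.1 h).resolve_left h0
    refine ⟨y ^ 3, by rw [← pow_mul, mul_comm, pow_mul, h7, one_pow], fun h2 => h1 ?_, ?_⟩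
    · calc y = (y ^ 3) ^ 5 / (y ^ 7) ^ 2 := by
            rw [h7, one_pow, div_one, ← pow_mul, show (3 * 5 : ℕ) = 7 * 2 + 1 by norm_num, pow_succ, pow_mul, h7]; ring
        _ = 1 := by rw [h2, h7]; simp
    · have : poly0 W (y ^ 3) = poly1 W y ^ 3 := by
        simp only [poly0, poly1]; grind
      rw [this, h]; ring

set_option maxHeartbeats 2000000 in
set_option linter.style.haveILetI false in
/-- **The exception**: for `q = 3` the normaliser of a degree three field is not maximal. -/
theorem not_maximal_subalgebraNormalizer (hF : Fintype.card F = 3 ^ 2)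
    {K : Subalgebra F MM} (hK : IsFieldSubalgebra 3 K) (hA : IsAdjointClosedFor f K)
    (H : Subgroup GLn) (hHeq : H = subalgebraNormalizer K ⊓ omegaU 3 F 3) :
    ¬ IsMaximalIn (omegaU 3 F 3) H := by
  classical
  intro hmax
  obtain ⟨w, hT⟩ := exists_isNine hF
  have hKf : IsField K := ⟨exists_pair_ne K, fun x y => Subtype.ext (hK.comm x x.2 y y.2),
    fun {a} ha => by
      obtain ⟨b, hb, hab⟩ := hK.inv a a.2 (fun h => ha (Subtype.ext h))
      exact ⟨⟨b, hb⟩, Subtype.ext hab⟩⟩
  letI : Field K := hKf.toField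
  haveI : Finite K := Module.finite_of_finite F
  have three : (3 : K) = 0 := Subtype.ext (by
    show (3 : MM) = 0
    rw [← map_ofNat (algebraMap F MM) 3, hT.three, map_zero])
  have hcard : Nat.card K = 729 := by
    rw [Module.natCard_eq_pow_finrank (K := F), hK.finrank_eq, Nat.card_eq_fintype_card, hT.card]
    norm_num
  let W : K := algebraMap F K w
  have hW : W * W = 2 * W + 1 := by
    simpa only [map_mul, map_add, map_one, map_ofNat] using congrArg (algebraMap F K) hT.hw
  have coe0 : ∀ y : K, ((poly0 W y : K) : MM) =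
      (y : MM) ^ 3 - w • (y : MM) ^ 2 + (-1 - w) • (y : MM) - 1 := fun y => by
    simp only [poly0]
    push_cast [W, Subalgebra.coe_algebraMap]
    simp only [Algebra.algebraMap_eq_smul_one, sub_mul, neg_mul, smul_mul_assoc, one_mul, sub_smul, neg_smul, one_smul]
  have coe1 : ∀ y : K, ((poly1 W y : K) : MM) =
      (y : MM) ^ 3 - (-1 - w) • (y : MM) ^ 2 + w • (y : MM) - 1 := fun y => by
    simp only [poly1]
    push_cast [W, Subalgebra.coe_algebraMap]
    simp only [Algebra.algebraMap_eq_smul_one, sub_mul, neg_mul, smul_mul_assoc, one_mul, sub_smul, neg_smul, one_smul]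
  obtain ⟨g, hg7, hg1, hgf0⟩ := exists_root hcard hW three
  obtain ⟨Gm, hGm⟩ : ∃ X : MM, X = (g : MM) := ⟨_, rfl⟩
  have hGmK : Gm ∈ K := hGm ▸ g.2
  have hGm7 : Gm ^ 7 = 1 := by
    have := congrArg (fun z : K => (z : MM)) hg7
    simpa [hGm] using this
  have hf0m : Gm ^ 3 - w • Gm ^ 2 + (-1 - w) • Gm - 1 = 0 := by
    rw [hGm, ← coe0, hgf0]; rfl
  have : Fact (Nat.Prime 7) := ⟨by norm_num⟩
  have hprim : IsPrimitiveRoot g 7 := orderOf_eq_prime hg7 hg1 ▸ IsPrimitiveRoot.orderOf g
  obtain ⟨g', hg'K, hadj⟩ := hA Gm hGmK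
  have uniq : ∀ X Y : MM, (∀ u v, f u (X *ᵥ v) = f u (Y *ᵥ v)) → X = Y := by
    intro X Y h
    refine Cfsg.Agent.Lib.KnownA.PrimeDim.eq_of_mulVec fun v => ?_
    refine sub_eq_zero.1 (herm_nondeg hF fun u => ?_)
    show hermRight hF u (X *ᵥ v - Y *ᵥ v) = 0
    rw [map_sub]
    exact sub_eq_zero.2 (h u v)
  have hadjp : ∀ (i : ℕ) (u v : VV), f ((Gm ^ i) *ᵥ u) v = f u ((g' ^ i) *ᵥ v) := by
    intro i
    induction i with
    | zero => intro u v; simp
    | succ i ih =>
      intro u v
      rw [pow_succ' Gm, ← Matrix.mulVec_mulVec, hadj, ih, Matrix.mulVec_mulVec, ← pow_succ]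
  have hg'7 : g' ^ 7 = 1 := uniq _ _ fun u v => by
    rw [← hadjp, hGm7, Matrix.one_mulVec, Matrix.one_mulVec]
  obtain ⟨i, hi, hig⟩ := hprim.eq_pow_of_pow_eq_one
    (ξ := (⟨g', hg'K⟩ : K)) (Subtype.ext (by simpa using hg'7))
  have hg' : g' = Gm ^ i := by
    have := congrArg (fun z : K => (z : MM)) hig
    simpa [hGm] using this.symm
  have hii : g ^ (i * i) = g := by
    refine Subtype.ext (uniq _ _ fun u v => ?_)
    push_cast
    rw [← hGm, pow_mul, ← hg', ← hadjp, ← hg']
    rw [← herm_symm hF (Gm *ᵥ v) u, hadj, herm_symm hF]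
  have hi6 : i = 6 := by
    have hmod : g ^ (i * i) = g ^ (i * i % 7) := by
      conv_lhs => rw [← Nat.div_add_mod (i * i) 7, pow_add, pow_mul, hg7, one_pow, one_mul]
    rw [hii] at hmod
    have h1 : 1 = i * i % 7 := hprim.pow_inj (by norm_num) (Nat.mod_lt _ (by norm_num))
      (by rw [pow_one]; exact hmod)
    have hne1 : i ≠ 1 := by
      rintro rfl
      rw [pow_one] at hg'
      have hp1 : poly1 W g = 0 := Subtype.ext (uniq _ _ fun u v => by
        rw [coe1, ← hGm, ZeroMemClass.coe_zero, Matrix.zero_mulVec]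
        have e : ∀ k, f ((Gm ^ k) *ᵥ u) v = f u ((Gm ^ k) *ᵥ v) := fun k => by rw [hadjp, hg']
        have e1 : f (Gm *ᵥ u) v = f u (Gm *ᵥ v) := by rw [hadj, hg']
        have h0 := congrArg (fun X : MM => f (X *ᵥ u) v) hf0m
        have hz : f (0 : VV) v = 0 := by simp [Cfsg.hermForm]
        have hz' : f u (0 : VV) = 0 := map_zero (hermRight hF u)
        have hsubl : ∀ a b, f (a - b) v = f a v - f b v := fun a b => by
          have := herm_add_left (q := 3) (a - b) b v
          rw [sub_add_cancel] at this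
          linear_combination -this
        have hsubr : ∀ a b, f u (a - b) = f u a - f u b := fun a b => map_sub (hermRight hF u) a b
        simp only [Matrix.sub_mulVec, Matrix.add_mulVec, Matrix.smul_mulVec, Matrix.one_mulVec, Matrix.zero_mulVec,
          hsubl, herm_add_left, herm_smul_left, hz] at h0
        simp only [Matrix.sub_mulVec, Matrix.add_mulVec, Matrix.smul_mulVec, Matrix.one_mulVec, hsubr, hz',
          herm_add_right' hF, herm_smul_right]
        rw [← e, ← e, ← e1]
        have hw3 := hT.wcube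
        have h1w : (-1 - w) ^ 3 = -1 - w ^ 3 := by linear_combination (-w - w ^ 2) * hT.three
        rw [h1w, hw3]
        linear_combination h0)
      have hd : (W - 1) * (g * (g + 1)) = 0 := by
        simp only [poly0] at hgf0
        simp only [poly1] at hp1
        linear_combination hgf0 - hp1 + (W * g + W * g ^ 2) * three
      rcases mul_eq_zero.1 hd with h | h
      · have hW1 : W = 1 := sub_eq_zero.1 h
        rw [hW1] at hW
        exact one_ne_zero (α := K) (by linear_combination three + hW)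
      · rcases mul_eq_zero.1 h with h | h
        · rw [h, zero_pow (by norm_num)] at hg7; exact zero_ne_one hg7
        · rw [eq_neg_of_add_eq_zero_left h] at hg7
          exact one_ne_zero (α := K) (by linear_combination three + hg7)
    interval_cases i <;> omega
  rw [hi6] at hg'
  have hGU : ∀ u v, f (Gm *ᵥ u) (Gm *ᵥ v) = f u v := fun u v => by
    rw [hadj, hg', Matrix.mulVec_mulVec, ← pow_succ, hGm7, Matrix.one_mulVec]
  have hrec : ∀ u : VV, Gm *ᵥ (Gm *ᵥ (Gm *ᵥ u)) = w • (Gm *ᵥ (Gm *ᵥ u)) + (1 + w) • (Gm *ᵥ u) + u := by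
    intro u
    have h := congrArg (fun X : MM => X *ᵥ u) hf0m
    simp only [Matrix.sub_mulVec, Matrix.add_mulVec, Matrix.smul_mulVec, Matrix.one_mulVec, Matrix.zero_mulVec,
      pow_succ, pow_zero, one_mul, ← Matrix.mulVec_mulVec] at h
    rw [← sub_eq_zero, ← h]
    module
  obtain ⟨P, hP, hC⟩ := exists_frame hF hT Gm hGU hrec
  have mkI : ∀ m : Mat, (∀ i j, mm m m i j = idM i j) → real w P m * real w P m = 1 :=
    fun m h => by rw [← real_mul hT, real_id hT P h]
  let Tg : GLn := ⟨real w P T, real w P T, mkI _ sq_T, mkI _ sq_T⟩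
  let Ag : GLn := ⟨real w P A, real w P A, mkI _ sq_A, mkI _ sq_A⟩
  have detone : ∀ (x : GLn) (m : Mat), (x : MM) = real w P m → det3 m = 1 →
      Matrix.GeneralLinearGroup.det x = 1 := fun x m hx hm => Units.ext (by
    show (x : MM).det = 1
    rw [hx, det_real hT, hm, hT.phi_one])
  have hTΩ : Tg ∈ omegaU 3 F 3 :=
    Subgroup.mem_inf.2 ⟨real_isometry hF hT P hP T isu_T, detone Tg T rfl det_T⟩
  have hAΩ : Ag ∈ omegaU 3 F 3 :=
    Subgroup.mem_inf.2 ⟨real_isometry hF hT P hP A isu_A, detone Ag A rfl det_A⟩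
  let L : Set VV := pts w P
  let St : Subgroup GLn :=
    { carrier := {h | ∀ x, x ∈ L ↔ (h : MM) *ᵥ x ∈ L}
      one_mem' := fun x => by simp
      mul_mem' := fun {a b} ha hb x => by rw [hb x, ha, Matrix.mulVec_mulVec, Units.val_mul]
      inv_mem' := fun {a} ha x => by
        rw [ha (((a⁻¹ : GLn) : MM) *ᵥ x), Matrix.mulVec_mulVec, ← Units.val_mul,
          mul_inv_cancel, Units.val_one, Matrix.one_mulVec] }
  have hmem : ∀ h : GLn, (∀ x ∈ L, (h : MM) *ᵥ x ∈ L) → h ∈ St := by
    intro h hh x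
    refine ⟨hh x, fun hx => ?_⟩
    have hinj' := Cfsg.Agent.Lib.KnownA.PrimeDim.mulVec_injective h
    let r : L → L := fun y => ⟨(h : MM) *ᵥ (y : VV), hh y y.2⟩
    have hr : Function.Injective r := fun a b hab =>
      Subtype.ext (hinj' (congrArg Subtype.val hab))
    obtain ⟨y, hy⟩ := Finite.injective_iff_surjective.1 hr ⟨_, hx⟩
    have := hinj' (congrArg Subtype.val hy)
    exact this ▸ y.2
  have hHM : H ≤ St ⊓ omegaU 3 F 3 := by
    intro h hh
    rw [hHeq] at hh
    obtain ⟨hhK, hhU, hdet⟩ := hh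
    refine ⟨?_, hhU, hdet⟩
    set Y : MM := (h : MM) * Gm * ((h⁻¹ : GLn) : MM) with hYdef
    have hYK : Y ∈ K := (hhK Gm).1 hGmK
    obtain ⟨y, hy⟩ := exists_model hT P Y
    obtain ⟨m, hm⟩ := exists_model hT P (h : MM)
    have hyC : y = ext3 C (fun i => y i 0) := ext3_spec y C fun i j => real_inj hT P (by
      rw [real_mul hT, real_mul hT, hC, hy]; exact hK.comm _ hYK _ hGmK) i j
    have hY3 : Y ^ 3 - w • Y ^ 2 + (-1 - w) • Y - 1 = 0 := by
      have h' := congrArg (fun X : MM => (h : MM) * X * ((h⁻¹ : GLn) : MM)) hf0m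
      simp only [mul_sub, sub_mul, mul_add, add_mul, mul_smul_comm, smul_mul_assoc, mul_one, mul_zero, zero_mul,
        ← Units.val_mul h h⁻¹, mul_inv_cancel, Units.val_one] at h'
      simp only [hYdef, Units.conj_pow]
      exact h'
    have hroot : rootB y := by
      intro i j
      refine hT.phi_inj ?_
      rw [hT.phi_zero]
      have h' := congrArg (fun X : MM => (((P⁻¹ : GLn) : MM) * X * (P : MM)) i j) hY3
      have hcj : ∀ X : Mat, ((P⁻¹ : GLn) : MM) * real w P X * (P : MM) = Matrix.of fun i j => phi w (X i j) := by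
        intro X
        rw [real]
        simp only [← Matrix.mul_assoc, ← Units.val_mul, inv_mul_cancel, Units.val_one, Matrix.one_mul]
        rw [Matrix.mul_assoc, ← Units.val_mul, inv_mul_cancel, Units.val_one, Matrix.mul_one]
      have e2 : Y ^ 2 = real w P (mm y y) := by rw [pow_two, real_mul hT, hy]
      have e3 : Y ^ 3 = real w P (mm y (mm y y)) := by
        rw [real_mul hT, real_mul hT, hy, pow_succ', pow_two]
      rw [e2, e3, ← hy, show (1 : MM) = real w P idM from (real_id hT P fun _ _ => rfl).symm] at h'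
      simp only [mul_sub, sub_mul, mul_add, add_mul, mul_smul_comm, smul_mul_assoc, hcj, mul_zero, zero_mul,
        Matrix.sub_apply, Matrix.add_apply, Matrix.smul_apply, Matrix.of_apply, Matrix.zero_apply, smul_eq_mul] at h'
      simp only [hT.phi_add, hT.phi_mul, hT.phi_neg, hT.phi_nw, hT.phi_wc]
      linear_combination h'
    rw [hyC] at hroot
    obtain ⟨k, hk⟩ := of_decide_eq_true (vecBool_spec root_check (fun i => y i 0)) hroot
    have hyk : y = Cpow k := by rw [hyC]; funext i j; exact hk i j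
    have hm' : m = ext3 (Cpow k) (fun i => m i 0) := ext3_spec m (Cpow k) fun i j => real_inj hT P (by
      rw [real_mul hT, real_mul hT, hC, ← hyk, hy, hm, hYdef, Matrix.mul_assoc, ← Units.val_mul,
        inv_mul_cancel, Units.val_one, Matrix.mul_one]) i j
    have hisu : isu m := by
      intro i j
      refine hT.phi_inj ?_
      have hu : f ((h : MM) *ᵥ J w P (unit i)) ((h : MM) *ᵥ J w P (unit j)) =
          f (J w P (unit i)) (J w P (unit j)) := hhU _ _
      rw [← hP, show (fun k => m k i) = mv m (unit i) from funext fun k => (gram_unit m k i).symm,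
        show (fun k => m k j) = mv m (unit j) from funext fun k => (gram_unit m k j).symm,
        ← real_act hT, ← real_act hT, hm, hu, hP]
      have key : ∀ i j : Fin 3, hf G0 (unit i) (unit j) = G0 i j := by decide +kernel
      rw [key]
    have hd : det3 m = 1 := hT.phi_inj (by
      rw [← det_real hT P, hm, hT.phi_one]; exact congrArg Units.val hdet)
    refine hmem h fun x hx => ?_
    rw [← hm]
    refine mapsTo_of_okStab hT P m ?_ x hx
    rw [hm'] at hisu hd ⊢
    exact okStab_norm k _ hisu hd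
  rcases hmax.2 _ hHM inf_le_right with h | h
  · have hTH : Tg ∈ H := h ▸ ⟨hmem Tg (mapsTo_of_okStab hT P T okStab_T), hTΩ⟩
    rw [hHeq] at hTH
    have hTy : real w P T * Gm * real w P T ∈ K := (hTH.1 Gm).1 hGmK
    refine T_not_normal fun i j => real_inj hT P ?_ i j
    simp only [real_mul hT, hC]
    exact hK.comm _ hTy _ hGmK
  · have hA' : Ag ∈ St ⊓ omegaU 3 F 3 := by rw [h]; exact hAΩ
    obtain ⟨s, hs, hEq⟩ : real w P A *ᵥ J w P (dec 46) ∈ L :=
      ((Subgroup.mem_inf.1 hA').1 _).1 ⟨46, mem_46, rfl⟩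
    rw [real_act hT] at hEq
    have hm := moved
    rw [J_inj hT P hEq, code_dec s hs, List.contains_iff_mem.2 hs] at hm
    exact Bool.noConfusion hm

end Cfsg.Agent.Lib.UnitPrimeDim.ThreeThreeField
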