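import Mathlib
import Cfsg.Prelude.Def_GeometricClasses
import Cfsg.Agent.Lib.UnitPrimeDim.Proper
import Cfsg.Agent.Lib.PrimeDim.OrthProper

/-!
helper26: for `q = 3` an index two subfield group of `SU₃(q)` stabilises three orthogonal lines.
-/

set_option autoImplicit false

namespace Cfsg.Agent.Lib.UnitPrimeDim.ThreeThreeSub

open Matrix Cfsg.Geo
open scoped MatrixGroups Matrix

local notation "Z3" => ZMod 3
local notation "V3" => Fin 3 → ZMod 3

/-- The symmetric bilinear form with six given coefficients. -/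
def bl (a b c d e f : Z3) (u v : V3) : Z3 :=
  u 0 * (a * v 0 + b * v 1 + c * v 2) + u 1 * (b * v 0 + d * v 1 + e * v 2) + u 2 * (c * v 0 + e * v 1 + f * v 2)

/-- One of each pair of opposite non-zero vectors. -/
def pts : List V3 :=
  [![1,0,0], ![0,1,0], ![0,0,1], ![1,1,0], ![1,2,0], ![1,0,1], ![1,0,2], ![0,1,1], ![0,1,2], ![1,1,1], ![1,1,2],
    ![1,2,1], ![1,2,2]]

theorem pts_all : ∀ w : V3, w ≠ 0 → w ∈ pts ∨ -w ∈ pts := by decide +kernel

/-- The representatives on which the form has a given value. -/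
def sel (a b c d e f k : Z3) : List V3 := pts.filter fun w => decide (bl a b c d e f w w = k)

theorem frames : ∀ a b c d e f : Z3, a * (d * f - e * e) - b * (b * f - e * c) + c * (b * e - d * c) ≠ 0 →
    ∃ k : Z3, k ≠ 0 ∧ (sel a b c d e f k).length = 3 ∧ ∀ i j : Fin 3, i ≠ j →
      bl a b c d e f ((sel a b c d e f k).getD i.val 0) ((sel a b c d e f k).getD j.val 0) = 0 := by
  decide +kernel

theorem mul_self_ne_neg_one : ∀ d : Z3, d * d ≠ -1 := by decide

variable {F : Type*} [Field F] [Fintype F]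

theorem charP (hF : Fintype.card F = 3 ^ 2) : CharP F 3 := by
  obtain ⟨p, hp⟩ := CharP.exists F
  haveI := hp
  obtain ⟨n, hp', hn⟩ := FiniteField.card F p
  have h3 : p ∣ 3 := hp'.dvd_of_dvd_pow (n := 2) (hF ▸ hn ▸ dvd_pow_self p n.pos.ne')
  exact ((Nat.prime_dvd_prime_iff_eq hp' Nat.prime_three).1 h3) ▸ hp

theorem subfield_le_decomposition (hF : Fintype.card F = 3 ^ 2) {F0 : Subfield F} (P : GL (Fin 3) F)
    (hc : Fintype.card F = Nat.card F0 ^ 2) (hP : IsFormRationalStructure (Cfsg.hermForm 3 F 3) F0 1 P) :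
    ∃ D : Fin 3 → Submodule F (Fin 3 → F), IsNondegenerateMDecomposition (Cfsg.hermForm 3 F 3) 1 D ∧
      subfieldSubgroup F0 P ⊓ omegaU 3 F 3 ≤ decompositionStabilizer D := by
  classical
  haveI := charP hF
  haveI : Fact (Nat.Prime 3) := ⟨Nat.prime_three⟩
  let φ : Z3 →+* F := ZMod.castHom (dvd_refl 3) F
  have hφi : Function.Injective φ := φ.injective
  have hφF : ∀ z, φ z ∈ F0 := fun z => by
    rw [← ZMod.natCast_zmod_val z, map_natCast]
    exact natCast_mem F0 _
  have hsurj : ∀ x ∈ F0, ∃ z, φ z = x := by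
    have hcard : Nat.card F0 = 3 :=
      Nat.pow_left_injective two_ne_zero (hc.symm.trans hF)
    have hb : Function.Bijective fun z : Z3 => (⟨φ z, hφF z⟩ : F0) := by
      refine (Nat.bijective_iff_injective_and_card _).2 ⟨fun x y h => hφi (congrArg Subtype.val h), ?_⟩
      rw [Nat.card_zmod, hcard]
    intro x hx
    obtain ⟨z, hz⟩ := hb.2 ⟨x, hx⟩
    exact ⟨z, congrArg Subtype.val hz⟩
  let σ : F →+* F := frobenius F 3
  have hσφ : ∀ z, σ (φ z) = φ z := fun z => by
    show φ z ^ 3 = φ z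
    rw [← map_pow, ZMod.pow_card]
  have hσσ : ∀ x : F, σ (σ x) = x := fun x => by
    show (x ^ 3) ^ 3 = x
    rw [← pow_mul, show 3 * 3 = Fintype.card F by rw [hF]; norm_num, FiniteField.pow_card]
  set f := Cfsg.hermForm 3 F 3 with hfdef
  have hfdot : ∀ x y : Fin 3 → F, f x y = x ⬝ᵥ (σ ∘ y) := fun x y => rfl
  -- the Gram matrix
  let M : Matrix (Fin 3) (Fin 3) F := (P : Matrix (Fin 3) (Fin 3) F)ᵀ * (P : Matrix (Fin 3) (Fin 3) F).map σ
  have hMf : ∀ u v : Fin 3 → F, f ((P : Matrix (Fin 3) (Fin 3) F) *ᵥ u) ((P : Matrix (Fin 3) (Fin 3) F) *ᵥ v) =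
      u ⬝ᵥ M *ᵥ (σ ∘ v) := fun u v => by
    have hmv : σ ∘ ((P : Matrix (Fin 3) (Fin 3) F) *ᵥ v) = (P : Matrix (Fin 3) (Fin 3) F).map σ *ᵥ (σ ∘ v) :=
      funext fun i => RingHom.map_mulVec σ _ v i
    rw [hfdot, hmv, ← mulVec_mulVec, dotProduct_mulVec u (P : Matrix (Fin 3) (Fin 3) F)ᵀ, vecMul_transpose]
  let em : V3 → (Fin 3 → F) := fun v => φ ∘ v
  have hem : ∀ v : V3, σ ∘ em v = em v := fun v => funext fun i => hσφ _
  have hes : ∀ i : Fin 3, em (Pi.single i 1) = Pi.single i 1 := fun i => funext fun j => by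
    rcases eq_or_ne j i with rfl | hji <;> simp [em, *]
  have hMij : ∀ i j, M i j ∈ F0 := fun i j => by
    have h := hP (em (Pi.single i 1)) (em (Pi.single j 1)) (fun _ => hφF _) (fun _ => hφF _)
    rw [one_mul, hMf, hem, hes, hes] at h
    simpa [Matrix.mulVec_single_one, single_dotProduct] using h
  choose G hG using fun i j => hsurj _ (hMij i j)
  have hGM : M = (Matrix.of G).map φ := by ext i j; exact (hG i j).symm
  have hsym : ∀ i j, G j i = G i j := fun i j => hφi (by
    have h : σ (M i j) = M j i := by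
      simp only [M, Matrix.mul_apply, Matrix.transpose_apply, Matrix.map_apply, map_sum, map_mul, hσσ]
      exact Finset.sum_congr rfl fun k _ => mul_comm _ _
    rw [hG j i, ← h, ← hG i j, hσφ])
  have hbl : ∀ u v : V3, f ((P : Matrix (Fin 3) (Fin 3) F) *ᵥ em u) ((P : Matrix (Fin 3) (Fin 3) F) *ᵥ em v) =
      φ (bl (G 0 0) (G 0 1) (G 0 2) (G 1 1) (G 1 2) (G 2 2) u v) := fun u v => by
    rw [hMf, hem, hGM]
    simp only [bl, em, dotProduct, Matrix.mulVec, Fin.sum_univ_three, Matrix.map_apply, Matrix.of_apply,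
      Function.comp_apply, map_add, map_mul, hsym 0 1, hsym 0 2, hsym 1 2]
  have hdet0 : (Matrix.of G).det ≠ 0 := by
    intro h
    have h1 : M.det = 0 := by rw [hGM, ← RingHom.mapMatrix_apply, ← RingHom.map_det, h, map_zero]
    simp only [M, Matrix.det_mul, Matrix.det_transpose, ← RingHom.mapMatrix_apply, ← RingHom.map_det,
      mul_eq_zero, map_eq_zero, or_self] at h1
    exact ((Matrix.isUnit_iff_isUnit_det _).1 P.isUnit).ne_zero h1
  obtain ⟨k, hk, hlen, horth⟩ := frames (G 0 0) (G 0 1) (G 0 2) (G 1 1) (G 1 2) (G 2 2) (by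
    intro h
    apply hdet0
    simp only [Matrix.det_fin_three, Matrix.of_apply, hsym 0 1, hsym 0 2, hsym 1 2]
    linear_combination h)
  set L := sel (G 0 0) (G 0 1) (G 0 2) (G 1 1) (G 1 2) (G 2 2) k with hL
  let v : Fin 3 → V3 := fun i => L.getD i.val 0
  have hvmem : ∀ i, v i ∈ L := fun i => by
    have hi : i.val < L.length := by rw [hlen]; exact i.2
    simp only [v, List.getD_eq_getElem _ _ hi]
    exact List.getElem_mem hi
  have hvk : ∀ i, bl (G 0 0) (G 0 1) (G 0 2) (G 1 1) (G 1 2) (G 2 2) (v i) (v i) = k := fun i => by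
    simpa using (List.mem_filter.1 (hvmem i)).2
  have hvall : ∀ w : V3, bl (G 0 0) (G 0 1) (G 0 2) (G 1 1) (G 1 2) (G 2 2) w w = k →
      ∃ i, w = v i ∨ w = -v i := by
    intro w hw
    have hw0 : w ≠ 0 := fun h => hk (by rw [← hw, h]; simp [bl])
    have key : ∀ z : V3, z ∈ pts → bl (G 0 0) (G 0 1) (G 0 2) (G 1 1) (G 1 2) (G 2 2) z z = k → ∃ i, z = v i := by
      intro z hz hzk
      obtain ⟨n, hn, rfl⟩ := List.getElem_of_mem (List.mem_filter.2 ⟨hz, decide_eq_true hzk⟩ : z ∈ L)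
      exact ⟨⟨n, hlen ▸ hn⟩, (List.getD_eq_getElem _ _ hn).symm⟩
    rcases pts_all w hw0 with h | h
    · obtain ⟨i, hi⟩ := key w h hw
      exact ⟨i, Or.inl hi⟩
    · obtain ⟨i, hi⟩ := key (-w) h (by rw [← hw]; simp only [bl, Pi.neg_apply]; ring)
      exact ⟨i, Or.inr (by rw [← hi, neg_neg])⟩
  -- the lines
  let x : Fin 3 → (Fin 3 → F) := fun i => (P : Matrix (Fin 3) (Fin 3) F) *ᵥ em (v i)
  have hxx : ∀ i, f (x i) (x i) = φ k := fun i => by rw [hbl, hvk]
  have hxo : ∀ i j, i ≠ j → f (x i) (x j) = 0 := fun i j hij => by rw [hbl, horth i j hij, map_zero]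
  have hφk : φ k ≠ 0 := fun h => hk (hφi (by rw [h, map_zero]))
  have hx0 : ∀ i, x i ≠ 0 := fun i h => hφk (by rw [← hxx i, h, hfdot, zero_dotProduct])
  have hli : LinearIndependent F x := by
    rw [Fintype.linearIndependent_iff]
    intro a ha j
    have h := congrArg (fun y => f y (x j)) ha
    simp only [hfdot, zero_dotProduct, sum_dotProduct, smul_dotProduct, smul_eq_mul] at h
    rw [Finset.sum_eq_single j (fun i _ hij => by rw [← hfdot, hxo i j hij, mul_zero]) (by simp), ← hfdot, hxx] at h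
    exact (mul_eq_zero.1 h).resolve_right hφk
  let D : Fin 3 → Submodule F (Fin 3 → F) := fun i => Submodule.span F {x i}
  have hdec : IsMDecomposition 1 D := by
    refine ⟨by norm_num, Nat.one_pos, fun i => finrank_span_singleton (hx0 i), hli.iSupIndep_span_singleton, ?_⟩
    rw [show iSup D = Submodule.span F (Set.range x) from Submodule.span_range_eq_iSup.symm]
    exact hli.span_eq_top_of_card_eq_finrank (by simp)
  have hσsmul : ∀ (a : F) (y : Fin 3 → F), σ ∘ (a • y) = σ a • (σ ∘ y) := fun a y => funext fun l => map_mul σ _ _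
  refine ⟨D, ⟨hdec, ?_, ?_⟩, ?_⟩
  · intro i w hw hw0
    obtain ⟨a, rfl⟩ := Submodule.mem_span_singleton.1 hw
    have ha : a ≠ 0 := fun h => hw0 (by rw [h, zero_smul])
    refine ⟨⟨x i, Submodule.mem_span_singleton_self _, ?_⟩, ⟨x i, Submodule.mem_span_singleton_self _, ?_⟩⟩
    · rw [hfdot, hσsmul, dotProduct_smul, ← hfdot, hxx, smul_eq_mul]
      exact mul_ne_zero ((map_ne_zero σ).2 ha) hφk
    · rw [hfdot, smul_dotProduct, ← hfdot, hxx, smul_eq_mul]
      exact mul_ne_zero ha hφk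
  · intro i j hij y hy z hz
    obtain ⟨a, rfl⟩ := Submodule.mem_span_singleton.1 hy
    obtain ⟨b, rfl⟩ := Submodule.mem_span_singleton.1 hz
    rw [hfdot, hσsmul, smul_dotProduct, dotProduct_smul, ← hfdot, hxo i j hij, smul_zero, smul_zero]
  intro g ⟨hg, hgU⟩
  obtain ⟨c, A, hA⟩ := Cfsg.Agent.Lib.PrimeDim.OrthProper.exists_of_mem_subfieldSubgroup hg
  choose A' hA' using fun i j => hsurj (((A : Matrix (Fin 3) (Fin 3) F0) i j : F0) : F) (Subtype.coe_prop _)
  have hmap : (A : Matrix (Fin 3) (Fin 3) F0).map F0.subtype = (Matrix.of A').map φ := by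
    ext i j; exact (hA' i j).symm
  have hact : ∀ u : V3, (g : Matrix (Fin 3) (Fin 3) F) *ᵥ ((P : Matrix (Fin 3) (Fin 3) F) *ᵥ em u) =
      (c : F) • ((P : Matrix (Fin 3) (Fin 3) F) *ᵥ em (Matrix.of A' *ᵥ u)) := fun u => by
    rw [mulVec_mulVec, ← Units.val_mul, show g * P = P * (P⁻¹ * g * P) by group, Units.val_mul, hA, hmap,
      ← mulVec_mulVec, smul_mulVec, mulVec_smul]
    congr 2
    exact funext fun i => (RingHom.map_mulVec φ _ u i).symm
  have hiso : ∀ u w : V3, ((c : F) * σ c) * φ (bl (G 0 0) (G 0 1) (G 0 2) (G 1 1) (G 1 2) (G 2 2)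
      (Matrix.of A' *ᵥ u) (Matrix.of A' *ᵥ w)) = φ (bl (G 0 0) (G 0 1) (G 0 2) (G 1 1) (G 1 2) (G 2 2) u w) := by
    intro u w
    have h : f ((g : Matrix (Fin 3) (Fin 3) F) *ᵥ ((P : Matrix (Fin 3) (Fin 3) F) *ᵥ em u))
        ((g : Matrix (Fin 3) (Fin 3) F) *ᵥ ((P : Matrix (Fin 3) (Fin 3) F) *ᵥ em w)) =
        f ((P : Matrix (Fin 3) (Fin 3) F) *ᵥ em u) ((P : Matrix (Fin 3) (Fin 3) F) *ᵥ em w) := hgU.1 _ _
    rw [hact, hact] at h
    rw [← hbl, ← hbl, ← h]
    simp only [hfdot, hσsmul, smul_dotProduct, dotProduct_smul, smul_eq_mul]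
    ring
  have hc1 : (c : F) * σ c = 1 := by
    have h8 : ((c : F) * σ c) * ((c : F) * σ c) = 1 := by
      show ((c : F) * (c : F) ^ 3) * ((c : F) * (c : F) ^ 3) = 1
      have := FiniteField.pow_card_sub_one_eq_one (c : F) c.ne_zero
      rw [hF] at this
      norm_num at this
      linear_combination this
    refine (mul_self_eq_one_iff.1 h8).resolve_right fun hm => ?_
    have hmat : (Matrix.of A')ᵀ * Matrix.of G * Matrix.of A' = -Matrix.of G := by
      ext i j
      have h := hiso (Pi.single i 1) (Pi.single j 1)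
      rw [hm, neg_one_mul, neg_eq_iff_eq_neg, ← map_neg] at h
      have e1 := hφi h
      simp only [Matrix.mul_apply, Matrix.transpose_apply, Matrix.of_apply, Matrix.neg_apply, Fin.sum_univ_three,
        bl, Matrix.mulVec, dotProduct, Pi.single_apply] at e1 ⊢
      fin_cases i <;> fin_cases j <;> simp [hsym 0 1, hsym 0 2, hsym 1 2] at e1 ⊢ <;> linear_combination e1
    have h := congrArg Matrix.det hmat
    rw [Matrix.det_mul, Matrix.det_mul, Matrix.det_transpose, Matrix.det_neg, Fintype.card_fin] at h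
    have h' : (Matrix.of A').det * (Matrix.of A').det = -1 :=
      mul_right_cancel₀ hdet0 (by linear_combination h)
    exact absurd h' (mul_self_ne_neg_one _)
  have himg : ∀ i, ∃ j, (D i).map (Matrix.toLin' (g : Matrix (Fin 3) (Fin 3) F)) = D j := by
    intro i
    have h := hiso (v i) (v i)
    rw [hc1, one_mul, hvk] at h
    obtain ⟨j, hj⟩ := hvall _ (hφi h)
    refine ⟨j, ?_⟩
    have hgx : (g : Matrix (Fin 3) (Fin 3) F) *ᵥ x i = (c : F) • x j ∨
        (g : Matrix (Fin 3) (Fin 3) F) *ᵥ x i = (-(c : F)) • x j := by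
      rw [hact]
      rcases hj with hj | hj
      · left; rw [hj]
      · right
        rw [hj, show em (-v j) = -em (v j) from funext fun l => map_neg φ _, mulVec_neg, smul_neg, neg_smul]
    simp only [D, Submodule.map_span, Set.image_singleton, Matrix.toLin'_apply]
    rcases hgx with h | h <;> rw [h]
    · exact Submodule.span_singleton_smul_eq c.isUnit _
    · exact Submodule.span_singleton_smul_eq c.isUnit.neg _
  choose τ hτ using himg
  have hτi : Function.Injective τ := by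
    intro i j hij
    have h : D i = D j := Submodule.map_injective_of_injective
      (f := Matrix.toLin' (g : Matrix (Fin 3) (Fin 3) F))
      (fun a b hab => Matrix.mulVec_injective_iff_isUnit.2 g.isUnit (by simpa using hab))
      (by rw [hτ, hτ, hij])
    by_contra hne
    have hd := hdec.indep.pairwiseDisjoint hne
    rw [Function.onFun, ← h, disjoint_self] at hd
    exact hx0 i (Submodule.span_singleton_eq_bot.1 hd)
  exact ⟨Equiv.ofBijective τ (Finite.injective_iff_bijective.1 hτi), hτ⟩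

end Cfsg.Agent.Lib.UnitPrimeDim.ThreeThreeSub
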